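import Cfsg.Agent.H917.Conj.Basic
import Cfsg.Agent.Characters.SchurBound
import Cfsg.Agent.CharactersDeep.CosetAverage
import Mathlib
import Cfsg.Prelude.Def_Classical
import Cfsg.Agent.UThreeGen.Recog
import Cfsg.Agent.LieClassical.HermBasic
import Cfsg.Agent.S0282
import Cfsg.Agent.H937.Conj.CC
import Cfsg.Agent.H917.CJ.Frame
import Cfsg.Agent.ClassicalGeometry.HermOrthonormal
import Cfsg.Agent.LieClassical.SUBasic
import Cfsg.Agent.ClassicalGeometry.SympInvolutions
import Cfsg.Agent.S0822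
import Cfsg.Agent.S0279
import Cfsg.Agent.S0252
import Cfsg.Agent.S0253
import Cfsg.Agent.S0254
import Cfsg.Agent.CharactersDeep.ColumnBessel
import Cfsg.Agent.H129.CycRow
import Cfsg.Agent.S2341
import Cfsg.Agent.S1070
import Cfsg.Agent.Classification.DihTypeANumbers_m3
import Cfsg.Agent.H417.BlockCount
import Cfsg.Agent.H120.Cyc.Rows
import Cfsg.Agent.S2338
import Cfsg.Agent.S1059
import Cfsg.Agent.S1055
import Cfsg.Agent.SmallSimple.SelfCentSum
import Cfsg.Agent.H514.DP.Cyc_m3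
import Cfsg.Agent.H267.ConjF4.Deg
import Cfsg.Agent.H378.RegE7
import Cfsg.Agent.S1062
import Cfsg.Agent.H378.SmallTor_m3
import Cfsg.Agent.H493.EigFast
import Cfsg.Agent.H704.S8.Defs_m3
import Cfsg.Agent.Lib.FastPerm
import Cfsg.Agent.H93.CJ.Pi_m3
import Cfsg.Agent.H93.CJ.OOdd
import Cfsg.Agent.ETable.OrthBase
import Cfsg.Agent.H890.SpParity
import Cfsg.Agent.ClassicalGeometry.OrthSemi
import Cfsg.Agent.LieRecognition.SzMatrix
import Cfsg.Agent.H416.Arith
import Cfsg.Agent.S1065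
import Cfsg.Agent.H293.Conj.CC
import Cfsg.Agent.S1054
import Cfsg.Agent.S2339
import Cfsg.Agent.S2343
import Cfsg.Agent.S1159
import Cfsg.Agent.S1158
import Cfsg.Agent.LieRecognition.ReeTorusTw
import Cfsg.Agent.Characters.CCCounting
import Cfsg.Agent.H56.Exc.ToriAll
import Cfsg.Agent.H681.SimpleChar
import Cfsg.Agent.S2342
import Cfsg.Agent.S1071
import Cfsg.Agent.H507.Conj.Cc
import Cfsg.Agent.S2340
import Cfsg.Agent.H129.CycCardF
import Cfsg.Agent.H120.Cyc.DegE_m3
import Cfsg.Prelude.Def_Classification2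
import Cfsg.Agent.H476.Conj.Tits
import Cfsg.Agent.FastGrp
import Cfsg.Agent.Prune
set_option linter.all false

section
prune_inst 0x7f00000000000000000000000000000000000000000000000000000000000000000000000000000000000000000000000000000000000000000000000000000000000000000000000000000000000000003ffcfffffffffffffffff7ffffffbeffbde3fefffd

-- part: H430/Conj/Heis
section
prune_inst 0xfffffaffaefbffdfff7fbffefadffc77c6affff6fffd73ffe4efbfebdf7fb36fc7fb8fefebfafedf77e2b414f87bd3fb7eefffea6fdcfffffd57b4dffbffdfedf7bd0951df9cb40eae2fff63f17f3eef000100000000000000000800000041004208000002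
set_option linter.all false
open scoped Cfsg.Agent.FastGrp

/-!
# Tool H2: fixed vectors of a group acting on a Heisenberg group (S4792, helper430)
-/

set_option autoImplicit false

open Cfsg
open scoped ComplexConjugate

namespace Cfsg.Agent.H430.Conj

open Cfsg.Agent.Characters.Core

universe u v

section abstractX

variable {K : Type u} [Group K] [Finite K]

/-- If `X` vanishes on `Q ∖ Z`, has absolute value `X 1` on `Z` and constant absolute value on `Q d` then
`|X d|² |Q| ≤ |Z| (X 1)²`. -/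
theorem norm_sq_mul_card_le {X : K → ℂ} (hX : IsCharacter K X) {n : ℕ} (hn : X 1 = n) (Q Z : Subgroup K) [Q.Normal]
    (hZQ : Z ≤ Q) (h0 : ∀ y ∈ Q, y ∉ Z → X y = 0) (d : K) (hd : ∀ y ∈ Q, ‖X (y * d)‖ = ‖X d‖) :
    ‖X d‖ ^ 2 * Nat.card Q ≤ Nat.card Z * (n : ℝ) ^ 2 := by
  classical
  have hQf : Fintype Q := Fintype.ofFinite _
  have hψ : IsCharacter K (fun g => X g * conj (X g)) := isCharacter_mul hX (isCharacter_conj hX)
  have hΨ := CharactersDeep.CosetAverage.isCharacter_cosetAverage Q hψ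
  obtain ⟨m, hm⟩ := isCharacter_apply_one hΨ
  have h1 := Cfsg.Agent.Characters.SchurBound.norm_le hΨ hm d
  have hval : ∀ g : K, X g * conj (X g) = ((‖X g‖ ^ 2 : ℝ) : ℂ) := by
    intro g
    rw [Complex.mul_conj, Complex.normSq_eq_norm_sq]
  have hcQ : (0 : ℝ) < Nat.card Q := by exact_mod_cast Nat.card_pos
  have hcQ' : (Nat.card Q : ℂ) ≠ 0 := by exact_mod_cast Nat.card_pos.ne'
  -- the value at `d`
  have h2 : (Nat.card Q : ℂ)⁻¹ * ∑ y : Q, X ((y : K) * d) * conj (X ((y : K) * d)) = ((‖X d‖ ^ 2 : ℝ) : ℂ) := by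
    have : ∀ y : Q, X ((y : K) * d) * conj (X ((y : K) * d)) = ((‖X d‖ ^ 2 : ℝ) : ℂ) := by
      intro y
      rw [hval, hd y y.2]
    rw [Finset.sum_congr rfl fun y _ => this y, Finset.sum_const, Finset.card_univ, ← Nat.card_eq_fintype_card,
      nsmul_eq_mul, ← mul_assoc, inv_mul_cancel₀ hcQ', one_mul]
  -- the value at `1`
  have h3 : ∑ y : Q, X ((y : K) * 1) * conj (X ((y : K) * 1)) = (((∑ y : Q, ‖X (y : K)‖ ^ 2 : ℝ)) : ℂ) := by
    push_cast
    refine Finset.sum_congr rfl fun y _ => ?_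
    rw [mul_one, hval]
    push_cast
    rfl
  have h4 : (∑ y : Q, ‖X (y : K)‖ ^ 2 : ℝ) ≤ Nat.card Z * (n : ℝ) ^ 2 := by
    have h5 : (∑ y : Q, ‖X (y : K)‖ ^ 2 : ℝ) = ∑ y ∈ Finset.univ.filter (fun y : Q => (y : K) ∈ Z), ‖X (y : K)‖ ^ 2 := by
      rw [Finset.sum_filter]
      refine Finset.sum_congr rfl fun y _ => ?_
      split_ifs with hy
      · rfl
      · rw [h0 y y.2 hy]; simp
    rw [h5]
    have h6 : (Finset.univ.filter (fun y : Q => (y : K) ∈ Z)).card = Nat.card Z := by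
      rw [← Fintype.card_subtype, ← Nat.card_eq_fintype_card]
      refine Nat.card_congr ?_
      exact
        { toFun := fun y => ⟨y.1, y.2⟩
          invFun := fun z => ⟨⟨z.1, hZQ z.2⟩, z.2⟩
          left_inv := fun y => rfl
          right_inv := fun z => rfl }
    calc (∑ y ∈ Finset.univ.filter (fun y : Q => (y : K) ∈ Z), ‖X (y : K)‖ ^ 2 : ℝ)
        ≤ ∑ _y ∈ Finset.univ.filter (fun y : Q => (y : K) ∈ Z), (n : ℝ) ^ 2 := by
          refine Finset.sum_le_sum fun y _ => ?_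
          exact pow_le_pow_left₀ (norm_nonneg _) (Cfsg.Agent.Characters.SchurBound.norm_le hX hn _) 2
      _ = _ := by rw [Finset.sum_const, h6, nsmul_eq_mul]
  have h7 : (m : ℝ) * Nat.card Q = ∑ y : Q, ‖X (y : K)‖ ^ 2 := by
    have h8 : (m : ℂ) * Nat.card Q = (((∑ y : Q, ‖X (y : K)‖ ^ 2 : ℝ)) : ℂ) := by
      rw [← hm, ← h3]
      field_simp
    exact_mod_cast h8
  have h9 : ‖X d‖ ^ 2 ≤ (m : ℝ) := by
    rw [h2, Complex.norm_real, Real.norm_of_nonneg (by (clear * -; positivity))] at h1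
    exact h1
  nlinarith only [h4, h7, h9]

end abstractX

section heis

variable {G : Type u} [Group G] [Finite G]

/-- The weight space. -/
def wt {V : Type*} [AddCommGroup V] [Module ℂ V] (ρ : Representation ℂ G V) (Z : Subgroup G) (l : Z →* ℂˣ) :
    Submodule ℂ V where
  carrier := {v | ∀ z : Z, ρ z v = (l z : ℂ) • v}
  zero_mem' := by intro z; simp
  add_mem' := by
    intro v w hv hw z
    rw [map_add, hv z, hw z, smul_add]
  smul_mem' := by
    intro c v hv z
    rw [map_smul, hv z, smul_comm]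

/-- The stabiliser of `l` in the normaliser of `Z`, as the subgroup of all `g` with `g z = z' g`, `l z' = l z`. -/
def stab (Z : Subgroup G) (l : Z →* ℂˣ) : Subgroup G where
  carrier := {g | ∀ z : Z, (∃ z' : Z, (z' : G) = g * z * g⁻¹ ∧ l z' = l z) ∧ (∃ z' : Z, (z' : G) = g⁻¹ * z * g ∧ l z' = l z)}
  one_mem' := by
    intro z
    exact ⟨⟨z, by simp, rfl⟩, ⟨z, by simp, rfl⟩⟩
  mul_mem' := by
    intro g h hg hh z
    obtain ⟨⟨z1, h1, h1'⟩, -⟩ := hh z
    obtain ⟨⟨z2, h2, h2'⟩, -⟩ := hg z1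
    obtain ⟨-, ⟨z3, h3, h3'⟩⟩ := hg z
    obtain ⟨-, ⟨z4, h4, h4'⟩⟩ := hh z3
    exact ⟨⟨z2, by rw [h2, h1]; group, h2'.trans h1'⟩, ⟨z4, by rw [h4, h3]; group, h4'.trans h3'⟩⟩
  inv_mem' := by
    intro g hg z
    obtain ⟨⟨z1, h1, h1'⟩, ⟨z2, h2, h2'⟩⟩ := hg z
    exact ⟨⟨z2, by rw [h2]; group, h2'⟩, ⟨z1, by rw [h1]; group, h1'⟩⟩

omit [Finite G] in
theorem stab_wt {V : Type*} [AddCommGroup V] [Module ℂ V] {ρ : Representation ℂ G V} {Z : Subgroup G} {l : Z →* ℂˣ}
    {g : G} (hg : g ∈ stab Z l) {v : V} (hv : v ∈ wt ρ Z l) : ρ g v ∈ wt ρ Z l := by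
  intro z
  obtain ⟨-, ⟨z', h1, h2⟩⟩ := hg z
  have h3 : (z : G) * g = g * z' := by rw [h1]; group
  calc ρ z (ρ g v) = ρ (z * g) v := by rw [map_mul, Module.End.mul_apply]
    _ = ρ g (ρ z' v) := by rw [h3, map_mul, Module.End.mul_apply]
    _ = _ := by rw [hv z', map_smul, h2]

/-- **Tool H2.** `Z ≤ Q` central in `Q`, `D` normalises `Q` and `Z`, acts without fixed points on `Q / Z` and fixes the
linear character `l` of `Z`, the commutator form of `l` on `Q / Z` is nondegenerate and `|D|² ≤ |Q : Z|`. If `l` occurs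
in `ρ` then `D` fixes a nonzero vector in the `l`-eigenspace of `Z`. -/
theorem exists_fixed_heis {V : Type*} [AddCommGroup V] [Module ℂ V] [FiniteDimensional ℂ V]
    (ρ : Representation ℂ G V) {Q Z D : Subgroup G} (hZQ : Z ≤ Q) (hZ : ∀ z ∈ Z, ∀ y ∈ Q, z * y = y * z)
    (hDQ : ∀ d ∈ D, ∀ y ∈ Q, d * y * d⁻¹ ∈ Q) (hDZ : ∀ d ∈ D, ∀ z ∈ Z, d * z * d⁻¹ ∈ Z)
    (hfp : ∀ d ∈ D, d ≠ 1 → ∀ y ∈ Q, d * y * d⁻¹ * y⁻¹ ∈ Z → y ∈ Z)
    {l : Z →* ℂˣ} (hD : ∀ d ∈ D, ∀ a b : Z, (b : G) = d * a * d⁻¹ → l b = l a) (hl : Occ Z l ρ.character)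
    (hnd : ∀ y ∈ Q, y ∉ Z → ∃ y' ∈ Q, ∃ z : Z, (z : G) = y * y' * y⁻¹ * y'⁻¹ ∧ l z ≠ 1)
    (hcard : Nat.card D ^ 2 * Nat.card Z ≤ Nat.card Q) :
    ∃ v : V, v ≠ 0 ∧ (∀ z : Z, ρ z v = (l z : ℂ) • v) ∧ ∀ d ∈ D, ρ d v = v := by
  classical
  -- the acting group
  let K : Subgroup G := Subgroup.normalizer (Q : Set G) ⊓ stab Z l
  have hQK : Q ≤ K := by
    refine le_inf Subgroup.le_normalizer ?_
    intro y hy z
    have h1 : y * z * y⁻¹ = z := by rw [← hZ z z.2 y hy]; group
    have h2 : y⁻¹ * z * y = z := by rw [mul_assoc, hZ z z.2 y hy]; group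
    exact ⟨⟨z, h1.symm, rfl⟩, ⟨z, h2.symm, rfl⟩⟩
  have hDinv : ∀ d ∈ D, ∀ y ∈ Q, d⁻¹ * y * d ∈ Q := by
    intro d hd y hy
    have := hDQ d⁻¹ (D.inv_mem hd) y hy
    rwa [inv_inv] at this
  have hDK : D ≤ K := by
    intro d hd
    refine ⟨?_, ?_⟩
    · refine Subgroup.mem_normalizer_iff.2 ?_
      intro y
      refine ⟨fun hy => hDQ d hd y hy, fun hy => ?_⟩
      have := hDinv d hd _ hy
      have h2 : d⁻¹ * (d * y * d⁻¹) * d = y := by group
      rwa [h2] at this
    · intro z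
      refine ⟨⟨⟨d * z * d⁻¹, hDZ d hd z z.2⟩, rfl, hD d hd _ _ rfl⟩, ?_⟩
      have h1 := hDZ d⁻¹ (D.inv_mem hd) z z.2
      rw [inv_inv] at h1
      exact ⟨⟨d⁻¹ * z * d, h1⟩, rfl, hD d⁻¹ (D.inv_mem hd) _ _ (by simp)⟩
  let W : Submodule ℂ V := wt ρ Z l
  -- the representation of `K` on the weight space
  let σ : Representation ℂ K W :=
    { toFun := fun g => (ρ (g : G)).restrict (fun v hv => stab_wt g.2.2 hv)
      map_one' := by
        ext v
        simp only [LinearMap.restrict_apply, _root_.OneMemClass.coe_one, _root_.map_one, _root_.Module.End.one_apply, _root_.Subtype.coe_eta]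
      map_mul' := by
        intro g h
        ext v
        simp only [LinearMap.restrict_apply, _root_.Subgroup.coe_mul, _root_.map_mul, _root_.Module.End.mul_apply] }
  have hσ : ∀ (g : K) (v : W), ((σ g v : W) : V) = ρ (g : G) v := fun g v => rfl
  have hWnt : Nontrivial W := by
    obtain ⟨v, hv, hv'⟩ := hl.exists_vector
    exact ⟨⟨⟨v, hv'⟩, 0, fun h => hv (congrArg Subtype.val h)⟩⟩
  let X : K → ℂ := σ.character
  have hX : IsCharacter K X := isCharacter_of_rep σ
  have hX1 : X 1 = (Module.finrank ℂ W : ℂ) := Representation.char_one σ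
  have hdim : 0 < Module.finrank ℂ W := Module.finrank_pos
  -- `Z` acts by scalars
  have hXz : ∀ (g : K) (z : Z), X (g * ⟨z, hQK (hZQ z.2)⟩) = (l z : ℂ) * X g := by
    intro g z
    have h1 : σ (g * ⟨z, hQK (hZQ z.2)⟩) = (l z : ℂ) • σ g := by
      refine LinearMap.ext fun v => ?_
      rw [map_mul, Module.End.mul_apply, LinearMap.smul_apply]
      have h2 : σ ⟨z, hQK (hZQ z.2)⟩ v = (l z : ℂ) • v := by
        apply Subtype.ext
        rw [hσ]
        exact v.2 z
      rw [h2, map_smul]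
    change LinearMap.trace ℂ _ (σ _) = _ * LinearMap.trace ℂ _ (σ g)
    rw [h1, map_smul, smul_eq_mul]
  have hlnorm : ∀ z : Z, ‖(l z : ℂ)‖ = 1 := by
    intro z
    have h1 : (l z) ^ Nat.card Z = 1 := by rw [← map_pow, pow_card_eq_one', map_one]
    have h2 : ((l z : ℂ)) ^ Nat.card Z = 1 := by
      have := congrArg (fun u : ℂˣ => (u : ℂ)) h1
      simpa only [_root_.Units.val_pow_eq_pow_val, _root_.Units.val_one] using this
    exact Complex.norm_eq_one_of_pow_eq_one h2 Nat.card_pos.ne'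
  have hcl : ∀ g h : K, X (h * g * h⁻¹) = X g := fun g h => (isCharacter_isClassFunction hX) g h
  let Q' : Subgroup K := Q.subgroupOf K
  let Z' : Subgroup K := Z.subgroupOf K
  have hQ'n : Q'.Normal := by
    constructor
    intro y hy g
    rw [Subgroup.mem_subgroupOf] at hy ⊢
    exact (Subgroup.mem_normalizer_iff.1 g.2.1 y).1 hy
  have hcQ : Nat.card Q' = Nat.card Q := Nat.card_congr (Subgroup.subgroupOfEquivOfLe hQK).toEquiv
  have hcZ : Nat.card Z' = Nat.card Z := Nat.card_congr (Subgroup.subgroupOfEquivOfLe (hZQ.trans hQK)).toEquiv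
  have hZQ' : Z' ≤ Q' := fun z hz => hZQ hz
  have hX0 : ∀ y ∈ Q', y ∉ Z' → X y = 0 := by
    intro y hy hyZ
    obtain ⟨y', hy', z, hz, hlz⟩ := hnd y hy hyZ
    -- `y' y⁻¹... `
    have h1 : (⟨y', hQK hy'⟩ : K) * y * (⟨y', hQK hy'⟩ : K)⁻¹ = y * ⟨(z⁻¹ : Z), hQK (hZQ (z⁻¹).2)⟩ := by
      apply Subtype.ext
      change y' * (y : G) * y'⁻¹ = y * ((z⁻¹ : Z) : G)
      have hcomm : ((z⁻¹ : Z) : G) * y = y * ((z⁻¹ : Z) : G) := hZ _ (z⁻¹).2 _ hy
      rw [← hcomm, Subgroup.coe_inv, hz]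
      group
    have h2 := hcl y ⟨y', hQK hy'⟩
    rw [h1, hXz] at h2
    have h3 : ((l z⁻¹ : ℂˣ) : ℂ) ≠ 1 := by
      intro h
      apply hlz
      have : l z⁻¹ = 1 := Units.ext h
      rw [map_inv, inv_eq_one] at this
      exact this
    have h4 : (((l z⁻¹ : ℂˣ) : ℂ) - 1) * X y = 0 := by rw [sub_mul, h2, one_mul, sub_self]
    exact (mul_eq_zero.1 h4).resolve_left (sub_ne_zero.2 h3)
  -- conjugates of `d`
  have hconj : ∀ d : G, (hd : d ∈ D) → d ≠ 1 → ∀ y ∈ Q, ∃ u ∈ Q, ∃ z ∈ Z, y = u * d * u⁻¹ * d⁻¹ * z := by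
    intro d hd hd1
    have hZn : (Z.subgroupOf Q).Normal := by
      constructor
      intro z hz y
      rw [Subgroup.mem_subgroupOf] at hz ⊢
      have : (((y * z * y⁻¹ : Q)) : G) = z := by
        change (y : G) * z * (y : G)⁻¹ = z
        rw [← hZ z hz y y.2]; group
      rw [this]; exact hz
    let f : Q → Q := fun u => ⟨u * d * (u : G)⁻¹ * d⁻¹, by
      have h1 := hDQ d hd (u : G)⁻¹ (Q.inv_mem u.2)
      have h2 := Q.mul_mem u.2 h1
      simpa only [mul_assoc] using h2⟩
    let F : Q ⧸ Z.subgroupOf Q → Q ⧸ Z.subgroupOf Q := Quotient.map' f (by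
      intro a b hab
      rw [QuotientGroup.leftRel_apply] at hab ⊢
      rw [Subgroup.mem_subgroupOf] at hab ⊢
      change ((a : G) * d * (a : G)⁻¹ * d⁻¹)⁻¹ * ((b : G) * d * (b : G)⁻¹ * d⁻¹) ∈ Z
      have hab' : (a : G)⁻¹ * b ∈ Z := hab
      set z : G := (a : G)⁻¹ * b with hz
      have hb : (b : G) = a * z := by rw [hz]; group
      have hzd : d * z⁻¹ * d⁻¹ ∈ Z := hDZ d hd _ (Z.inv_mem hab')
      have e1 : z * (d * (a : G)⁻¹ * d⁻¹) = (d * (a : G)⁻¹ * d⁻¹) * z :=
        hZ z hab' _ (hDQ d hd _ (Q.inv_mem a.2))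
      have e2 : ((a : G) * d * (a : G)⁻¹ * d⁻¹)⁻¹ * ((b : G) * d * (b : G)⁻¹ * d⁻¹)
          = (d * z⁻¹ * d⁻¹) * z := by
        have e3 : (d * z⁻¹ * d⁻¹) * (d * (a : G)⁻¹ * d⁻¹) = (d * (a : G)⁻¹ * d⁻¹) * (d * z⁻¹ * d⁻¹) :=
          hZ _ hzd _ (hDQ d hd _ (Q.inv_mem a.2))
        rw [hb]
        calc ((a : G) * d * (a : G)⁻¹ * d⁻¹)⁻¹ * ((a * z : G) * d * (a * z : G)⁻¹ * d⁻¹)
            = (d * (a : G)⁻¹ * d⁻¹)⁻¹ * (z * ((d * z⁻¹ * d⁻¹) * (d * (a : G)⁻¹ * d⁻¹))) := by group
          _ = (d * (a : G)⁻¹ * d⁻¹)⁻¹ * (z * ((d * (a : G)⁻¹ * d⁻¹) * (d * z⁻¹ * d⁻¹))) := by rw [e3]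
          _ = (d * (a : G)⁻¹ * d⁻¹)⁻¹ * ((z * (d * (a : G)⁻¹ * d⁻¹)) * (d * z⁻¹ * d⁻¹)) := by group
          _ = (d * (a : G)⁻¹ * d⁻¹)⁻¹ * (((d * (a : G)⁻¹ * d⁻¹) * z) * (d * z⁻¹ * d⁻¹)) := by rw [e1]
          _ = z * (d * z⁻¹ * d⁻¹) := by group
          _ = (d * z⁻¹ * d⁻¹) * z := hZ z hab' _ (hZQ hzd)
      rw [e2]
      exact Z.mul_mem hzd hab')
    have hF : Function.Injective F := by
      intro a b hab
      induction a using QuotientGroup.induction_on with | _ a => ?_
      induction b using QuotientGroup.induction_on with | _ b => ?_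
      have h1 : (QuotientGroup.mk (f a) : Q ⧸ Z.subgroupOf Q) = QuotientGroup.mk (f b) := hab
      rw [QuotientGroup.eq, Subgroup.mem_subgroupOf] at h1 ⊢
      change ((a : G) * d * (a : G)⁻¹ * d⁻¹)⁻¹ * ((b : G) * d * (b : G)⁻¹ * d⁻¹) ∈ Z at h1
      change (a : G)⁻¹ * (b : G) ∈ Z
      refine hfp d hd hd1 _ (Q.mul_mem (Q.inv_mem a.2) b.2) ?_
      -- `s := (d a⁻¹ d⁻¹)⁻¹ a⁻¹ b (d b⁻¹ d⁻¹) ∈ Z`
      have h2 := Z.inv_mem h1
      -- s⁻¹ = (d b d⁻¹) b⁻¹ a (d a⁻¹ d⁻¹)
      set s : G := (((a : G) * d * (a : G)⁻¹ * d⁻¹)⁻¹ * ((b : G) * d * (b : G)⁻¹ * d⁻¹))⁻¹ with hs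
      have hq : (d * (a : G)⁻¹ * d⁻¹) ∈ Q := hDQ d hd _ (Q.inv_mem a.2)
      have e1 : d * ((a : G)⁻¹ * (b : G)) * d⁻¹ * ((a : G)⁻¹ * (b : G))⁻¹ = s := by
        have e2 : d * ((a : G)⁻¹ * (b : G)) * d⁻¹ * ((a : G)⁻¹ * (b : G))⁻¹
            = (d * (a : G)⁻¹ * d⁻¹) * s * (d * (a : G)⁻¹ * d⁻¹)⁻¹ := by
          rw [hs]; group
        rw [e2, ← hZ s h2 _ hq]
        group
      rw [e1]
      exact h2
    have hFs : Function.Surjective F := Finite.injective_iff_surjective.1 hF
    intro y hy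
    obtain ⟨u, hu⟩ := hFs (QuotientGroup.mk ⟨y, hy⟩)
    induction u using QuotientGroup.induction_on with | _ u => ?_
    have h1 : (QuotientGroup.mk (f u) : Q ⧸ Z.subgroupOf Q) = QuotientGroup.mk ⟨y, hy⟩ := hu
    rw [QuotientGroup.eq, Subgroup.mem_subgroupOf] at h1
    refine ⟨u, u.2, _, h1, ?_⟩
    change y = (u : G) * d * (u : G)⁻¹ * d⁻¹ * (((u : G) * d * (u : G)⁻¹ * d⁻¹)⁻¹ * y)
    group
  have hXd : ∀ d : K, (d : G) ∈ D → d ≠ 1 → ∀ y ∈ Q', ‖X (y * d)‖ = ‖X d‖ := by
    intro d hd hd1 y hy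
    obtain ⟨u, hu, z, hz, hyz⟩ := hconj d hd (fun h => hd1 (Subtype.ext h)) y hy
    have hz' : (d : G)⁻¹ * z * d ∈ Z := by
      have := hDZ (d : G)⁻¹ (D.inv_mem hd) z hz
      rwa [inv_inv] at this
    have h1 : y * d = (⟨u, hQK hu⟩ : K) * (d * ⟨(d : G)⁻¹ * z * d, hQK (hZQ hz')⟩) * (⟨u, hQK hu⟩ : K)⁻¹ := by
      apply Subtype.ext
      change (y : G) * d = u * (d * ((d : G)⁻¹ * z * d)) * u⁻¹
      have e1 : ((d : G)⁻¹ * z * d) * u⁻¹ = u⁻¹ * ((d : G)⁻¹ * z * d) := hZ _ hz' _ (Q.inv_mem hu)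
      rw [hyz]
      calc u * (d : G) * u⁻¹ * (d : G)⁻¹ * z * d = u * d * (u⁻¹ * ((d : G)⁻¹ * z * d)) := by group
        _ = u * d * (((d : G)⁻¹ * z * d) * u⁻¹) := by rw [e1]
        _ = _ := by group
    rw [h1, hcl, hXz d ⟨_, hz'⟩, norm_mul, hlnorm, one_mul]
  -- the bound
  have hDpos : (0 : ℝ) < Nat.card D := by exact_mod_cast Nat.card_pos
  have hZpos : (0 : ℝ) < Nat.card Z := by exact_mod_cast Nat.card_pos
  have hbound : ∀ d : K, (d : G) ∈ D → d ≠ 1 → (Nat.card D : ℝ) * ‖X d‖ ≤ Module.finrank ℂ W := by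
    intro d hd hd1
    have h1 := norm_sq_mul_card_le hX hX1 Q' Z' hZQ' hX0 d (hXd d hd hd1)
    rw [hcQ, hcZ] at h1
    have h2 : ((Nat.card D : ℝ)) ^ 2 * Nat.card Z ≤ Nat.card Q := by exact_mod_cast hcard
    have h3 : ‖X d‖ ^ 2 * (((Nat.card D : ℝ)) ^ 2 * Nat.card Z) ≤ Nat.card Z * (Module.finrank ℂ W : ℝ) ^ 2 :=
      (mul_le_mul_of_nonneg_left h2 (by (clear * -; positivity))).trans h1
    have h4 : ((Nat.card D : ℝ) * ‖X d‖) ^ 2 ≤ (Module.finrank ℂ W : ℝ) ^ 2 := by
      have h5 : ((Nat.card D : ℝ) * ‖X d‖) ^ 2 * Nat.card Z ≤ (Module.finrank ℂ W : ℝ) ^ 2 * Nat.card Z := by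
        linarith only [h3]
      exact le_of_mul_le_mul_right h5 hZpos
    exact (sq_le_sq₀ (by (clear * -; positivity)) (by positivity)).1 h4
  -- the sum over `D`
  let D' : Subgroup K := D.subgroupOf K
  have hcD : Nat.card D' = Nat.card D := Nat.card_congr (Subgroup.subgroupOfEquivOfLe hDK).toEquiv
  have hfix : HasFix D' X := by
    have : Fintype D' := Fintype.ofFinite _
    rw [HasFix, finsum_eq_sum_of_fintype]
    intro hsum
    rw [← Finset.add_sum_erase Finset.univ (fun c : D' => X (c : K)) (Finset.mem_univ 1)] at hsum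
    have h1 : X (((1 : D')) : K) = (Module.finrank ℂ W : ℂ) := hX1
    have h2 : ‖∑ c ∈ Finset.univ.erase (1 : D'), X (c : K)‖ = (Module.finrank ℂ W : ℝ) := by
      have h3 : ∑ c ∈ Finset.univ.erase (1 : D'), X (c : K) = -(Module.finrank ℂ W : ℂ) := by
        rw [h1] at hsum
        exact eq_neg_of_add_eq_zero_right hsum
      rw [h3, norm_neg, Complex.norm_natCast]
    have h3 : (Nat.card D : ℝ) * ‖∑ c ∈ Finset.univ.erase (1 : D'), X (c : K)‖
        ≤ (Nat.card D - 1) * Module.finrank ℂ W := by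
      calc (Nat.card D : ℝ) * ‖∑ c ∈ Finset.univ.erase (1 : D'), X (c : K)‖
          ≤ Nat.card D * ∑ c ∈ Finset.univ.erase (1 : D'), ‖X (c : K)‖ :=
            mul_le_mul_of_nonneg_left (norm_sum_le _ _) hDpos.le
        _ = ∑ c ∈ Finset.univ.erase (1 : D'), (Nat.card D : ℝ) * ‖X (c : K)‖ := by rw [Finset.mul_sum]
        _ ≤ ∑ _c ∈ Finset.univ.erase (1 : D'), (Module.finrank ℂ W : ℝ) := by
            refine Finset.sum_le_sum fun c hc => hbound c c.2 ?_
            intro h
            exact (Finset.mem_erase.1 hc).1 (Subtype.ext h)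
        _ = _ := by
            rw [Finset.sum_const, Finset.card_erase_of_mem (Finset.mem_univ _), Finset.card_univ,
              ← Nat.card_eq_fintype_card, hcD, nsmul_eq_mul, Nat.cast_sub Nat.card_pos, Nat.cast_one]
    rw [h2] at h3
    have h4 : (0 : ℝ) < Module.finrank ℂ W := by exact_mod_cast hdim
    linarith only [h3, h4]
  obtain ⟨v, hv, hv'⟩ := hfix.exists_vector
  refine ⟨v, fun h => hv (Subtype.ext h), v.2, fun d hd => ?_⟩
  have := congrArg Subtype.val (hv' ⟨d, hDK hd⟩ hd)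
  exact this

end heis

end Cfsg.Agent.H430.Conj
end

-- part: H783/Psu3Row
section
prune_inst 0x30000000000000000080000000000001c010002
set_option linter.all false
open scoped Cfsg.Agent.FastGrp

-- part: H783/Psu3Base
section
/-!
# `PSU₃(q)` as the quotient of `SUG σ`: unitriangular group, torus (for S4792)
-/

set_option autoImplicit false

namespace Cfsg.Agent.H783.Psu3

open Cfsg Matrix
open Cfsg.Agent.UThreeGen.MatGroup Cfsg.Agent.UThreeGen.Recog
open Cfsg.Agent.LieRecognition.PSUThreeSylow (conjT)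

variable {K : Type*} [Field K] {σ : K →+* K} [hσ : Fact (∀ x, σ (σ x) = x)]

/-- The surjection `SUG σ → PSU₃(m)`, in any characteristic. -/
theorem exists_psu_hom [Fintype K] {m : ℕ} (hs : ∀ x, σ x = x ^ m) (hF : Fintype.card K = m ^ 2) :
    ∃ q : SUG σ →* Cfsg.PSU 3 K m, Function.Surjective q ∧ q.ker = Subgroup.center (SUG σ) := by
  have hm : 1 < m := LieClassical.HermBasic.two_le hF
  have hF' : Nat.card K = m ^ 2 := by rw [Nat.card_eq_fintype_card, hF]
  obtain ⟨T, T', hTT', hT⟩ : ∃ T T' : Matrix (Fin 3) (Fin 3) K, T * T' = 1 ∧ Tᵀ * T.map σ = -Gm K := by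
    by_cases h2 : (2 : K) = 0
    · have : CharP K 2 := CharTwo.of_one_ne_zero_of_two_eq_zero one_ne_zero h2
      obtain ⟨c, hc⟩ : ∃ c : K, σ c ≠ c := by
        obtain ⟨c, hc⟩ := LieClassical.HermBasic.exists_not_fixed hF
        exact ⟨c, by rw [hs]; exact hc⟩
      obtain ⟨T, T', h3, h4⟩ := Cfsg.Agent.LieRecognition.PSUThreeSylow.exists_T hc
      refine ⟨T, T', h3, ?_⟩
      rw [h4]
      ext i j
      (revert i j; simp [Gm, Cfsg.Agent.LieRecognition.PSUThreeSylow.Jm, CharTwo.neg_eq, _root_.Fin.forall_fin_succ])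
    · obtain ⟨v, hv⟩ := exists_norm (σ := σ) hm hs hF' (c := -1) (by rw [map_neg, map_one])
      exact exists_T (σ := σ) h2 hv
  let e : SUG σ ≃* Cfsg.SU 3 K m :=
    ((conjT hTT').subgroupMap (SUG σ)).trans (MulEquiv.subgroupCongr (SU_eq_map hs hTT' hT))
  let π : SUG σ →* Cfsg.PSU 3 K m :=
    (QuotientGroup.mk' (Subgroup.center (Cfsg.SU 3 K m))).comp e.toMonoidHom
  have hπ : Function.Surjective π := (QuotientGroup.mk'_surjective _).comp e.surjective
  refine ⟨π, hπ, ?_⟩
  ext g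
  have h1 : π g = 1 ↔ e g ∈ Subgroup.center (Cfsg.SU 3 K m) := by
    rw [← QuotientGroup.eq_one_iff]
    exact Iff.rfl
  rw [MonoidHom.mem_ker, h1, Subgroup.mem_center_iff, Subgroup.mem_center_iff]
  constructor
  · intro h k
    apply e.injective
    rw [map_mul, map_mul]
    exact h (e k)
  · intro h k
    obtain ⟨k, rfl⟩ := e.surjective k
    rw [← map_mul, ← map_mul, h k]

/-- The torus element. -/
def tor (σ : K →+* K) [hσ : Fact (∀ x, σ (σ x) = x)] : Kˣ →* SUG σ where
  toFun a := ⟨⟨!![(a : K), 0, 0; 0, σ (a : K) * (a : K)⁻¹, 0; 0, 0, (σ (a : K))⁻¹], by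
      have h1 : (a : K) ≠ 0 := a.ne_zero
      have h2 : σ (a : K) ≠ 0 := (map_ne_zero σ).2 h1
      simp only [Matrix.det_fin_three, _root_.Fin.isValue, _root_.Matrix.of_apply, _root_.Matrix.cons_val', _root_.Matrix.cons_val_zero, _root_.Matrix.cons_val_fin_one, _root_.Matrix.cons_val_one, _root_.Matrix.cons_val, _root_.MulZeroClass.mul_zero, _root_.sub_zero, _root_.MulZeroClass.zero_mul, _root_.add_zero]
      field_simp⟩, by
      have h1 : (a : K) ≠ 0 := a.ne_zero
      have h2 : σ (a : K) ≠ 0 := (map_ne_zero σ).2 h1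
      change (!![(a : K), 0, 0; 0, σ (a : K) * (a : K)⁻¹, 0; 0, 0, (σ (a : K))⁻¹] :
        Matrix (Fin 3) (Fin 3) K)ᵀ * Gm K * (!![(a : K), 0, 0; 0, σ (a : K) * (a : K)⁻¹, 0; 0, 0,
        (σ (a : K))⁻¹] : Matrix (Fin 3) (Fin 3) K).map σ = Gm K
      ext i j
      (revert i j; simp only [Gm, Matrix.mul_apply, Fin.sum_univ_three, Cfsg.Agent.UThreeGen.MatGroup.sig, h1, h2, _root_.Fin.forall_fin_succ, _root_.Matrix.transpose_apply, _root_.Matrix.of_apply, _root_.Matrix.cons_val', _root_.Matrix.cons_val_fin_one, Fin.isValue, _root_.Matrix.cons_val_zero, _root_.Matrix.cons_val_one, _root_.Matrix.cons_val, _root_.Matrix.map_apply, _root_.MulZeroClass.mul_zero, _root_.add_zero, _root_.mul_one, _root_.zero_add, _root_.mul_neg, _root_.neg_mul, _root_.map_zero, _root_.neg_zero, _root_.Matrix.cons_val_succ, _root_.map_mul, _root_.map_inv₀, _root_.forall_const, _root_.MulZeroClass.zero_mul, _root_.ne_eq, _root_.not_false_eq_true, _root_.mul_inv_cancel₀, _root_.neg_inj,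 _root_.inv_mul_cancel₀, _root_.implies_true, _root_.and_true, _root_.true_and]) <;> (repeat' with_reducible apply And.intro)
      · field_simp⟩
  map_one' := by
    apply Subtype.ext
    apply Subtype.ext
    ext i j
    (revert i j; simp only [_root_.Fin.forall_fin_succ, _root_.Units.val_one, _root_.map_one, _root_.inv_one, _root_.mul_one, _root_.Matrix.of_apply, _root_.Matrix.cons_val', _root_.Matrix.cons_val_fin_one, _root_.OneMemClass.coe_one, _root_.Matrix.SpecialLinearGroup.coe_one, Fin.isValue, _root_.Matrix.cons_val_zero, _root_.Matrix.cons_val_succ, _root_.IsEmpty.forall_iff, _root_.and_true, _root_.Matrix.one_apply_eq, Nat.reduceAdd, _root_.Fin.succ_zero_eq_one, _root_.ne_eq, _root_.zero_ne_one, _root_.not_false_eq_true, _root_.Matrix.one_apply_ne, _root_.Fin.succ_one_eq_two, Fin.reduceEq, _root_.and_self, _root_.Fin.succ_ne_zero, _root_.true_and])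
  map_mul' a b := by
    have h1 : (a : K) ≠ 0 := a.ne_zero
    have h2 : σ (a : K) ≠ 0 := (map_ne_zero σ).2 h1
    apply Subtype.ext
    apply Subtype.ext
    rw [coe_mul_SUG]
    ext i j
    (revert i j; simp only [Matrix.mul_apply, Fin.sum_univ_three, _root_.Fin.forall_fin_succ, _root_.Units.val_mul, _root_.map_mul, _root_.mul_inv_rev, _root_.Matrix.of_apply, _root_.Matrix.cons_val', _root_.Matrix.cons_val_fin_one, Fin.isValue, _root_.Matrix.cons_val_zero, _root_.Matrix.cons_val_one, _root_.Matrix.cons_val, _root_.MulZeroClass.mul_zero, _root_.add_zero, _root_.Matrix.cons_val_succ, _root_.zero_add, _root_.forall_const, _root_.MulZeroClass.zero_mul, _root_.and_true, _root_.true_and]) <;> (repeat' with_reducible apply And.intro)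
    · ring
    · ring

lemma tor_val (a : Kˣ) : (tor σ a).1.1 =
    !![(a : K), 0, 0; 0, σ (a : K) * (a : K)⁻¹, 0; 0, 0, (σ (a : K))⁻¹] := rfl

lemma tor_val' (a : Kˣ) : (tor σ a).1.1 = Matrix.diagonal ![(a : K), σ (a : K) * (a : K)⁻¹, (σ (a : K))⁻¹] := by
  rw [tor_val]
  ext i j
  (revert i j; simp only [_root_.Fin.forall_fin_succ, _root_.Matrix.of_apply, _root_.Matrix.cons_val', _root_.Matrix.cons_val_fin_one, _root_.Nat.succ_eq_add_one, Nat.reduceAdd, Fin.isValue, _root_.Matrix.cons_val_zero, _root_.Matrix.cons_val_succ, _root_.Fin.succ_zero_eq_one, _root_.Fin.succ_one_eq_two, _root_.IsEmpty.forall_iff, _root_.and_true, _root_.Matrix.diagonal_apply_eq, _root_.ne_eq, _root_.zero_ne_one, _root_.not_false_eq_true, _root_.Matrix.diagonal_apply_ne, Fin.reduceEq, _root_.and_self, _root_.Fin.succ_ne_zero, _root_.Matrix.cons_val_one, _root_.true_and, _root_.Matrix.cons_val])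

omit hσ in
theorem ext_SUG {g h : SUG σ} (H : ∀ i j, g.1.1 i j = h.1.1 i j) : g = h :=
  Subtype.ext (Subtype.ext (Matrix.ext H))

theorem emb_val' (x : HG σ) : (emb σ x).1.1 = !![1, x.a, x.b; 0, 1, σ x.a; 0, 0, 1] := emb_val x

/-- the action of the torus on the unitriangular group -/
def act (e : Kˣ) (x : HG σ) : HG σ where
  a := (e : K) ^ 2 * (σ (e : K))⁻¹ * x.a
  b := (e : K) * σ (e : K) * x.b
  h := by
    have h1 : (e : K) ≠ 0 := e.ne_zero
    have h2 : σ (e : K) ≠ 0 := (map_ne_zero σ).2 h1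
    have h3 := x.h
    have h4 : σ (σ (e : K)) = e := hσ.out _
    have h5 : σ x.b = x.a * σ x.a - x.b := by rw [← h3]; ring
    rw [map_mul, map_mul, map_mul, map_mul, map_inv₀, map_pow, h4, h5]
    field_simp
    ring

theorem tor_emb (e : Kˣ) (x : HG σ) : tor σ e * emb σ x = emb σ (act e x) * tor σ e := by
  have h1 : (e : K) ≠ 0 := e.ne_zero
  have h2 : σ (e : K) ≠ 0 := (map_ne_zero σ).2 h1
  refine ext_SUG fun i j => ?_
  rw [coe_mul_SUG, coe_mul_SUG, tor_val, emb_val', emb_val']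
  (revert i j; simp only [Matrix.mul_apply, Fin.sum_univ_three, act, Cfsg.Agent.UThreeGen.MatGroup.sig, _root_.Fin.forall_fin_succ, _root_.Matrix.of_apply, _root_.Matrix.cons_val', _root_.Matrix.cons_val_fin_one, Fin.isValue, _root_.Matrix.cons_val_zero, _root_.Matrix.cons_val_one, _root_.Matrix.cons_val, _root_.map_mul, _root_.map_pow, _root_.map_inv₀, _root_.mul_one, _root_.MulZeroClass.mul_zero, _root_.add_zero, _root_.Matrix.cons_val_succ, _root_.zero_add, _root_.forall_const, _root_.one_mul, _root_.MulZeroClass.zero_mul, _root_.true_and, _root_.and_self, _root_.implies_true, _root_.and_true]) <;> (repeat' with_reducible apply And.intro) <;> field_simp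

theorem tor_conj (e : Kˣ) (x : HG σ) : tor σ e * emb σ x * (tor σ e)⁻¹ = emb σ (act e x) := by
  rw [tor_emb, mul_inv_cancel_right]

/-- `x y = [0, c] y x` -/
theorem comm_HG (x y z : HG σ) (hz : z.a = 0) (hb : z.b = x.a * σ y.a - y.a * σ x.a) : x * y = z * (y * x) := by
  ext
  · rw [mul_a, mul_a, mul_a, hz]; ring
  · rw [mul_b, mul_b, mul_b, hz, hb]; ring

/-- An element commuting up to a scalar with the torus element. -/
theorem diag_of_comm {g : SUG σ} {e : Kˣ} {ζ : K} (h01 : ∀ ω : K, ω = 1 ∨ ω = ζ → ω * (e : K) ≠ σ (e : K) * (e : K)⁻¹)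
    (h02 : ∀ ω : K, ω = 1 ∨ ω = ζ → ω * (e : K) ≠ (σ (e : K))⁻¹) (h12 : σ (e : K) * (e : K)⁻¹ ≠ (σ (e : K))⁻¹)
    (hg : g.1.1 * (tor σ e).1.1 = ζ • ((tor σ e).1.1 * g.1.1)) : ∃ a : Kˣ, g = tor σ a := by
  have h1 : (e : K) ≠ 0 := e.ne_zero
  have h2 : σ (e : K) ≠ 0 := (map_ne_zero σ).2 h1
  rw [tor_val'] at hg
  have hij : ∀ i j : Fin 3, g.1.1 i j * (![(e : K), σ (e : K) * (e : K)⁻¹, (σ (e : K))⁻¹] j) =
      ζ * ((![(e : K), σ (e : K) * (e : K)⁻¹, (σ (e : K))⁻¹] i) * g.1.1 i j) := by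
    intro i j
    have h3 := congrFun (congrFun hg i) j
    rw [Matrix.smul_apply, Matrix.mul_diagonal, Matrix.diagonal_mul, smul_eq_mul] at h3
    exact h3
  have hdet : g.1.1.det = 1 := g.1.2
  rw [Matrix.det_fin_three] at hdet
  -- the first row
  have g01 : g.1.1 0 1 = 0 := by
    by_contra hne
    have h3 := hij 0 1
    simp only [Matrix.cons_val_zero, Matrix.cons_val_one, Fin.isValue] at h3
    apply h01 ζ (Or.inr rfl)
    apply mul_left_cancel₀ hne
    rw [h3]; ring
  have g02 : g.1.1 0 2 = 0 := by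
    by_contra hne
    have h3 := hij 0 2
    simp only [Matrix.cons_val_zero, Matrix.cons_val, Fin.isValue] at h3
    apply h02 ζ (Or.inr rfl)
    apply mul_left_cancel₀ hne
    rw [h3]; ring
  have g00 : g.1.1 0 0 ≠ 0 := by
    intro h0
    rw [h0, g01, g02] at hdet
    simp only [_root_.Fin.isValue, _root_.MulZeroClass.zero_mul, _root_.sub_self, _root_.add_zero, _root_.zero_ne_one] at hdet
  have hζ : ζ = 1 := by
    have h3 := hij 0 0
    simp only [Matrix.cons_val_zero, Fin.isValue] at h3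
    have h4 : (e : K) * g.1.1 0 0 ≠ 0 := mul_ne_zero h1 g00
    have h5 : (1 - ζ) * ((e : K) * g.1.1 0 0) = 0 := by linear_combination h3
    have h6 := (mul_eq_zero.1 h5).resolve_right h4
    linear_combination -h6
  subst hζ
  have g10 : g.1.1 1 0 = 0 := by
    by_contra hne
    have h3 := hij 1 0
    simp only [Matrix.cons_val_zero, Matrix.cons_val_one, Fin.isValue] at h3
    apply h01 1 (Or.inl rfl)
    apply mul_left_cancel₀ hne
    rw [one_mul, h3]; ring
  have g20 : g.1.1 2 0 = 0 := by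
    by_contra hne
    have h3 := hij 2 0
    simp only [Matrix.cons_val_zero, Matrix.cons_val, Fin.isValue] at h3
    apply h02 1 (Or.inl rfl)
    apply mul_left_cancel₀ hne
    rw [one_mul, h3]; ring
  have g12 : g.1.1 1 2 = 0 := by
    by_contra hne
    have h3 := hij 1 2
    simp only [Matrix.cons_val_one, Matrix.cons_val, Fin.isValue] at h3
    apply h12
    apply mul_left_cancel₀ hne
    rw [h3]; ring
  have g21 : g.1.1 2 1 = 0 := by
    by_contra hne
    have h3 := hij 2 1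
    simp only [Matrix.cons_val_one, Matrix.cons_val, Fin.isValue] at h3
    apply h12
    apply mul_left_cancel₀ hne
    rw [h3]; ring
  rw [g01, g02, g10, g20, g12, g21] at hdet
  -- the form
  have e02 := entry_of_mem_SUG g.2 0 2
  rw [g20] at e02
  have hG : Gm K 0 2 = 1 := by simp [Gm]
  rw [hG, g10, zero_mul, sub_zero, zero_mul, add_zero] at e02
  refine ⟨Units.mk0 _ g00, ?_⟩
  have e02' : σ (g.1.1 0 0) * g.1.1 2 2 = 1 := by
    have h3 := congrArg σ e02
    rw [map_mul, hσ.out, map_one] at h3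
    exact h3
  have hs0 : σ (g.1.1 0 0) ≠ 0 := (map_ne_zero σ).2 g00
  have g22 : g.1.1 2 2 = (σ (g.1.1 0 0))⁻¹ := by
    exact eq_inv_of_mul_eq_one_right e02'
  have g11 : g.1.1 1 1 = σ (g.1.1 0 0) * (g.1.1 0 0)⁻¹ := by
    rw [g22] at hdet
    have h3 : g.1.1 0 0 * g.1.1 1 1 * (σ (g.1.1 0 0))⁻¹ = 1 := by linear_combination hdet
    field_simp at h3 ⊢
    linear_combination h3
  refine ext_SUG fun i j => ?_
  rw [tor_val]
  (revert i j; simp only [g01, g02, g10, g20, g12, g21, g22, g11, _root_.Fin.forall_fin_succ, Fin.isValue, _root_.Units.val_mk0, _root_.Matrix.of_apply, _root_.Matrix.cons_val', _root_.Matrix.cons_val_fin_one, _root_.Matrix.cons_val_zero, _root_.Matrix.cons_val_succ, _root_.Fin.succ_zero_eq_one, _root_.Fin.succ_one_eq_two, _root_.IsEmpty.forall_iff, _root_.and_true, _root_.and_self])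

end Cfsg.Agent.H783.Psu3
end

-- part: H783/Psu3Row
section
/-!
# The row `PSU₃(q)`, `3 ∣ q + 1`, of S4792
-/

set_option autoImplicit false

namespace Cfsg.Agent.H783.Psu3

open Cfsg Matrix
open Cfsg.Agent.UThreeGen.MatGroup
open Cfsg.Agent.H430.Conj
open Cfsg.Agent.LieClassical.HermBasic (exists_trace_eq card_units_eq two_le pow_q_pow_q)
open Cfsg.Agent.Characters.Core (isIrr_isCharacter)

section Field

variable {K : Type*} [Field K] [Fintype K] {σ : K →+* K} [hσ : Fact (∀ x, σ (σ x) = x)] {q : ℕ}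

theorem exists_HG (hs : ∀ x, σ x = x ^ q) (hF : Fintype.card K = q ^ 2) (a : K) : ∃ x : HG σ, x.a = a := by
  obtain ⟨b, hb⟩ := exists_trace_eq hF (c := a * σ a) (by rw [← hs, map_mul, hσ.out, mul_comm])
  exact ⟨⟨a, b, by rw [hs b]; exact hb⟩, rfl⟩

omit hσ in
theorem exists_t (hs : ∀ x, σ x = x ^ q) (hF : Fintype.card K = q ^ 2) {x : K} (hx : σ x = -x) : ∃ t : K, t - σ t = x := by
  obtain ⟨s, hs1⟩ := exists_trace_eq hF (c := 1) (one_pow _)
  refine ⟨s * x, ?_⟩
  rw [← hs] at hs1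
  rw [map_mul, hx]
  linear_combination x * hs1

theorem center_scalar (hs : ∀ x, σ x = x ^ q) (hF : Fintype.card K = q ^ 2) {z : SUG σ} (hz : z ∈ Subgroup.center (SUG σ)) :
    ∃ ζ : K, ζ ^ 3 = 1 ∧ z.1.1 = ζ • (1 : Matrix (Fin 3) (Fin 3) K) := by
  obtain ⟨x, hx⟩ := exists_HG hs hF (1 : K)
  have hx0 : ∃ x : HG σ, x.a ≠ 0 := ⟨x, by rw [hx]; exact one_ne_zero⟩
  have hb := center_le_borel hx0 hz
  have hw : (wel σ)⁻¹ * z * wel σ ∈ _root_.Cfsg.Agent.UThreeGen.MatGroup.borel σ := by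
    rw [mul_assoc, ← Subgroup.mem_center_iff.1 hz (wel σ), inv_mul_cancel_left]
    exact hb
  obtain ⟨h10, h20, h01, h21, h02, h12⟩ := entries_of_mem hb hw
  have hc := congrArg (fun g : SUG σ => g.1.1) (Subgroup.mem_center_iff.1 hz (emb σ x))
  simp only [coe_mul_SUG, emb_val'] at hc
  have e01 := congrFun (congrFun hc 0) 1
  have e12 := congrFun (congrFun hc 1) 2
  simp only [Matrix.mul_apply, Fin.sum_univ_three, hx, h10, h01, h21, h02, h12, _root_.map_one, _root_.Fin.isValue, _root_.Matrix.of_apply, _root_.Matrix.cons_val', _root_.Matrix.cons_val_fin_one, _root_.Matrix.cons_val_zero, _root_.MulZeroClass.mul_zero, _root_.Matrix.cons_val_one, _root_.one_mul, _root_.zero_add, _root_.Matrix.cons_val, _root_.add_zero, _root_.mul_one, _root_.MulZeroClass.zero_mul] at e01 e12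
  have hdet : z.1.1.det = 1 := z.1.2
  rw [Matrix.det_fin_three, h10, h20, h01, h21, h02, h12, e12, e01] at hdet
  refine ⟨z.1.1 0 0, ?_, ?_⟩
  · linear_combination hdet
  · ext i j
    (revert i j; simp only [h10, h20, h01, h21, h02, h12, e01, e12, _root_.Fin.forall_fin_succ, Fin.isValue, _root_.Matrix.smul_apply, _root_.smul_eq_mul, _root_.Fin.succ_zero_eq_one, _root_.Fin.succ_one_eq_two, _root_.IsEmpty.forall_iff, _root_.and_true, _root_.Matrix.one_apply_eq, _root_.mul_one, Nat.reduceAdd, _root_.ne_eq, _root_.zero_ne_one, _root_.not_false_eq_true, _root_.Matrix.one_apply_ne, _root_.MulZeroClass.mul_zero, Fin.reduceEq, _root_.and_self, _root_.Fin.succ_ne_zero])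

omit [Fintype K] in
theorem tor_center {e : Kˣ} (h : (e : K) * σ (e : K) = 1) (h3 : (e : K) ^ 3 = 1) : tor σ e ∈ Subgroup.center (SUG σ) := by
  have h1 : (e : K) ≠ 0 := e.ne_zero
  have h2 : σ (e : K) ≠ 0 := (map_ne_zero σ).2 h1
  have h4 : (σ (e : K))⁻¹ = e := (eq_inv_of_mul_eq_one_left h).symm
  have h5 : σ (e : K) * (e : K)⁻¹ = e := by
    have h6 : σ (e : K) = (e : K)⁻¹ := eq_inv_of_mul_eq_one_right h
    rw [h6]
    field_simp
    exact h3.symm
  have hval : (tor σ e).1.1 = (e : K) • (1 : Matrix (Fin 3) (Fin 3) K) := by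
    rw [tor_val, h4, h5]
    ext i j
    (revert i j; simp only [_root_.Fin.forall_fin_succ, _root_.Matrix.of_apply, _root_.Matrix.cons_val', _root_.Matrix.cons_val_fin_one, _root_.Matrix.smul_apply, _root_.smul_eq_mul, Fin.isValue, _root_.Matrix.cons_val_zero, _root_.Matrix.cons_val_succ, _root_.IsEmpty.forall_iff, _root_.and_true, _root_.Matrix.one_apply_eq, _root_.mul_one, Nat.reduceAdd, _root_.Fin.succ_zero_eq_one, _root_.ne_eq, _root_.zero_ne_one, _root_.not_false_eq_true, _root_.Matrix.one_apply_ne, _root_.MulZeroClass.mul_zero, _root_.Fin.succ_one_eq_two, Fin.reduceEq, _root_.and_self, _root_.Fin.succ_ne_zero, _root_.zero_eq_mul, _root_.Units.ne_zero, _root_.false_or, _root_.left_eq_mul₀, _root_.true_and])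
  rw [Subgroup.mem_center_iff]
  intro g
  apply Subtype.ext
  apply Subtype.ext
  rw [coe_mul_SUG, coe_mul_SUG, hval, Matrix.mul_smul, Matrix.smul_mul, mul_one, one_mul]

/-- the centraliser of the image of a torus generator -/
theorem cent (hs : ∀ x, σ x = x ^ q) (hF : Fintype.card K = q ^ 2) (hq : 5 ≤ q) {P : Type*} [Group P] {f : SUG σ →* P}
    (hf : Function.Surjective f) (hker : f.ker = Subgroup.center (SUG σ)) {e : Kˣ} (he : orderOf e = q ^ 2 - 1) {g : P}
    (hg : g * f (tor σ e) = f (tor σ e) * g) : ∃ a : Kˣ, g = f (tor σ a) := by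
  have h1 : (e : K) ≠ 0 := e.ne_zero
  have h2 : σ (e : K) ≠ 0 := (map_ne_zero σ).2 h1
  have hq1 : 5 * q ≤ q ^ 2 := by rw [pow_two]; exact Nat.mul_le_mul_right q hq
  have hpow : ∀ n : ℕ, (e : K) ^ n = 1 → n = 0 ∨ q ^ 2 - 1 ≤ n := by
    intro n hn
    rcases Nat.eq_zero_or_pos n with h | h
    · exact Or.inl h
    · right
      rw [← he]
      exact Nat.le_of_dvd h (orderOf_dvd_of_pow_eq_one (Units.ext (by simpa using hn)))
  obtain ⟨c, rfl⟩ := hf g
  rw [← map_mul, ← map_mul] at hg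
  have hz : (c * tor σ e) * (tor σ e * c)⁻¹ ∈ Subgroup.center (SUG σ) := by
    rw [← hker, MonoidHom.mem_ker, map_mul, map_inv, hg, mul_inv_cancel]
  obtain ⟨ζ, hζ3, hζ⟩ := center_scalar hs hF hz
  have hc : c.1.1 * (tor σ e).1.1 = ζ • ((tor σ e).1.1 * c.1.1) := by
    have h3 : c * tor σ e = ((c * tor σ e) * (tor σ e * c)⁻¹) * (tor σ e * c) := by group
    have h4 := congrArg (fun g : SUG σ => g.1.1) h3
    simp only [coe_mul_SUG] at h4 hζ
    rw [← coe_mul_SUG, h3, coe_mul_SUG ((c * tor σ e) * (tor σ e * c)⁻¹)]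
    have h5 : ((c * tor σ e) * (tor σ e * c)⁻¹).1.1 = ζ • (1 : Matrix (Fin 3) (Fin 3) K) := by
      rw [← hζ]
      rfl
    rw [h5, Matrix.smul_mul, one_mul, coe_mul_SUG]
  have hω : ∀ ω : K, ω = 1 ∨ ω = ζ → ω ^ 3 = 1 := by
    rintro ω (rfl | rfl)
    · exact one_pow _
    · exact hζ3
  obtain ⟨a, ha⟩ := diag_of_comm (σ := σ) (g := c) (e := e) (ζ := ζ) (by
    intro ω hω' h
    have h3 := hω ω hω'
    have h4 : (e : K) ^ (3 * (q - 2)) = 1 := by
      rw [hs] at h
      have h5 : (ω * (e : K)) ^ 3 * (e : K) ^ 3 = ((e : K) ^ q) ^ 3 := by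
        rw [h]; field_simp
      rw [mul_pow, h3, one_mul, ← pow_add] at h5
      have h6 : (e : K) ^ (3 * (q - 2)) * (e : K) ^ 6 = 1 * (e : K) ^ 6 := by
        rw [one_mul, ← pow_add, show 3 * (q - 2) + 6 = q * 3 by omega, pow_mul]
        exact h5.symm
      exact mul_right_cancel₀ (pow_ne_zero _ h1) h6
    rcases hpow _ h4 with h5 | h5 <;> omega) (by
    intro ω hω' h
    have h3 := hω ω hω'
    have h4 : (e : K) ^ (3 * (q + 1)) = 1 := by
      rw [hs] at h h2
      have h5 : (ω * (e : K)) ^ 3 * ((e : K) ^ q) ^ 3 = 1 := by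
        rw [h, ← mul_pow, inv_mul_cancel₀ h2, one_pow]
      rw [mul_pow, h3, one_mul, ← pow_mul, ← pow_add] at h5
      rw [show 3 * (q + 1) = 3 + q * 3 by ring]
      exact h5
    rcases hpow _ h4 with h5 | h5 <;> omega) (by
    intro h
    have h4 : (e : K) ^ (2 * q - 1) = 1 := by
      rw [hs] at h h2
      have h5 : (e : K) ^ q * (e : K) ^ q = e := by
        field_simp at h
        rw [← pow_two]
        exact h
      have h6 : (e : K) ^ (2 * q - 1) * (e : K) ^ 1 = 1 * (e : K) ^ 1 := by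
        rw [← pow_add, one_mul, show 2 * q - 1 + 1 = q + q by omega, pow_add, pow_one]
        exact h5
      exact mul_right_cancel₀ (pow_ne_zero _ h1) h6
    rcases hpow _ h4 with h5 | h5 <;> omega) hc
  exact ⟨a, by rw [ha]⟩

/-- the centre of the unitriangular group -/
def Zs (σ : K →+* K) [hσ : Fact (∀ x, σ (σ x) = x)] : Subgroup (HG σ) where
  carrier := {x | x.a = 0}
  mul_mem' {x y} hx hy := by
    change (x * y).a = 0
    rw [mul_a, show x.a = 0 from hx, show y.a = 0 from hy, add_zero]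
  one_mem' := one_a
  inv_mem' {x} hx := by
    change (x⁻¹).a = 0
    rw [inv_a, show x.a = 0 from hx, neg_zero]

omit [Fintype K] in
theorem mem_Zs {x : HG σ} : x ∈ Zs σ ↔ x.a = 0 := Iff.rfl

omit [Fintype K] in
theorem Zs_comm {z x : HG σ} (hz : z ∈ Zs σ) : z * x = x * z := by
  have hz' : z.a = 0 := hz
  ext
  · rw [mul_a, mul_a, add_comm]
  · rw [mul_b, mul_b, hz', map_zero]; ring

omit [Fintype K] in
theorem act_mem_Zs {e : Kˣ} {x : HG σ} (hx : x ∈ Zs σ) : act e x ∈ Zs σ := by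
  have hx' : x.a = 0 := hx
  change (e : K) ^ 2 * (σ (e : K))⁻¹ * x.a = 0
  rw [hx', mul_zero]

theorem card_HG (hs : ∀ x, σ x = x ^ q) (hF : Fintype.card K = q ^ 2) : Nat.card (HG σ) = q ^ 2 * Nat.card (Zs σ) := by
  let φ : HG σ →* Multiplicative K :=
    { toFun := fun x => Multiplicative.ofAdd x.a
      map_one' := by rw [one_a]; rfl
      map_mul' := fun x y => by rw [mul_a]; rfl }
  have hφ : Function.Surjective φ := by
    intro a
    obtain ⟨x, hx⟩ := exists_HG (σ := σ) hs hF (Multiplicative.toAdd a)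
    exact ⟨x, by change Multiplicative.ofAdd x.a = a; rw [hx]; rfl⟩
  have hk : φ.ker = Zs σ := by
    ext x
    rw [MonoidHom.mem_ker, mem_Zs]
    exact Iff.rfl
  rw [Subgroup.card_eq_card_quotient_mul_card_subgroup φ.ker,
    Nat.card_congr (QuotientGroup.quotientKerEquivOfSurjective φ hφ).toEquiv, hk]
  congr 1
  rw [← hF, ← Nat.card_eq_fintype_card]
  exact Nat.card_congr Multiplicative.toAdd

end Field

section Main

variable {K : Type*} [Field K] [Fintype K] {σ : K →+* K} [hσ : Fact (∀ x, σ (σ x) = x)] {q : ℕ}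

/-- elements of norm one -/
def U1 (K : Type*) [Field K] (q : ℕ) : Subgroup Kˣ := (powMonoidHom (q + 1) : Kˣ →* Kˣ).ker

omit [Fintype K] hσ in
theorem mem_U1 (hs : ∀ x, σ x = x ^ q) {e : Kˣ} : e ∈ U1 K q ↔ (e : K) * σ (e : K) = 1 := by
  rw [U1, MonoidHom.mem_ker, powMonoidHom_apply, hs, ← pow_succ', ← Units.val_pow_eq_pow_val]
  exact ⟨fun h => by rw [h, Units.val_one], fun h => Units.ext h⟩

theorem card_D (hs : ∀ x, σ x = x ^ q) (hF : Fintype.card K = q ^ 2) (h3 : 3 ∣ q + 1) {P : Type*} [Group P] {f : SUG σ →* P}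
    (hker : f.ker = Subgroup.center (SUG σ)) : Nat.card ((U1 K q).map (f.comp (tor σ))) ≤ q := by
  have hq := two_le hF
  have hc : Nat.card (U1 K q) = q + 1 := by
    rw [U1, IsCyclic.card_powMonoidHom_ker, card_units_eq hF]
    exact Nat.gcd_eq_right (Dvd.intro _ rfl)
  let g : U1 K q →* P := (f.comp (tor σ)).comp (U1 K q).subtype
  have hr : (U1 K q).map (f.comp (tor σ)) = g.range := by
    rw [MonoidHom.range_comp, Subgroup.range_subtype]
  have hfin : Finite (U1 K q) := inferInstance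
  -- a cube root of unity
  have : Fact (Nat.Prime 3) := ⟨Nat.prime_three⟩
  obtain ⟨e, he⟩ := exists_prime_orderOf_dvd_card' (G := U1 K q) 3 (by rw [hc]; exact h3)
  have he3 : e ^ 3 = 1 := by rw [← he]; exact pow_orderOf_eq_one e
  have hek : e ∈ g.ker := by
    rw [MonoidHom.mem_ker]
    change f (tor σ (e : Kˣ)) = 1
    rw [← MonoidHom.mem_ker, hker]
    refine tor_center ((mem_U1 hs).1 e.2) ?_
    have h4 := congrArg (fun x : U1 K q => ((x : Kˣ) : K)) he3
    simpa only [_root_.SubmonoidClass.coe_pow, _root_.Units.val_pow_eq_pow_val, _root_.OneMemClass.coe_one, _root_.Units.val_one] using h4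
  have hke : 2 ≤ Nat.card g.ker := by
    have h4 : Nontrivial g.ker := by
      refine ⟨⟨⟨e, hek⟩, 1, fun h => ?_⟩⟩
      have h5 : e = 1 := congrArg Subtype.val h
      rw [h5, orderOf_one] at he
      norm_num at he
    exact Finite.one_lt_card
  have h5 := Subgroup.card_eq_card_quotient_mul_card_subgroup g.ker
  rw [hc, Nat.card_congr (QuotientGroup.quotientKerEquivRange g).toEquiv] at h5
  rw [hr]
  nlinarith only [hke, h5]

theorem row_aux (hs : ∀ x, σ x = x ^ q) (hF : Fintype.card K = q ^ 2) (hq : 5 ≤ q) (h3 : 3 ∣ q + 1) {P : Type*} [Group P] [Finite P]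
    [IsSimpleGroup P] {f : SUG σ →* P} (hf : Function.Surjective f) (hker : f.ker = Subgroup.center (SUG σ)) : Row P := by
  have hq2 : 1 < q ^ 2 := Nat.one_lt_pow (by norm_num) (by omega)
  -- a generator
  obtain ⟨e, he⟩ : ∃ e : Kˣ, orderOf e = q ^ 2 - 1 := by
    obtain ⟨e, he⟩ := IsCyclic.exists_ofOrder_eq_natCard (α := Kˣ)
    exact ⟨e, by rw [he, Nat.card_units, Nat.card_eq_fintype_card, hF]⟩
  let j : HG σ →* P := f.comp (emb σ)
  let τ : Kˣ →* P := f.comp (tor σ)
  have hj : Function.Injective j := by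
    rw [injective_iff_map_eq_one]
    intro x hx
    have h1 : emb σ x ∈ f.ker := hx
    rw [hker] at h1
    exact eq_one_of_mem_center h1
  have hτj : ∀ (a : Kˣ) (x : HG σ), τ a * j x * (τ a)⁻¹ = j (act a x) := by
    intro a x
    change f (tor σ a) * f (emb σ x) * (f (tor σ a))⁻¹ = f (emb σ (act a x))
    rw [← map_mul, ← map_inv, ← map_mul, tor_conj]
  have hcent : ∀ c ∈ Subgroup.centralizer {τ e}, ∃ a : Kˣ, c = τ a := by
    intro c hc
    rw [Subgroup.mem_centralizer_singleton_iff] at hc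
    exact cent hs hF hq hf hker he hc
  let Z : Subgroup P := (Zs σ).map j
  let Q : Subgroup P := j.range
  let D : Subgroup P := (U1 K q).map τ
  have hZQ : Z ≤ Q := by
    rintro _ ⟨x, -, rfl⟩
    exact ⟨x, rfl⟩
  have hZc : ∀ z ∈ Z, ∀ y ∈ Q, z * y = y * z := by
    rintro _ ⟨z, hz, rfl⟩ _ ⟨y, rfl⟩
    rw [← map_mul, ← map_mul, Zs_comm hz]
  have hZab : IsMulCommutative Z := ⟨⟨fun a b => Subtype.ext (hZc a a.2 b (hZQ b.2))⟩⟩
  -- `Z ≠ 1`
  have hZ1 : Z ≠ ⊥ := by
    intro h0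
    obtain ⟨y, hy, hy0⟩ := LieClassical.HermBasic.exists_trace_zero_ne hF
    let z : HG σ := ⟨0, y, by rw [hs y, map_zero, mul_zero]; exact hy0⟩
    have hz : j z ∈ Z := ⟨z, rfl, rfl⟩
    rw [h0, Subgroup.mem_bot, ← map_one j] at hz
    have h1 := congrArg HG.b (hj hz)
    rw [one_b] at h1
    exact hy h1
  have hDZ' : ∀ a : Kˣ, ∀ z ∈ Z, τ a * z * (τ a)⁻¹ ∈ Z := by
    rintro a _ ⟨z, hz, rfl⟩
    rw [hτj]
    exact ⟨_, act_mem_Zs hz, rfl⟩
  intro χ hχ
  by_cases h1 : χ = 1
  · exact ⟨1, h1 ▸ hasFix_one _⟩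
  obtain ⟨l, hl1, hl⟩ := exists_occ_of_simple hχ h1 hZab hZ1
  obtain ⟨n, ρ, hρ, rfl⟩ := hχ
  refine ⟨τ e, ?_⟩
  have hl1' : ∃ w : HG σ, ∃ hw : j w ∈ Z, w.a = 0 ∧ l ⟨j w, hw⟩ ≠ 1 := by
    by_contra hcon
    push Not at hcon
    apply hl1
    ext ⟨_, w, hw, rfl⟩
    exact congrArg Units.val (hcon w ⟨w, hw, rfl⟩ hw)
  obtain ⟨v, hv, hvl, hvD⟩ := exists_fixed_heis ρ (Q := Q) (Z := Z) (D := D) hZQ hZc
    (by
      rintro _ ⟨a, -, rfl⟩ _ ⟨y, rfl⟩
      rw [hτj]
      exact ⟨_, rfl⟩)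
    (by
      rintro _ ⟨a, -, rfl⟩ z hz
      exact hDZ' a z hz)
    (by
      rintro _ ⟨a, ha, rfl⟩ ha1 _ ⟨y, rfl⟩ hy
      rw [hτj, ← map_inv, ← map_mul] at hy
      obtain ⟨z, hz, hzy⟩ := hy
      have h4 : z = act a y * y⁻¹ := hj hzy
      have h5 : (act a y * y⁻¹).a = 0 := by rw [← h4]; exact hz
      rw [mul_a, inv_a] at h5
      have h6 : (a : K) ^ 2 * (σ (a : K))⁻¹ * y.a - y.a = 0 := by
        rw [sub_eq_add_neg]; exact h5
      have hN := (mem_U1 (σ := σ) hs).1 ha
      have h7 : (σ (a : K))⁻¹ = a := (eq_inv_of_mul_eq_one_left hN).symm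
      rw [h7] at h6
      refine ⟨y, ?_, rfl⟩
      change y.a = 0
      by_contra hne
      apply ha1
      have h8 : (a : K) ^ 3 = 1 := by
        have h9 : ((a : K) ^ 3 - 1) * y.a = 0 := by linear_combination h6
        exact sub_eq_zero.1 ((mul_eq_zero.1 h9).resolve_right hne)
      have h9 := tor_center hN h8
      rw [← hker] at h9
      exact h9)
    (by
      rintro _ ⟨a, ha, rfl⟩ ⟨_, z, hz, rfl⟩ ⟨b, hb⟩ hba
      have hN := (mem_U1 (σ := σ) hs).1 ha
      have h4 : b = j z := by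
        have h5 : b = τ a * j z * (τ a)⁻¹ := hba
        rw [h5, hτj]
        congr 1
        have hz' : z.a = 0 := hz
        ext
        · change (a : K) ^ 2 * (σ (a : K))⁻¹ * z.a = z.a
          rw [hz', mul_zero]
        · change (a : K) * σ (a : K) * z.b = z.b
          rw [hN, one_mul]
      subst h4
      rfl)
    hl
    (by
      rintro _ ⟨y, rfl⟩ hyZ
      have hya : y.a ≠ 0 := fun h => hyZ ⟨y, h, rfl⟩
      obtain ⟨w, hw, hwa, hlw⟩ := hl1'
      have hwb : σ w.b = -w.b := by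
        have h4 := w.h
        rw [hwa, zero_mul] at h4
        exact eq_neg_of_add_eq_zero_right h4
      obtain ⟨t, ht⟩ := exists_t hs hF hwb
      obtain ⟨x', hx'⟩ := exists_HG hs hF (σ (t / y.a))
      refine ⟨j x', ⟨x', rfl⟩, ⟨j w, hw⟩, ?_, hlw⟩
      change j w = _
      rw [← map_mul, ← map_inv, ← map_mul, ← map_inv, ← map_mul]
      congr 1
      rw [comm_HG y x' w hwa (by
        rw [hx', hσ.out, ← ht, map_div₀]
        have hsy : σ y.a ≠ 0 := (map_ne_zero σ).2 hya
        field_simp)]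
      group)
    (by
      have hD : Nat.card D ≤ q := card_D hs hF h3 hker
      have hQ : Nat.card Q = q ^ 2 * Nat.card (Zs σ) := by
        rw [← card_HG hs hF]
        exact (Nat.card_congr (MonoidHom.ofInjective hj).toEquiv).symm
      have hZc : Nat.card Z = Nat.card (Zs σ) :=
        (Nat.card_congr ((Zs σ).equivMapOfInjective j hj).toEquiv).symm
      rw [hQ, hZc]
      exact Nat.mul_le_mul_right _ (Nat.pow_le_pow_left hD 2))
  refine hasFix_of_stab ρ (A := Z) (C := Subgroup.centralizer {τ e}) ?_ hv hvl ?_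
  · intro c hc a ha
    obtain ⟨b, rfl⟩ := hcent c hc
    exact hDZ' b a ha
  · intro c hc hst
    obtain ⟨a, rfl⟩ := hcent c hc
    refine hvD _ ⟨a, ?_, rfl⟩
    change a ∈ U1 K q
    rw [mem_U1 (σ := σ) hs]
    by_contra hN
    obtain ⟨w, hw, hwa, hlw⟩ := hl1'
    apply hlw
    have hwb : σ w.b = -w.b := by
      have h4 := w.h
      rw [hwa, zero_mul] at h4
      exact eq_neg_of_add_eq_zero_right h4
    have hN1 : (a : K) * σ (a : K) - 1 ≠ 0 := sub_ne_zero.2 hN
    have hNs : σ ((a : K) * σ (a : K) - 1) = (a : K) * σ (a : K) - 1 := by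
      rw [map_sub, map_mul, hσ.out, map_one, mul_comm]
    let w' : HG σ := ⟨0, w.b / ((a : K) * σ (a : K) - 1), by
      rw [map_div₀, hNs, hwb, map_zero, mul_zero]; ring⟩
    have hw' : w' ∈ Zs σ := rfl
    have h4 := hst ⟨j w', ⟨w', hw', rfl⟩⟩ ⟨j (act a w'), ⟨_, act_mem_Zs hw', rfl⟩⟩ (hτj a w').symm
    have h5 : act a w' = w * w' := by
      ext
      · rw [mul_a, hwa]
        change (a : K) ^ 2 * (σ (a : K))⁻¹ * (0 : K) = 0 + (0 : K)
        ring
      · rw [mul_b, hwa, zero_mul, add_zero]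
        change (a : K) * σ (a : K) * (w.b / ((a : K) * σ (a : K) - 1)) = w.b + w.b / ((a : K) * σ (a : K) - 1)
        field_simp
        ring
    have h6 : (⟨j (act a w'), ⟨_, act_mem_Zs hw', rfl⟩⟩ : Z) = ⟨j w, hw⟩ * ⟨j w', ⟨w', hw', rfl⟩⟩ := by
      apply Subtype.ext
      change j (act a w') = j w * j w'
      rw [h5, map_mul]
    rw [h6, map_mul] at h4
    exact mul_eq_right.1 h4

end Main

/-- The row `PSU₃(q)`, `3 ∣ q + 1`, of S4792. -/
theorem row_psu3 {S : Type*} [Group S] [Finite S] (hs : IsSimpleGroup S) {F : Type*} [Field F] [Fintype F] {q : ℕ}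
    (hF : Fintype.card F = q ^ 2) (h3 : 3 ∣ q + 1) (e : Nonempty (S ≃* PSU 3 F q)) : Row S := by
  obtain ⟨e⟩ := e
  have hsP : IsSimpleGroup (PSU 3 F q) := by
    have : Nontrivial (PSU 3 F q) := e.symm.toEquiv.nontrivial
    exact IsSimpleGroup.isSimpleGroup_of_surjective e.toMonoidHom e.surjective
  have hfin : Finite (PSU 3 F q) := Finite.of_equiv _ e.toEquiv
  have hq2 := two_le hF
  have hq : 5 ≤ q := by
    by_contra hcon
    have hq : q = 2 := by omega
    subst hq
    obtain ⟨hc, hsol⟩ := Cfsg.Agent.S0282.result (F := F) (by rw [hF]; norm_num)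
    have hcomm := IsSimpleGroup.comm_iff_isSolvable.2 hsol
    let _ : CommGroup (PSU 3 F 2) := { (inferInstance : Group (PSU 3 F 2)) with mul_comm := hcomm }
    have hp : (Nat.card (PSU 3 F 2)).Prime := IsSimpleGroup.prime_card
    rw [hc] at hp
    revert hp
    decide
  let σ : F →+* F := (LieClassical.HermBasic.conj hF : F ≃+* F)
  have hσ : Fact (∀ x, σ (σ x) = x) := ⟨fun x => pow_q_pow_q hF x⟩
  have hsx : ∀ x, σ x = x ^ q := fun x => rfl
  obtain ⟨f, hf, hker⟩ := exists_psu_hom (σ := σ) hsx hF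
  exact Row.of_equiv e.symm (row_aux hsx hF hq h3 hf hker)

end Cfsg.Agent.H783.Psu3
end

private theorem dce_365ea6a7f8b0 : _root_.True := by
  try have : _root_.True := by simp only [_root_.Cfsg.Agent.H783.Psu3.U1.eq_1]
  try have : _root_.True := by simp only [_root_.Cfsg.Agent.H783.Psu3.tor.congr_simp]
  try have : _root_.True := by simp only [_root_.Cfsg.Agent.H783.Psu3.act.eq_1]
  try have : _root_.True := by simp only [_root_.Cfsg.Agent.UThreeGen.MatGroup.HG.mk.congr_simp]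
  exact _root_.True.intro
end

section
prune_inst 0xb0a8f8caa829dedffb7e3fa698cdfc11800fffa4dff943ffe061bf0b9f030209c1638509e000fc0e02c21410a87803f97eceffe06bd87ffffdb7b41ffbee0fe5f7b508519488340eac0ff603f0770e6f000000000000000000000000000000000004010000

-- part: H430/Conj/Tools
section
set_option linter.all false

/-!
# The conjugation character: all tools (helper430)

`H917/Conj/Basic.lean` (tools F, K, H1, transport, final step), `H430/Conj/Heis.lean` (tool H2),
`H937/Conj/CC.lean` (tool M).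
-/
end

-- part: H917/CJ/Psu
section
prune_inst 0x4f47053516d62100040040500022002a1790004200040800080a40e060b098042098280000b80001f5202a08100040028131000a04200000000840400000701000080020020400011020010000008010000300000000000000000800000000000218000002
set_option linter.all false
open scoped Cfsg.Agent.FastGrp

-- part: H917/CJ/PsuNum
section
/-!
# Arithmetic for the rows `PSU_2m(q)` of S4792
-/

set_option autoImplicit false

namespace Cfsg.Agent.H917.CJ.Su

theorem numA {q m j : ℕ} (hq : 2 ≤ q) (hj : Even j) (hj2 : 2 ≤ j) (hjm : j ≤ m) :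
    ¬ q ^ (2 * m) - 1 ∣ (q ^ j - 1) * (q + 1) ^ 2 := by
  intro h
  have hm1 : 1 ≤ q ^ m := Nat.one_le_pow _ _ (by omega)
  have hj1 : q ^ 2 ≤ q ^ j := Nat.pow_le_pow_right (by omega) hj2
  have hq4 : 2 ^ 2 ≤ q ^ 2 := Nat.pow_le_pow_left hq 2
  rcases Nat.lt_or_ge j m with hlt | hge
  · -- size
    have h1 := Nat.le_of_dvd (Nat.mul_pos (by omega) (by positivity)) h
    obtain ⟨k, rfl⟩ : ∃ k, m = k + 1 := ⟨m - 1, by omega⟩
    have h2 : q ^ j ≤ q ^ k := Nat.pow_le_pow_right (by omega) (by omega)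
    have h3 : q ^ (2 * (k + 1)) = q ^ 2 * (q ^ k * q ^ k) := by ring
    have h4 : q ^ 2 ≤ q ^ k := le_trans hj1 h2
    have h5 : (q ^ j - 1) * (q + 1) ^ 2 ≤ q ^ k * (q + 1) ^ 2 - (q + 1) ^ 2 := by
      rw [Nat.sub_mul, one_mul]
      exact Nat.sub_le_sub_right (Nat.mul_le_mul_right _ h2) _
    have h6 : q + 1 ≤ q ^ 2 := by nlinarith only [hq4]
    have h7 : (q + 1) ^ 2 ≤ q ^ 2 * q ^ 2 := by nlinarith only [h6]
    have h8 : q ^ k * (q + 1) ^ 2 ≤ q ^ (2 * (k + 1)) := by
      rw [h3]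
      calc q ^ k * (q + 1) ^ 2 ≤ q ^ k * (q ^ 2 * q ^ 2) := Nat.mul_le_mul_left _ h7
        _ ≤ q ^ k * (q ^ 2 * q ^ k) := Nat.mul_le_mul_left _ (Nat.mul_le_mul_left _ h4)
        _ = _ := by ring
    have h9 : 2 ≤ (q + 1) ^ 2 := by linarith only [hq, hq4]
    have h10 : (q + 1) ^ 2 ≤ q ^ k * (q + 1) ^ 2 := Nat.le_mul_of_pos_left _ (by positivity)
    omega
  · have hjm' : j = m := by omega
    subst hjm'
    have h1 : q ^ (2 * j) - 1 = (q ^ j - 1) * (q ^ j + 1) := by
      have : q ^ (2 * j) = q ^ j * q ^ j := by rw [two_mul, pow_add]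
      rw [this]
      obtain ⟨c, hc⟩ : ∃ c, q ^ j = c + 1 := ⟨q ^ j - 1, by omega⟩
      rw [hc, Nat.add_sub_cancel]
      have : (c + 1) * (c + 1) = c * (c + 1 + 1) + 1 := by ring
      rw [this, Nat.add_sub_cancel]
    rw [h1] at h
    have h2 : q ^ j + 1 ∣ (q + 1) ^ 2 := Nat.dvd_of_mul_dvd_mul_left (by omega) h
    rcases Nat.lt_or_ge 2 j with h3 | h3
    · have h4 : 4 ≤ j := by
        obtain ⟨t, ht⟩ := hj
        omega
      have h5 : q ^ 4 ≤ q ^ j := Nat.pow_le_pow_right (by omega) h4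
      have h6 := Nat.le_of_dvd (by positivity) h2
      have h7 : q ^ 4 = q ^ 2 * q ^ 2 := by ring
      nlinarith only [hq, hq4, h5, h6]
    · have h4 : j = 2 := by omega
      subst h4
      have h5 : (q + 1) ^ 2 = (q ^ 2 + 1) + 2 * q := by ring
      rw [h5, Nat.dvd_add_right (dvd_refl _)] at h2
      have h6 := Nat.le_of_dvd (by omega) h2
      nlinarith only [hq4, h6]

theorem numB {q m j : ℕ} (hq : 2 ≤ q) (hm : 2 ≤ m) (hj : Odd j) (hjm : j ≤ m) :
    ¬ q ^ (2 * m) - 1 ∣ (q ^ j + 1) * (q + 1) ^ 2 := by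
  intro h
  have hm1 : 1 ≤ q ^ m := Nat.one_le_pow _ _ (by omega)
  have hq4 : 2 ^ 2 ≤ q ^ 2 := Nat.pow_le_pow_left hq 2
  have hsplit : q ^ (2 * m) - 1 = (q ^ m + 1) * (q ^ m - 1) := by
    have : q ^ (2 * m) = q ^ m * q ^ m := by rw [two_mul, pow_add]
    rw [this]
    obtain ⟨c, hc⟩ : ∃ c, q ^ m = c + 1 := ⟨q ^ m - 1, by omega⟩
    rw [hc, Nat.add_sub_cancel]
    have : (c + 1) * (c + 1) = (c + 1 + 1) * c + 1 := by ring
    rw [this, Nat.add_sub_cancel]
  rcases Nat.lt_or_ge j m with hlt | hge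
  · rcases Nat.lt_or_ge 2 m with hm3 | hm3
    · have h1 := Nat.le_of_dvd (by positivity) h
      obtain ⟨k, rfl⟩ : ∃ k, m = k + 1 := ⟨m - 1, by omega⟩
      have h2 : q ^ j ≤ q ^ k := Nat.pow_le_pow_right (by omega) (by omega)
      have h3 : q ^ (2 * (k + 1)) = q ^ 2 * (q ^ k * q ^ k) := by ring
      have h4 : q ^ 2 ≤ q ^ k := Nat.pow_le_pow_right (by omega) (by omega)
      have h5 : (q ^ j + 1) * (q + 1) ^ 2 ≤ q ^ k * (q + 1) ^ 2 + (q + 1) ^ 2 := by
        rw [Nat.add_mul, one_mul]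
        exact Nat.add_le_add_right (Nat.mul_le_mul_right _ h2) _
      have h6 : q + 2 ≤ q ^ 2 := by nlinarith only [hq4]
      have h7 : (q + 1) ^ 2 + (2 * q + 3) ≤ q ^ 2 * q ^ 2 := by nlinarith only [h6]
      have h8 : q ^ k * (q + 1) ^ 2 + q ^ k * (2 * q + 3) ≤ q ^ (2 * (k + 1)) := by
        rw [h3]
        calc q ^ k * (q + 1) ^ 2 + q ^ k * (2 * q + 3) = q ^ k * ((q + 1) ^ 2 + (2 * q + 3)) := by ring
          _ ≤ q ^ k * (q ^ 2 * q ^ 2) := Nat.mul_le_mul_left _ h7
          _ ≤ q ^ k * (q ^ 2 * q ^ k) := Nat.mul_le_mul_left _ (Nat.mul_le_mul_left _ h4)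
          _ = _ := by ring
      have h9 : q ^ 2 * (2 * q + 3) ≤ q ^ k * (2 * q + 3) := Nat.mul_le_mul_right _ h4
      have h10 : (q + 1) ^ 2 + 2 ≤ q ^ 2 * (2 * q + 3) := by nlinarith only [h6]
      omega
    · have h4 : m = 2 := by omega
      subst h4
      have h5 : j = 1 := by
        obtain ⟨t, ht⟩ := hj
        omega
      subst h5
      have h6 : q ^ (2 * 2) - 1 = (q + 1) * ((q - 1) * (q ^ 2 + 1)) := by
        obtain ⟨c, rfl⟩ : ∃ c, q = c + 1 := ⟨q - 1, by omega⟩
        rw [Nat.add_sub_cancel]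
        have : (c + 1) ^ (2 * 2) = (c + 1 + 1) * (c * ((c + 1) ^ 2 + 1)) + 1 := by ring
        rw [this, Nat.add_sub_cancel]
      rw [h6, pow_one] at h
      have h7 := Nat.dvd_of_mul_dvd_mul_left (by omega) h
      rcases Nat.lt_or_ge 2 q with h8 | h8
      · have h9 := Nat.le_of_dvd (by positivity) h7
        obtain ⟨c, rfl⟩ : ∃ c, q = c + 3 := ⟨q - 3, by omega⟩
        have h10 : (c + 3 - 1) = c + 2 := by omega
        rw [h10] at h9
        nlinarith only [h9]
      · have h9 : q = 2 := by omega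
        subst h9
        revert h7
        decide
  · have hjm' : j = m := by omega
    subst hjm'
    rw [hsplit] at h
    have h2 : q ^ j - 1 ∣ (q + 1) ^ 2 := Nat.dvd_of_mul_dvd_mul_left (by omega) h
    have h3 : 3 ≤ j := by
      obtain ⟨t, ht⟩ := hj
      omega
    have h4 := Nat.le_of_dvd (by positivity) h2
    rcases Nat.lt_or_ge 2 q with h8 | h8
    · have h5 : q ^ 3 ≤ q ^ j := Nat.pow_le_pow_right (by omega) h3
      have h6 : q ^ 3 = q * q ^ 2 := by ring
      have h7 : 3 * q ^ 2 ≤ q * q ^ 2 := Nat.mul_le_mul_right _ h8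
      have h10 : q ^ j ≤ (q + 1) ^ 2 + 1 := by omega
      nlinarith only [h8, h5, h10]
    · have h9 : q = 2 := by omega
      subst h9
      rcases Nat.lt_or_ge 3 j with h10 | h10
      · have h5 : 2 ^ 4 ≤ 2 ^ j := Nat.pow_le_pow_right (by omega) h10
        omega
      · have h11 : j = 3 := by omega
        subst h11
        revert h2
        decide

theorem numA' {q m i : ℕ} (hq : 2 ≤ q) (hi : 0 < i) (him : i < m) :
    ¬ q ^ (2 * m) - 1 ∣ (q ^ (2 * i) - 1) * (q + 1) ^ 2 := by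
  intro h
  rcases Nat.lt_or_ge m (2 * i) with h1 | h1
  · refine numA (m := m) (j := 2 * (m - i)) hq ⟨m - i, by ring⟩ (by omega) (by omega) ?_
    have h2 := Dvd.dvd.mul_left h (q ^ (2 * (m - i)))
    have h3 : q ^ (2 * (m - i)) * ((q ^ (2 * i) - 1) * (q + 1) ^ 2) + (q ^ (2 * (m - i)) - 1) * (q + 1) ^ 2
        = (q ^ (2 * m) - 1) * (q + 1) ^ 2 := by
      have h4 : q ^ (2 * m) = q ^ (2 * (m - i)) * q ^ (2 * i) := by rw [← pow_add]; congr 1; omega
      rw [h4]
      obtain ⟨a, ha⟩ : ∃ a, q ^ (2 * (m - i)) = a + 1 := ⟨q ^ (2 * (m - i)) - 1, by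
        have : 1 ≤ q ^ (2 * (m - i)) := Nat.one_le_pow _ _ (by omega)
        omega⟩
      obtain ⟨b, hb⟩ : ∃ b, q ^ (2 * i) = b + 1 := ⟨q ^ (2 * i) - 1, by
        have : 1 ≤ q ^ (2 * i) := Nat.one_le_pow _ _ (by omega)
        omega⟩
      rw [ha, hb, Nat.add_sub_cancel, Nat.add_sub_cancel]
      have : (a + 1) * (b + 1) - 1 = a * b + a + b := by
        have : (a + 1) * (b + 1) = a * b + a + b + 1 := by ring
        rw [this, Nat.add_sub_cancel]
      rw [this]
      ring
    exact (Nat.dvd_add_right h2).1 (h3 ▸ Dvd.intro _ rfl)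
  · exact numA hq ⟨i, by ring⟩ (by omega) h1 h

theorem numB' {q m i : ℕ} (hq : 2 ≤ q) (hm : 2 ≤ m) (him : i < m) :
    ¬ q ^ (2 * m) - 1 ∣ (q ^ (2 * i) + q) * (q + 1) ^ 2 := by
  intro h
  rcases Nat.eq_zero_or_pos i with rfl | hi
  · refine numB (m := m) (j := 1) hq hm odd_one (by omega) ?_
    rw [mul_zero, pow_zero, add_comm] at h
    rwa [pow_one]
  · obtain ⟨k, rfl⟩ : ∃ k, i = k + 1 := ⟨i - 1, by omega⟩
    have h1 : q ^ (2 * (k + 1)) + q = q * (q ^ (2 * k + 1) + 1) := by ring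
    rw [h1, mul_assoc] at h
    have hN : 1 ≤ q ^ (2 * m) := Nat.one_le_pow _ _ (by omega)
    have hcop : Nat.Coprime (q ^ (2 * m) - 1) q := by
      have h2 : Nat.Coprime (q ^ (2 * m) - 1) (q ^ (2 * m)) := by
        have h3 : q ^ (2 * m) = (q ^ (2 * m) - 1) + 1 := by omega
        rw [h3, Nat.add_sub_cancel]
        exact Nat.coprime_self_add_right.2 (Nat.coprime_one_right _)
      exact Nat.Coprime.coprime_dvd_right (dvd_pow_self q (by omega)) h2
    have h2 := hcop.dvd_of_dvd_mul_left h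
    rcases Nat.lt_or_ge m (2 * k + 1) with h4 | h4
    · refine numB (m := m) (j := 2 * (m - k) - 1) hq hm ⟨m - k - 1, by omega⟩ (by omega) ?_
      have h5 := Dvd.dvd.mul_left h2 (q ^ (2 * (m - k) - 1))
      have h6 : q ^ (2 * (m - k) - 1) * ((q ^ (2 * k + 1) + 1) * (q + 1) ^ 2)
          = (q ^ (2 * m) - 1) * (q + 1) ^ 2 + (q ^ (2 * (m - k) - 1) + 1) * (q + 1) ^ 2 := by
        have h7 : q ^ (2 * m) = q ^ (2 * (m - k) - 1) * q ^ (2 * k + 1) := by rw [← pow_add]; congr 1; omega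
        obtain ⟨c, hc⟩ : ∃ c, q ^ (2 * m) = c + 1 := ⟨q ^ (2 * m) - 1, by omega⟩
        rw [← mul_assoc, mul_add, ← h7, hc, Nat.add_sub_cancel]
        ring
      rw [h6] at h5
      exact (Nat.dvd_add_right (Dvd.intro _ rfl)).1 h5
    · exact numB hq hm ⟨k, by ring⟩ h4 h2

end Cfsg.Agent.H917.CJ.Su
end

-- part: H917/CJ/Psu
section
/-!
# The rows `PSU_2m(q)` of S4792

`F = 𝔽_{q²}`, `K = 𝔽_{q^2m}`, `V = K ⊕ K` with the Hermitian form `Tr (a d^q) + (Tr (c b^q))^q`,
`x = (r^{-q}, r)` with `r = ω^{q+1}`, `ω` a generator of `Kˣ`, `A = {(a, b) ↦ (a + u b - u^q b^{q²}, b)}`.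
-/

set_option autoImplicit false

open Cfsg Module Matrix

namespace Cfsg.Agent.H917.CJ.Su

open Cfsg.Agent.H430.Conj Cfsg.Agent.H917.CJ

section tr

variable {F K : Type*} [Field F] [Fintype F] [Field K] [Algebra F K] [Finite K] {q : ℕ}

theorem exists_char (hF : Fintype.card F = q ^ 2) : ∃ p e : ℕ, p.Prime ∧ CharP F p ∧ q = p ^ e := by
  obtain ⟨p, hp⟩ := CharP.exists F
  obtain ⟨n, hpp, hcard⟩ := FiniteField.card F p
  have h1 : q ∣ p ^ (n : ℕ) := by rw [← hcard, hF]; exact dvd_pow_self q (by norm_num)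
  obtain ⟨e, -, he⟩ := (Nat.dvd_prime_pow hpp).1 h1
  exact ⟨p, e, hpp, hp, he⟩

theorem q_pos (hF : Fintype.card F = q ^ 2) : q ≠ 0 := by
  rintro rfl
  have : 0 < Fintype.card F := Fintype.card_pos
  omega

theorem two_le_q (hF : Fintype.card F = q ^ 2) : 2 ≤ q := by
  have h1 : 1 < Fintype.card F := Fintype.one_lt_card
  by_contra h
  have h2 : q ≤ 1 := by omega
  have h3 : q ^ 2 ≤ 1 ^ 2 := Nat.pow_le_pow_left h2 2
  omega

omit [Finite K] in
theorem add_q (hF : Fintype.card F = q ^ 2) (a b : K) : (a + b) ^ q = a ^ q + b ^ q := by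
  obtain ⟨p, e, hp, hc, rfl⟩ := exists_char hF
  have := Fact.mk hp
  have : CharP K p := charP_of_injective_algebraMap (algebraMap F K).injective p
  exact add_pow_char_pow a b p e

omit [Finite K] in
theorem sub_q (hF : Fintype.card F = q ^ 2) (a b : K) : (a - b) ^ q = a ^ q - b ^ q := by
  obtain ⟨p, e, hp, hc, rfl⟩ := exists_char hF
  have := Fact.mk hp
  have : CharP K p := charP_of_injective_algebraMap (algebraMap F K).injective p
  exact sub_pow_char_pow a b e

theorem pow_qq (hF : Fintype.card F = q ^ 2) (a : F) : (a ^ q) ^ q = a := by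
  rw [← pow_mul, ← sq, ← hF]
  exact FiniteField.pow_card a

theorem tr_q (hF : Fintype.card F = q ^ 2) (w : K) :
    Algebra.trace F K (w ^ q) = (Algebra.trace F K w) ^ q := by
  obtain ⟨p, e, hp, hc, rfl⟩ := exists_char hF
  have := Fact.mk hp
  have : CharP K p := charP_of_injective_algebraMap (algebraMap F K).injective p
  apply (algebraMap F K).injective
  rw [map_pow (algebraMap F K), FiniteField.algebraMap_trace_eq_sum_pow, FiniteField.algebraMap_trace_eq_sum_pow,
    sum_pow_char_pow]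
  refine Finset.sum_congr rfl fun i _ => ?_
  rw [← pow_mul, ← pow_mul, mul_comm]

theorem tr_qq (hF : Fintype.card F = q ^ 2) (w : K) :
    Algebra.trace F K ((w ^ q) ^ q) = Algebra.trace F K w := by
  rw [tr_q hF, tr_q hF, pow_qq hF]

/-- The `q`-power map on `F`. -/
noncomputable def sg (hF : Fintype.card F = q ^ 2) : F →+* F where
  toFun a := a ^ q
  map_one' := one_pow q
  map_mul' a b := mul_pow a b q
  map_zero' := zero_pow (q_pos hF)
  map_add' a b := add_q (F := F) (K := F) hF a b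

theorem sg_apply (hF : Fintype.card F = q ^ 2) (a : F) : sg hF a = a ^ q := rfl

theorem sg_sg (hF : Fintype.card F = q ^ 2) (a : F) : sg hF (sg hF a) = a := pow_qq hF a

theorem sg_ne (hF : Fintype.card F = q ^ 2) : sg hF ≠ RingHom.id F := by
  intro h
  have h1 : ∀ a : F, a ^ q = a := fun a => by
    have := DFunLike.congr_fun h a
    rwa [sg_apply, RingHom.id_apply] at this
  have h2q := two_le_q hF
  obtain ⟨g, hg⟩ := IsCyclic.exists_ofOrder_eq_natCard (α := Fˣ)
  rw [Nat.card_units, Nat.card_eq_fintype_card, hF] at hg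
  have h2 : g ^ (q - 1) = 1 := by
    apply Units.ext
    have h3 := h1 g
    have h4 : (g : F) ^ (q - 1) * g = 1 * g := by
      rw [one_mul, ← pow_succ, Nat.sub_add_cancel (by omega), h3]
    have h5 := mul_right_cancel₀ g.ne_zero h4
    rw [Units.val_pow_eq_pow_val, h5, Units.val_one]
  have h3 := Nat.le_of_dvd (by omega) (orderOf_dvd_of_pow_eq_one h2)
  have h4 : q * 2 ≤ q ^ 2 := by rw [sq]; exact Nat.mul_le_mul_left _ h2q
  omega

/-- The Hermitian form, conjugate linear in the first variable. -/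
noncomputable def B (K : Type*) [Field K] [Algebra F K] [Finite K] (hF : Fintype.card F = q ^ 2) :
    (K × K) →ₛₗ[sg hF] (K × K) →ₗ[F] F :=
  LinearMap.mk₂'ₛₗ (sg hF) (RingHom.id F)
    (fun u v => Algebra.trace F K (v.1 * u.2 ^ q) + Algebra.trace F K (u.1 ^ q * (v.2 ^ q) ^ q))
    (fun u u' v => by
      rw [Prod.snd_add, Prod.fst_add, add_q hF, add_q hF, mul_add, add_mul, map_add, map_add]; ring)
    (fun c u v => by
      rw [Prod.smul_snd, Prod.smul_fst, smul_pow, smul_pow, mul_smul_comm, smul_mul_assoc, map_smul, map_smul,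
        sg_apply, smul_add])
    (fun u v v' => by
      rw [Prod.snd_add, Prod.fst_add, add_q hF, add_q hF, mul_add, add_mul, map_add, map_add]; ring)
    (fun c u v => by
      rw [Prod.smul_snd, Prod.smul_fst, smul_pow, smul_pow, mul_smul_comm, smul_mul_assoc, map_smul, map_smul,
        pow_qq hF, RingHom.id_apply, smul_add])

theorem B_apply (hF : Fintype.card F = q ^ 2) (u v : K × K) :
    B K hF u v = Algebra.trace F K (v.1 * u.2 ^ q) + Algebra.trace F K (u.1 ^ q * (v.2 ^ q) ^ q) := rfl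

theorem B_symm (hF : Fintype.card F = q ^ 2) : (B K hF).IsSymm := by
  refine ⟨fun u v => ?_⟩
  rw [sg_apply, B_apply, B_apply, add_q (F := F) (K := F) hF, ← tr_q hF, ← tr_q hF, add_comm]
  congr 1
  · rw [← tr_qq hF (u.1 * v.2 ^ q)]
    congr 1
    simp only [mul_pow]
  · congr 1
    simp only [mul_pow]

theorem exists_root (hF : Fintype.card F = q ^ 2) (z : K) : ∃ z' : K, z' ^ q = z := by
  obtain ⟨p, e, hp, hc, rfl⟩ := exists_char hF
  have := Fact.mk hp
  have : CharP K p := charP_of_injective_algebraMap (algebraMap F K).injective p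
  have hb : Function.Bijective (iterateFrobenius K p e) := by
    rw [← Finite.injective_iff_bijective]
    exact (iterateFrobenius K p e).injective
  obtain ⟨a, ha⟩ := hb.2 z
  exact ⟨a, by rwa [iterateFrobenius_def] at ha⟩

theorem B_sep (hF : Fintype.card F = q ^ 2) : (B K hF).SeparatingLeft := by
  intro u hu
  have hfd : FiniteDimensional F K := Module.Finite.of_finite
  have hq0 := q_pos hF
  have : Algebra.IsSeparable F K := inferInstance
  have hnd := traceForm_nondegenerate F K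
  have h1 : ∀ w : K, (∀ z : K, Algebra.trace F K (w * z) = 0) → w = 0 := fun w hw =>
    hnd.1 w fun z => by rw [Algebra.traceForm_apply]; exact hw z
  have h2 : u.2 ^ q = 0 := by
    apply h1
    intro z
    have := hu (z, 0)
    rw [B_apply] at this
    rwa [zero_pow hq0, zero_pow hq0, mul_zero, map_zero, add_zero, mul_comm] at this
  have h3 : u.1 ^ q = 0 := by
    apply h1
    intro z
    obtain ⟨z₁, hz₁⟩ := exists_root hF z
    obtain ⟨z₂, hz₂⟩ := exists_root hF z₁
    have := hu (0, z₂)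
    rw [B_apply] at this
    rwa [zero_mul, map_zero, zero_add, hz₂, hz₁] at this
  exact Prod.ext (pow_eq_zero_iff hq0 |>.1 h3) (pow_eq_zero_iff hq0 |>.1 h2)

/-- The isometry with the standard space. -/
theorem exists_std {n : ℕ} (hF : Fintype.card F = q ^ 2) (hn : Module.finrank F K + Module.finrank F K = n) :
    ∃ ψ : (K × K) ≃ₗ[F] (Fin n → F), ∀ u v, hermForm n F q (ψ u) (ψ v) = B K hF v u := by
  have : FiniteDimensional F K := Module.Finite.of_finite
  obtain ⟨b, hb⟩ := Cfsg.Agent.ClassicalGeometry.HermOrthonormal.exists_orthonormal_basis (sg_ne hF) (sg_sg hF)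
    (B K hF) (B_symm hF) (B_sep hF)
  have hd : Module.finrank F (K × K) = n := by rw [Module.finrank_prod, hn]
  let b' := b.reindex (finCongr hd)
  have hb' : ∀ i j, B K hF (b' i) (b' j) = if i = j then 1 else 0 := by
    intro i j
    have h1 := hb ((finCongr hd).symm i) ((finCongr hd).symm j)
    simp only [b', Module.Basis.reindex_apply]
    rw [h1]
    simp only [EmbeddingLike.apply_eq_iff_eq]
  refine ⟨b'.equivFun, fun u v => ?_⟩
  conv_rhs => rw [← b'.sum_equivFun u, ← b'.sum_equivFun v]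
  rw [LinearMap.map_sum₂]
  unfold hermForm
  refine Finset.sum_congr rfl fun i _ => ?_
  rw [LinearMap.map_smulₛₗ₂, map_sum]
  have h1 : ∀ j, B K hF (b' i) (b'.equivFun u j • b' j) = if i = j then b'.equivFun u j else 0 := by
    intro j
    rw [map_smul, hb', smul_eq_mul, mul_ite, mul_one, mul_zero]
  rw [Finset.sum_congr rfl fun j _ => h1 j, Finset.sum_ite_eq, if_pos (Finset.mem_univ i), smul_eq_mul, sg_apply,
    mul_comm]

end tr

section su

variable {F K : Type*} [Field F] [Fintype F] [Field K] [Algebra F K] [Finite K] {q n : ℕ}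
  (hF : Fintype.card F = q ^ 2) (ψ : (K × K) ≃ₗ[F] (Fin n → F))

/-- The matrix of an element of `SU`. -/
abbrev mt (g : SU n F q) : Matrix (Fin n) (Fin n) F := ((g : Matrix.SpecialLinearGroup (Fin n) F) : Matrix (Fin n) (Fin n) F)

/-- `SU` acting on `K × K`. -/
noncomputable def suEnd : SU n F q →* Module.End F (K × K) where
  toFun g := (ψ.symm : (Fin n → F) →ₗ[F] (K × K)) ∘ₗ Matrix.toLin' (mt g) ∘ₗ (ψ : (K × K) →ₗ[F] (Fin n → F))
  map_one' := by
    refine LinearMap.ext fun v => ?_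
    simp only [mt, _root_.OneMemClass.coe_one, _root_.Matrix.SpecialLinearGroup.coe_one, _root_.Matrix.toLin'_one, _root_.LinearMap.id_comp, _root_.LinearEquiv.comp_coe, _root_.LinearEquiv.self_trans_symm, _root_.LinearEquiv.refl_toLinearMap, _root_.LinearMap.id_coe, _root_.id_eq, _root_.Module.End.one_apply]
  map_mul' g h := by
    refine LinearMap.ext fun v => ?_
    simp only [mt, _root_.Subgroup.coe_mul, _root_.Matrix.SpecialLinearGroup.coe_mul, _root_.Matrix.toLin'_mul, _root_.LinearMap.coe_comp, _root_.LinearEquiv.coe_coe, _root_.Function.comp_apply, _root_.Matrix.toLin'_apply, _root_.Matrix.mulVec_mulVec, _root_.Module.End.mul_apply, _root_.LinearEquiv.apply_symm_apply]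

omit [Fintype F] [Finite K] in
theorem suEnd_apply (g : SU n F q) (v : K × K) : suEnd ψ g v = ψ.symm (mt g *ᵥ ψ v) := rfl

omit [Fintype F] [Finite K] in
theorem psi_suEnd (g : SU n F q) (v : K × K) : ψ (suEnd ψ g v) = mt g *ᵥ ψ v := by
  rw [suEnd_apply, ψ.apply_symm_apply]

omit [Fintype F] [Finite K] in
theorem suEnd_injective : Function.Injective (suEnd (q := q) ψ) := by
  intro g h hgh
  apply Subtype.ext
  apply Subtype.ext
  apply Matrix.toLin'.injective
  refine LinearMap.ext fun w => ?_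
  have h1 := congrArg (fun T : Module.End F (K × K) => ψ (T (ψ.symm w))) hgh
  simp only [psi_suEnd, ψ.apply_symm_apply] at h1
  exact h1

omit [Fintype F] [Finite K] in
theorem suEnd_apply_injective (g : SU n F q) : Function.Injective (suEnd ψ g) := by
  intro v w h
  have h1 : ∀ v, suEnd ψ g⁻¹ (suEnd ψ g v) = v := by
    intro v
    rw [← Module.End.mul_apply, ← map_mul, inv_mul_cancel, map_one]
    rfl
  rw [← h1 v, h, h1]

omit [Fintype F] [Finite K] in
theorem mem_center_of_smul {g : SU n F q} {ζ : F} (h : ∀ v, suEnd ψ g v = ζ • v) :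
    g ∈ Subgroup.center (SU n F q) := by
  rw [Subgroup.mem_center_iff]
  intro k
  apply suEnd_injective ψ
  rw [map_mul, map_mul]
  refine LinearMap.ext fun v => ?_
  simp only [Module.End.mul_apply, h, map_smul]

omit [Finite K] in
include hF in
theorem smul_of_mem_center (hn : 3 ≤ n) {g : SU n F q} (h : g ∈ Subgroup.center (SU n F q)) :
    ∃ ζ : F, ζ ^ (q + 1) = 1 ∧ ∀ v, suEnd ψ g v = ζ • v := by
  obtain ⟨c, h1, h2, rfl⟩ := (Cfsg.Agent.LieClassical.SUBasic.mem_center_SU_iff hF hn g).1 h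
  refine ⟨c, h2, fun v => ?_⟩
  apply ψ.injective
  rw [psi_suEnd, map_smul]
  change Matrix.diagonal (fun _ => c) *ᵥ ψ v = c • ψ v
  funext i
  rw [Matrix.mulVec_diagonal]
  rfl

variable (hψ : ∀ u v, hermForm n F q (ψ u) (ψ v) = B K hF v u)
include hψ

theorem B_suEnd (g : SU n F q) (u v : K × K) : B K hF (suEnd ψ g u) (suEnd ψ g v) = B K hF u v := by
  rw [← hψ, ← hψ, psi_suEnd, psi_suEnd]
  exact g.2 _ _

omit hψ [Fintype F] [Finite K] in
theorem conj_mulVec (X : Module.End F (K × K)) (u : Fin n → F) :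
    LinearMap.toMatrix' ((ψ : (K × K) →ₗ[F] (Fin n → F)) ∘ₗ X ∘ₗ (ψ.symm : (Fin n → F) →ₗ[F] (K × K))) *ᵥ u
      = ψ (X (ψ.symm u)) := by
  rw [LinearMap.toMatrix'_mulVec]
  rfl

omit hψ [Fintype F] [Finite K] in
theorem conj_det (X : Module.End F (K × K)) :
    Matrix.det (LinearMap.toMatrix' ((ψ : (K × K) →ₗ[F] (Fin n → F)) ∘ₗ X ∘ₗ
      (ψ.symm : (Fin n → F) →ₗ[F] (K × K)))) = LinearMap.det X := by
  rw [LinearMap.det_toMatrix', LinearMap.det_conj]

/-- Elements of `SU` from isometries of determinant one. -/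
theorem exists_su (X : Module.End F (K × K)) (h : ∀ u v, B K hF (X u) (X v) = B K hF u v)
    (hd : LinearMap.det X = 1) : ∃ g : SU n F q, suEnd ψ g = X := by
  let M := LinearMap.toMatrix' ((ψ : (K × K) →ₗ[F] (Fin n → F)) ∘ₗ X ∘ₗ (ψ.symm : (Fin n → F) →ₗ[F] (K × K)))
  have hM : ∀ u, M *ᵥ u = ψ (X (ψ.symm u)) := conj_mulVec ψ X
  have hdM : M.det = 1 := (conj_det ψ X).trans hd
  let g₀ : Matrix.SpecialLinearGroup (Fin n) F := ⟨M, hdM⟩
  have hg₀ : g₀ ∈ SU n F q := by
    rw [Cfsg.Agent.LieClassical.SUBasic.mem_SU_iff]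
    intro u v
    have h1 := hM u
    have h2 := hM v
    have e1 : (g₀ : Matrix (Fin n) (Fin n) F) *ᵥ u = ψ (X (ψ.symm u)) := h1
    have e2 : (g₀ : Matrix (Fin n) (Fin n) F) *ᵥ v = ψ (X (ψ.symm v)) := h2
    rw [e1, e2, hψ, h, ← hψ, ψ.apply_symm_apply, ψ.apply_symm_apply]
  refine ⟨⟨g₀, hg₀⟩, ?_⟩
  refine LinearMap.ext fun v => ?_
  rw [suEnd_apply]
  have h3 : mt (⟨g₀, hg₀⟩ : SU n F q) *ᵥ ψ v = ψ (X (ψ.symm (ψ v))) := hM (ψ v)
  rw [h3, ψ.symm_apply_apply, ψ.symm_apply_apply]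

/-- Elements of `SU` from isometries of determinant one. -/
noncomputable def suMk (X : Module.End F (K × K)) (h : ∀ u v, B K hF (X u) (X v) = B K hF u v)
    (hd : LinearMap.det X = 1) : SU n F q := (exists_su hF ψ hψ X h hd).choose

theorem suEnd_suMk (X : Module.End F (K × K)) (h : ∀ u v, B K hF (X u) (X v) = B K hF u v)
    (hd : LinearMap.det X = 1) : suEnd ψ (suMk hF ψ hψ X h hd) = X :=
  (exists_su hF ψ hψ X h hd).choose_spec

end su

section uni

variable {F K : Type*} [Field F] [Fintype F] [Field K] [Algebra F K] [Finite K] {q n : ℕ}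
  (hF : Fintype.card F = q ^ 2)

/-- `b ↦ u b - u^q b^{q²}`. -/
noncomputable def tw (u : K) : K →ₗ[F] K where
  toFun b := u * b - u ^ q * (b ^ q) ^ q
  map_add' a b := by
    rw [add_q hF, add_q hF]; ring
  map_smul' c b := by
    rw [smul_pow, smul_pow, pow_qq hF, mul_smul_comm, mul_smul_comm, ← smul_sub]
    rfl

omit [Finite K] in
theorem tw_apply (u b : K) : tw hF u b = u * b - u ^ q * (b ^ q) ^ q := rfl

/-- The unipotent map `(k, l) ↦ (k + T_u l, l)`. -/
noncomputable def uni (u : K) : Module.End F (K × K) :=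
  LinearMap.id + (LinearMap.inl F K K) ∘ₗ (tw hF u) ∘ₗ (LinearMap.snd F K K)

omit [Finite K] in
theorem uni_apply (u : K) (v : K × K) : uni hF u v = (v.1 + tw hF u v.2, v.2) := by
  simp only [uni, Prod.ext_iff, _root_.LinearMap.add_apply, _root_.LinearMap.id_coe, _root_.id_eq, _root_.LinearMap.coe_comp, _root_.LinearMap.coe_inl, _root_.LinearMap.coe_snd, _root_.Function.comp_apply, _root_.Prod.fst_add, _root_.Prod.snd_add, _root_.add_zero, _root_.and_self]

omit [Finite K] in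
theorem tw_add (u v b : K) : tw hF (u + v) b = tw hF u b + tw hF v b := by
  rw [tw_apply, tw_apply, tw_apply, add_q hF]; ring

omit [Finite K] in
theorem tw_zero (b : K) : tw hF 0 b = 0 := by
  rw [tw_apply, zero_pow (q_pos hF)]; ring

omit [Finite K] in
theorem uni_mul (u v : K) : uni hF (u + v) = uni hF u * uni hF v := by
  refine LinearMap.ext fun w => ?_
  rw [Module.End.mul_apply, uni_apply, uni_apply, uni_apply, tw_add]
  simp only [Prod.mk.injEq, and_true]
  ring

omit [Finite K] in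
theorem uni_zero : uni hF (0 : K) = 1 := by
  refine LinearMap.ext fun w => ?_
  rw [uni_apply, tw_zero]
  simp

omit [Finite K] in
theorem det_uni (u : K) : LinearMap.det (uni hF u) = 1 := by
  refine eq_one_of_add (F := F) (fun u : K => LinearMap.det (uni hF u)) ?_ ?_ u
  · rw [uni_zero, map_one]
  · intro u v
    rw [uni_mul, map_mul]

theorem B_uni (u : K) (v w : K × K) : B K hF (uni hF u v) (uni hF u w) = B K hF v w := by
  rw [B_apply, B_apply, uni_apply, uni_apply]
  simp only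
  have h1 : (tw hF u v.2) ^ q = u ^ q * v.2 ^ q - (u ^ q) ^ q * ((v.2 ^ q) ^ q) ^ q := by
    rw [tw_apply, sub_q hF, mul_pow, mul_pow]
  rw [add_q hF, add_mul, add_mul, map_add, map_add, h1, tw_apply]
  have h2 : Algebra.trace F K ((u * w.2 - u ^ q * (w.2 ^ q) ^ q) * v.2 ^ q)
      + Algebra.trace F K ((u ^ q * v.2 ^ q - (u ^ q) ^ q * ((v.2 ^ q) ^ q) ^ q) * (w.2 ^ q) ^ q) = 0 := by
    have h3 : (u ^ q * v.2 ^ q - (u ^ q) ^ q * ((v.2 ^ q) ^ q) ^ q) * (w.2 ^ q) ^ q
        = u ^ q * v.2 ^ q * (w.2 ^ q) ^ q - ((u * v.2 ^ q * w.2) ^ q) ^ q := by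
      simp only [mul_pow]; ring
    have h4 : (u * w.2 - u ^ q * (w.2 ^ q) ^ q) * v.2 ^ q
        = u * v.2 ^ q * w.2 - u ^ q * v.2 ^ q * (w.2 ^ q) ^ q := by ring
    rw [h3, h4, map_sub, map_sub, tr_qq hF]
    ring
  linear_combination h2

/-- The torus element `(r^{-q}, r)`. -/
noncomputable def tor (q : ℕ) (r : K) : Module.End F (K × K) :=
  LinearMap.prodMap (LinearMap.mulLeft F (r ^ q)⁻¹) (LinearMap.mulLeft F r)

omit [Fintype F] [Finite K] in
theorem tor_apply (r : K) (v : K × K) : tor (F := F) q r v = ((r ^ q)⁻¹ * v.1, r * v.2) := rfl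

theorem B_tor {r : K} (hr : r ≠ 0) (v w : K × K) :
    B K hF (tor (F := F) q r v) (tor (F := F) q r w) = B K hF v w := by
  rw [B_apply, B_apply, tor_apply, tor_apply]
  simp only
  have h1 : (r ^ q)⁻¹ * w.1 * (r * v.2) ^ q = w.1 * v.2 ^ q := by
    rw [mul_pow]
    field_simp
  have h2 : ((r ^ q)⁻¹ * v.1) ^ q * ((r * w.2) ^ q) ^ q = v.1 ^ q * (w.2 ^ q) ^ q := by
    rw [mul_pow, mul_pow, mul_pow, inv_pow]
    field_simp
  rw [h1, h2]

omit [Fintype F] in
theorem det_tor [Module.Finite F K] {r : K} (hr : r ≠ 0) (hN : (Algebra.norm F r) ^ q = Algebra.norm F r) :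
    LinearMap.det (tor (F := F) q r) = 1 := by
  rw [tor, LinearMap.det_prodMap]
  have h1 : ∀ s : K, LinearMap.det (LinearMap.mulLeft F s) = Algebra.norm F s := fun s => rfl
  have h2 : r ^ q ≠ 0 := pow_ne_zero _ hr
  rw [h1, h1]
  calc Algebra.norm F (r ^ q)⁻¹ * Algebra.norm F r = Algebra.norm F (r ^ q)⁻¹ * Algebra.norm F r ^ q := by rw [hN]
    _ = Algebra.norm F ((r ^ q)⁻¹ * r ^ q) := by rw [map_mul, map_pow]
    _ = 1 := by rw [inv_mul_cancel₀ h2, map_one]

end uni

end Cfsg.Agent.H917.CJ.Su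
end

private theorem dce_87581113b3a3 : _root_.True := by
  try have : _root_.True := by simp only [_root_.Cfsg.Agent.H917.CJ.Su.B.congr_simp]
  try have : _root_.True := by simp only [_root_.Cfsg.Agent.H917.CJ.Su.tw.congr_simp]
  try have : _root_.True := by simp only [_root_.Cfsg.Agent.H917.CJ.Su.tor.eq_1]
  try have : _root_.True := by simp only [_root_.Cfsg.Agent.H917.CJ.Su.uni.eq_1]
  exact _root_.True.intro
end

-- part: H917/CJ/PsuOddRow
section
prune_inst 0x43400110045001000400000004020022048000400004080000080080001090040000000000280001a1000000000040008110000a00200000000840000000000000000000000000011000000000008010000300000000000000000800000000000018000002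
set_option linter.all false
open scoped Cfsg.Agent.FastGrp

-- part: H917/CJ/SuGen
section
/-!
# `SU_n(q)` acting on a Hermitian space with an arbitrary model (S4792)
-/

set_option autoImplicit false

open Cfsg Module Matrix

namespace Cfsg.Agent.H917.CJ.SuG

open Cfsg.Agent.H430.Conj Cfsg.Agent.H917.CJ Cfsg.Agent.H917.CJ.Su

/-- The isometry with the standard space. -/
theorem exists_std {F : Type*} [Field F] [Fintype F] {V : Type*} [AddCommGroup V] [Module F V]
    [FiniteDimensional F V] {q n : ℕ} (hF : Fintype.card F = q ^ 2) (BV : V →ₛₗ[sg hF] V →ₗ[F] F)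
    (hsym : BV.IsSymm) (hsep : BV.SeparatingLeft) (hd : Module.finrank F V = n) :
    ∃ ψ : V ≃ₗ[F] (Fin n → F), ∀ u v, hermForm n F q (ψ u) (ψ v) = BV v u := by
  obtain ⟨b, hb⟩ := Cfsg.Agent.ClassicalGeometry.HermOrthonormal.exists_orthonormal_basis (sg_ne hF) (sg_sg hF)
    BV hsym hsep
  let b' := b.reindex (finCongr hd)
  have hb' : ∀ i j, BV (b' i) (b' j) = if i = j then 1 else 0 := by
    intro i j
    have h1 := hb ((finCongr hd).symm i) ((finCongr hd).symm j)
    simp only [b', Module.Basis.reindex_apply]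
    rw [h1]
    simp only [EmbeddingLike.apply_eq_iff_eq]
  refine ⟨b'.equivFun, fun u v => ?_⟩
  conv_rhs => rw [← b'.sum_equivFun u, ← b'.sum_equivFun v]
  rw [LinearMap.map_sum₂]
  unfold hermForm
  refine Finset.sum_congr rfl fun i _ => ?_
  rw [LinearMap.map_smulₛₗ₂, map_sum]
  have h1 : ∀ j, BV (b' i) (b'.equivFun u j • b' j) = if i = j then b'.equivFun u j else 0 := by
    intro j
    rw [map_smul, hb', smul_eq_mul, mul_ite, mul_one, mul_zero]
  rw [Finset.sum_congr rfl fun j _ => h1 j, Finset.sum_ite_eq, if_pos (Finset.mem_univ i), smul_eq_mul, sg_apply,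
    mul_comm]

variable {F : Type*} [Field F] [Fintype F] {V : Type*} [AddCommGroup V] [Module F V] {q n : ℕ}
  (hF : Fintype.card F = q ^ 2) (ψ : V ≃ₗ[F] (Fin n → F))

/-- `SU` acting on `V`. -/
noncomputable def suEnd : SU n F q →* Module.End F V where
  toFun g := (ψ.symm : (Fin n → F) →ₗ[F] V) ∘ₗ Matrix.toLin' (Su.mt g) ∘ₗ (ψ : V →ₗ[F] (Fin n → F))
  map_one' := by
    refine LinearMap.ext fun v => ?_
    simp only [Su.mt, _root_.Cfsg.Agent.H917.CJ.Su.mt, _root_.OneMemClass.coe_one, _root_.Matrix.SpecialLinearGroup.coe_one, _root_.Matrix.toLin'_one, _root_.LinearMap.id_comp, _root_.LinearEquiv.comp_coe, _root_.LinearEquiv.self_trans_symm, _root_.LinearEquiv.refl_toLinearMap, _root_.LinearMap.id_coe, _root_.id_eq, _root_.Module.End.one_apply]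
  map_mul' g h := by
    refine LinearMap.ext fun v => ?_
    simp only [Su.mt, _root_.Cfsg.Agent.H917.CJ.Su.mt, _root_.Subgroup.coe_mul, _root_.Matrix.SpecialLinearGroup.coe_mul, _root_.Matrix.toLin'_mul, _root_.LinearMap.coe_comp, _root_.LinearEquiv.coe_coe, _root_.Function.comp_apply, _root_.Matrix.toLin'_apply, _root_.Matrix.mulVec_mulVec, _root_.Module.End.mul_apply, _root_.LinearEquiv.apply_symm_apply]

omit [Fintype F] in
theorem suEnd_apply (g : SU n F q) (v : V) : suEnd ψ g v = ψ.symm (Su.mt g *ᵥ ψ v) := rfl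

omit [Fintype F] in
theorem psi_suEnd (g : SU n F q) (v : V) : ψ (suEnd ψ g v) = Su.mt g *ᵥ ψ v := by
  rw [suEnd_apply, ψ.apply_symm_apply]

omit [Fintype F] in
theorem suEnd_injective : Function.Injective (suEnd (q := q) ψ) := by
  intro g h hgh
  apply Subtype.ext
  apply Subtype.ext
  apply Matrix.toLin'.injective
  refine LinearMap.ext fun w => ?_
  have h1 := congrArg (fun T : Module.End F V => ψ (T (ψ.symm w))) hgh
  simp only [psi_suEnd, ψ.apply_symm_apply] at h1
  exact h1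

omit [Fintype F] in
theorem suEnd_apply_injective (g : SU n F q) : Function.Injective (suEnd ψ g) := by
  intro v w h
  have h1 : ∀ v, suEnd ψ g⁻¹ (suEnd ψ g v) = v := by
    intro v
    rw [← Module.End.mul_apply, ← map_mul, inv_mul_cancel, map_one]
    rfl
  rw [← h1 v, h, h1]

omit [Fintype F] in
theorem suEnd_inv (g : SU n F q) (v : V) : suEnd ψ g⁻¹ (suEnd ψ g v) = v := by
  rw [← Module.End.mul_apply, ← map_mul, inv_mul_cancel, map_one]
  rfl

omit [Fintype F] in
theorem mem_center_of_smul {g : SU n F q} {ζ : F} (h : ∀ v, suEnd ψ g v = ζ • v) :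
    g ∈ Subgroup.center (SU n F q) := by
  rw [Subgroup.mem_center_iff]
  intro k
  apply suEnd_injective ψ
  rw [map_mul, map_mul]
  refine LinearMap.ext fun v => ?_
  simp only [Module.End.mul_apply, h, map_smul]

include hF in
theorem smul_of_mem_center (hn : 3 ≤ n) {g : SU n F q} (h : g ∈ Subgroup.center (SU n F q)) :
    ∃ ζ : F, ζ ^ (q + 1) = 1 ∧ ∀ v, suEnd ψ g v = ζ • v := by
  obtain ⟨c, h1, h2, rfl⟩ := (Cfsg.Agent.LieClassical.SUBasic.mem_center_SU_iff hF hn g).1 h
  refine ⟨c, h2, fun v => ?_⟩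
  apply ψ.injective
  rw [psi_suEnd, map_smul]
  change Matrix.diagonal (fun _ => c) *ᵥ ψ v = c • ψ v
  funext i
  rw [Matrix.mulVec_diagonal]
  rfl

variable {BV : V →ₛₗ[sg hF] V →ₗ[F] F} (hψ : ∀ u v, hermForm n F q (ψ u) (ψ v) = BV v u)
include hψ

theorem B_suEnd (g : SU n F q) (u v : V) : BV (suEnd ψ g u) (suEnd ψ g v) = BV u v := by
  rw [← hψ, ← hψ, psi_suEnd, psi_suEnd]
  exact g.2 _ _

omit hψ [Fintype F] in
theorem conj_mulVec (X : Module.End F V) (u : Fin n → F) :
    LinearMap.toMatrix' ((ψ : V →ₗ[F] (Fin n → F)) ∘ₗ X ∘ₗ (ψ.symm : (Fin n → F) →ₗ[F] V)) *ᵥ u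
      = ψ (X (ψ.symm u)) := by
  rw [LinearMap.toMatrix'_mulVec]
  rfl

omit hψ [Fintype F] in
theorem conj_det (X : Module.End F V) :
    Matrix.det (LinearMap.toMatrix' ((ψ : V →ₗ[F] (Fin n → F)) ∘ₗ X ∘ₗ
      (ψ.symm : (Fin n → F) →ₗ[F] V))) = LinearMap.det X := by
  rw [LinearMap.det_toMatrix', LinearMap.det_conj]

/-- Elements of `SU` from isometries of determinant one. -/
theorem exists_su (X : Module.End F V) (h : ∀ u v, BV (X u) (X v) = BV u v)
    (hd : LinearMap.det X = 1) : ∃ g : SU n F q, suEnd ψ g = X := by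
  let M := LinearMap.toMatrix' ((ψ : V →ₗ[F] (Fin n → F)) ∘ₗ X ∘ₗ (ψ.symm : (Fin n → F) →ₗ[F] V))
  have hM : ∀ u, M *ᵥ u = ψ (X (ψ.symm u)) := conj_mulVec ψ X
  have hdM : M.det = 1 := (conj_det ψ X).trans hd
  let g₀ : Matrix.SpecialLinearGroup (Fin n) F := ⟨M, hdM⟩
  have hg₀ : g₀ ∈ SU n F q := by
    rw [Cfsg.Agent.LieClassical.SUBasic.mem_SU_iff]
    intro u v
    have h1 := hM u
    have h2 := hM v
    have e1 : (g₀ : Matrix (Fin n) (Fin n) F) *ᵥ u = ψ (X (ψ.symm u)) := h1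
    have e2 : (g₀ : Matrix (Fin n) (Fin n) F) *ᵥ v = ψ (X (ψ.symm v)) := h2
    rw [e1, e2, hψ, h, ← hψ, ψ.apply_symm_apply, ψ.apply_symm_apply]
  refine ⟨⟨g₀, hg₀⟩, ?_⟩
  refine LinearMap.ext fun v => ?_
  rw [suEnd_apply]
  have h3 : Su.mt (⟨g₀, hg₀⟩ : SU n F q) *ᵥ ψ v = ψ (X (ψ.symm (ψ v))) := hM (ψ v)
  rw [h3, ψ.symm_apply_apply, ψ.symm_apply_apply]

omit hψ in
include hF in
/-- Unipotent endomorphisms over a finite field have determinant one. -/
theorem det_unip (X : Module.End F V) (h : (X - 1) ^ 3 = 0) : LinearMap.det X = 1 := by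
  obtain ⟨p, e, hp, hc, hq⟩ := exists_char hF
  have := Fact.mk hp
  rcases subsingleton_or_nontrivial V with hV | hV
  · have : X = 1 := by
      refine LinearMap.ext fun v => Subsingleton.elim _ _
    rw [this, map_one]
  have hcE : CharP (Module.End F V) p := charP_of_injective_algebraMap (algebraMap F (Module.End F V)).injective p
  have h1 : (X - 1) ^ p ^ 2 = X ^ p ^ 2 - 1 ^ p ^ 2 := sub_pow_char_pow_of_commute p 2 (Commute.one_right X)
  have h2 : 3 ≤ p ^ 2 := by
    have := Nat.pow_le_pow_left hp.two_le 2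
    omega
  have h3 : X ^ p ^ 2 = 1 := by
    rw [one_pow] at h1
    rw [← sub_eq_zero, ← h1]
    obtain ⟨k, hk⟩ := Nat.exists_eq_add_of_le h2
    rw [hk, pow_add, h, zero_mul]
  have h4 : LinearMap.det X ^ p ^ 2 = 1 := by rw [← map_pow, h3, map_one]
  have h5 : iterateFrobenius F p 2 (LinearMap.det X) = iterateFrobenius F p 2 1 := by
    rw [iterateFrobenius_def, iterateFrobenius_def, h4, one_pow]
  exact (iterateFrobenius F p 2).injective h5

end Cfsg.Agent.H917.CJ.SuG
end

-- part: H917/CJ/PsuOddModel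
section
/-!
# The model `K × K × F` of the odd dimensional Hermitian space (S4792)
-/

set_option autoImplicit false
set_option linter.unusedSectionVars false

open Cfsg Module Matrix

namespace Cfsg.Agent.H917.CJ.SuO

open Cfsg.Agent.H430.Conj Cfsg.Agent.H917.CJ Cfsg.Agent.H917.CJ.Su

section form

variable {F K : Type*} [Field F] [Fintype F] [Field K] [Algebra F K] [Finite K] {q n : ℕ}
  (hF : Fintype.card F = q ^ 2)

/-- The Hermitian form on `K × K × F`. -/
noncomputable def BO (K : Type*) [Field K] [Algebra F K] [Finite K] (hF : Fintype.card F = q ^ 2) :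
    (K × K × F) →ₛₗ[sg hF] (K × K × F) →ₗ[F] F :=
  LinearMap.mk₂'ₛₗ (sg hF) (RingHom.id F)
    (fun u v => Algebra.trace F K (v.1 * u.2.1 ^ q) + Algebra.trace F K (u.1 ^ q * (v.2.1 ^ q) ^ q)
      + u.2.2 ^ q * v.2.2)
    (fun u u' v => by
      simp only [Prod.snd_add, Prod.fst_add]
      rw [add_q (F := F) hF, add_q (F := F) hF, add_q (F := F) (K := F) hF, mul_add, add_mul, add_mul, map_add,
        map_add]
      ring)
    (fun c u v => by
      simp only [Prod.smul_snd, Prod.smul_fst, smul_pow, mul_smul_comm, smul_mul_assoc, map_smul, sg_apply,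
        smul_add])
    (fun u v v' => by
      simp only [Prod.snd_add, Prod.fst_add]
      rw [add_q (F := F) hF, add_q (F := F) hF, mul_add, add_mul, mul_add, map_add, map_add]
      ring)
    (fun c u v => by
      simp only [Prod.smul_snd, Prod.smul_fst, smul_pow, mul_smul_comm, smul_mul_assoc, map_smul, pow_qq hF,
        RingHom.id_apply, smul_add])

theorem BO_apply (u v : K × K × F) : BO K hF u v = Algebra.trace F K (v.1 * u.2.1 ^ q)
    + Algebra.trace F K (u.1 ^ q * (v.2.1 ^ q) ^ q) + u.2.2 ^ q * v.2.2 := rfl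

theorem BO_symm : (BO K hF).IsSymm := by
  refine ⟨fun u v => ?_⟩
  rw [sg_apply, BO_apply, BO_apply, add_q (F := F) (K := F) hF, add_q (F := F) (K := F) hF, ← tr_q hF, ← tr_q hF]
  have h1 : Algebra.trace F K ((v.1 * u.2.1 ^ q) ^ q) = Algebra.trace F K (v.1 ^ q * (u.2.1 ^ q) ^ q) := by
    rw [mul_pow]
  have h2 : Algebra.trace F K ((u.1 ^ q * (v.2.1 ^ q) ^ q) ^ q) = Algebra.trace F K (u.1 * v.2.1 ^ q) := by
    rw [← tr_qq hF (u.1 * v.2.1 ^ q)]
    congr 1
    simp only [mul_pow]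
  rw [h1, h2, mul_pow, pow_qq hF]
  ring

theorem BO_sep : (BO K hF).SeparatingLeft := by
  intro u hu
  have hq0 := q_pos hF
  have h1 : ((u.1, u.2.1) : K × K) = 0 := by
    apply B_sep hF
    intro v
    have := hu (v.1, v.2, 0)
    rw [BO_apply, mul_zero, add_zero] at this
    rw [B_apply]
    exact this
  have h2 := hu (0, 0, 1)
  rw [BO_apply] at h2
  simp only [zero_mul, map_zero, zero_pow hq0, mul_zero, zero_add, mul_one, add_zero] at h2
  have h3 : u.2.2 = 0 := (pow_eq_zero_iff hq0).1 h2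
  have h4 : u.1 = 0 := congrArg Prod.fst h1
  have h5 : u.2.1 = 0 := congrArg Prod.snd h1
  exact Prod.ext h4 (Prod.ext h5 h3)

/-- The linear form `b ↦ -Tr (w^q b^{q²})`. -/
noncomputable def ph (w : K) : K →ₗ[F] F where
  toFun b := -Algebra.trace F K (w ^ q * (b ^ q) ^ q)
  map_add' a b := by
    rw [add_q hF, add_q hF, mul_add, map_add]; ring
  map_smul' c b := by
    rw [smul_pow, smul_pow, pow_qq hF, mul_smul_comm, map_smul, RingHom.id_apply, smul_neg]

theorem ph_apply (w b : K) : ph hF w b = -Algebra.trace F K (w ^ q * (b ^ q) ^ q) := rfl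

theorem ph_add (w w' b : K) : ph hF (w + w') b = ph hF w b + ph hF w' b := by
  rw [ph_apply, ph_apply, ph_apply, add_q hF, add_mul, map_add]; ring

theorem ph_smul (c : F) (w b : K) : ph hF (c • w) b = c ^ q * ph hF w b := by
  rw [ph_apply, ph_apply, smul_pow, smul_mul_assoc, map_smul, smul_eq_mul]; ring

theorem ph_zero (b : K) : ph hF 0 b = 0 := by
  rw [ph_apply, zero_pow (q_pos hF), zero_mul, map_zero, neg_zero]

theorem ph_pow (w b : K) : (ph hF w b) ^ q = -Algebra.trace F K (w * b ^ q) := by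
  have h1 : (-Algebra.trace F K (w ^ q * (b ^ q) ^ q)) ^ q = -(Algebra.trace F K (w ^ q * (b ^ q) ^ q)) ^ q := by
    have := sub_q (F := F) (K := F) hF 0 (Algebra.trace F K (w ^ q * (b ^ q) ^ q))
    rwa [zero_sub, zero_pow (q_pos hF), zero_sub] at this
  rw [ph_apply, h1, ← tr_q hF, ← tr_qq hF (w * b ^ q)]
  simp only [mul_pow]

/-- The skewness condition for `[w, τ]`. -/
def Skew (w : K) (τ : K →ₗ[F] K) : Prop :=
  ∀ b b' : K, Algebra.trace F K (τ b' * b ^ q) + Algebra.trace F K ((τ b) ^ q * (b' ^ q) ^ q)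
    + (ph hF w b) ^ q * ph hF w b' = 0

/-- The unipotent endomorphism `[w, τ] : (a, b, s) ↦ (a + τ b + s w, b, s + φ_w b)`. -/
noncomputable def uq (w : K) (τ : K →ₗ[F] K) : Module.End F (K × K × F) where
  toFun v := (v.1 + τ v.2.1 + v.2.2 • w, v.2.1, v.2.2 + ph hF w v.2.1)
  map_add' u v := by
    refine Prod.ext ?_ (Prod.ext ?_ ?_)
    · simp only [Prod.fst_add, Prod.snd_add, map_add, add_smul]; ring
    · simp only [Prod.fst_add, Prod.snd_add]
    · simp only [Prod.fst_add, Prod.snd_add, map_add]; ring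
  map_smul' c v := by
    refine Prod.ext ?_ (Prod.ext ?_ ?_)
    · simp only [Prod.smul_fst, Prod.smul_snd, map_smul, RingHom.id_apply, smul_add, smul_eq_mul, mul_smul]
    · simp only [Prod.smul_fst, Prod.smul_snd, RingHom.id_apply]
    · simp only [Prod.smul_fst, Prod.smul_snd, map_smul, RingHom.id_apply, smul_add]

theorem uq_apply (w : K) (τ : K →ₗ[F] K) (v : K × K × F) :
    uq hF w τ v = (v.1 + τ v.2.1 + v.2.2 • w, v.2.1, v.2.2 + ph hF w v.2.1) := rfl

/-- The map `b ↦ φ_w(b) w'`. -/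
noncomputable def rk (w w' : K) : K →ₗ[F] K := (LinearMap.toSpanSingleton F K w') ∘ₗ (ph hF w)

theorem rk_apply (w w' b : K) : rk hF w w' b = ph hF w b • w' := rfl

theorem uq_mul (w w' : K) (τ τ' : K →ₗ[F] K) :
    uq hF w τ * uq hF w' τ' = uq hF (w + w') (τ + τ' + rk hF w' w) := by
  refine LinearMap.ext fun v => ?_
  rw [Module.End.mul_apply, uq_apply, uq_apply, uq_apply]
  refine Prod.ext ?_ (Prod.ext ?_ ?_)
  · simp only [LinearMap.add_apply, rk_apply, smul_add, add_smul]; ring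
  · rfl
  · simp only [ph_add]; ring

theorem uq_one : uq hF (0 : K) 0 = 1 := by
  refine LinearMap.ext fun v => ?_
  rw [uq_apply, ph_zero]
  simp

theorem BO_uq {w : K} {τ : K →ₗ[F] K} (h : Skew hF w τ) (u v : K × K × F) :
    BO K hF (uq hF w τ u) (uq hF w τ v) = BO K hF u v := by
  rw [BO_apply, BO_apply, uq_apply, uq_apply]
  simp only
  have h1 := h u.2.1 v.2.1
  have h2 : Algebra.trace F K ((v.1 + τ v.2.1 + v.2.2 • w) * u.2.1 ^ q)
      = Algebra.trace F K (v.1 * u.2.1 ^ q) + Algebra.trace F K (τ v.2.1 * u.2.1 ^ q)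
        + v.2.2 * Algebra.trace F K (w * u.2.1 ^ q) := by
    rw [add_mul, add_mul, map_add, map_add, smul_mul_assoc, map_smul, smul_eq_mul]
  have h3 : Algebra.trace F K ((u.1 + τ u.2.1 + u.2.2 • w) ^ q * (v.2.1 ^ q) ^ q)
      = Algebra.trace F K (u.1 ^ q * (v.2.1 ^ q) ^ q) + Algebra.trace F K ((τ u.2.1) ^ q * (v.2.1 ^ q) ^ q)
        + u.2.2 ^ q * Algebra.trace F K (w ^ q * (v.2.1 ^ q) ^ q) := by
    rw [add_q hF, add_q hF, smul_pow, add_mul, add_mul, map_add, map_add, smul_mul_assoc, map_smul, smul_eq_mul]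
  have h4 : (u.2.2 + ph hF w u.2.1) ^ q = u.2.2 ^ q + (ph hF w u.2.1) ^ q := add_q (F := F) (K := F) hF _ _
  have h5 := ph_pow hF w u.2.1
  have h6 := ph_apply hF w v.2.1
  rw [h2, h3, h4]
  linear_combination h1 + v.2.2 * h5 + u.2.2 ^ q * h6

theorem det_uq (w : K) (τ : K →ₗ[F] K) : LinearMap.det (uq hF w τ) = 1 := by
  apply SuG.det_unip hF
  refine LinearMap.ext fun v => ?_
  have h1 : ∀ v : K × K × F, (uq hF w τ - 1) v = (τ v.2.1 + v.2.2 • w, 0, ph hF w v.2.1) := by
    intro v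
    rw [LinearMap.sub_apply, uq_apply]
    refine Prod.ext ?_ (Prod.ext ?_ ?_)
    · simp [add_assoc]
    · simp
    · simp
  rw [pow_succ, pow_succ, pow_one, Module.End.mul_apply, Module.End.mul_apply, h1, h1, h1]
  simp

/-- The diagonal map. -/
noncomputable def dg (a a' : K) (s : F) : Module.End F (K × K × F) :=
  LinearMap.prodMap (LinearMap.mulLeft F a) (LinearMap.prodMap (LinearMap.mulLeft F a') (s • LinearMap.id))

omit [Fintype F] [Finite K] in
theorem dg_apply (a a' : K) (s : F) (v : K × K × F) : dg a a' s v = (a * v.1, a' * v.2.1, s * v.2.2) := rfl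

theorem BO_dg {a a' : K} {s : F} (ha : a * a' ^ q = 1) (hs : s ^ (q + 1) = 1) (u v : K × K × F) :
    BO K hF (dg a a' s u) (dg a a' s v) = BO K hF u v := by
  rw [BO_apply, BO_apply, dg_apply, dg_apply]
  simp only
  have h1 : a * v.1 * (a' * u.2.1) ^ q = v.1 * u.2.1 ^ q := by
    rw [mul_pow]
    linear_combination (v.1 * u.2.1 ^ q) * ha
  have h2 : (a * u.1) ^ q * ((a' * v.2.1) ^ q) ^ q = u.1 ^ q * (v.2.1 ^ q) ^ q := by
    have h3 : a ^ q * (a' ^ q) ^ q = 1 := by rw [← mul_pow, ha, one_pow]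
    rw [mul_pow, mul_pow, mul_pow]
    linear_combination (u.1 ^ q * (v.2.1 ^ q) ^ q) * h3
  have h3 : (s * u.2.2) ^ q * (s * v.2.2) = u.2.2 ^ q * v.2.2 := by
    rw [mul_pow]
    rw [pow_succ] at hs
    linear_combination (u.2.2 ^ q * v.2.2) * hs
  rw [h1, h2, h3]

omit [Fintype F] in
theorem det_dg [Module.Finite F K] (a a' : K) (s : F) :
    LinearMap.det (dg a a' s) = Algebra.norm F a * (Algebra.norm F a' * s) := by
  rw [dg, LinearMap.det_prodMap, LinearMap.det_prodMap, LinearMap.det_smul, LinearMap.det_id, mul_one,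
    Module.finrank_self, pow_one]
  rfl

/-- The skew endomorphism `κ φ_w(b) w` correction: existence of elements of the Heisenberg group. -/
theorem exists_skew (w : K) : ∃ τ : K →ₗ[F] K, Skew hF w τ := by
  -- an element of `F` with `κ + κ^q = -1`
  have hκ : ∃ κ : F, κ + κ ^ q = 1 := by
    have hq2 := two_le_q hF
    -- some `κ₀` with `κ₀ + κ₀^q ≠ 0`
    obtain ⟨κ₀, hκ₀⟩ : ∃ κ₀ : F, κ₀ + κ₀ ^ q ≠ 0 := by
      by_contra hcon
      push Not at hcon
      have h1 := hcon 1
      rw [one_pow] at h1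
      have h3 : ∀ a : F, a ^ q = a := by
        intro a
        have h4 := hcon a
        have h5 : a + a = 0 := by linear_combination a * h1
        linear_combination h4 - h5
      apply sg_ne hF
      ext a
      exact h3 a
    have hfix : (κ₀ + κ₀ ^ q) ^ q = κ₀ + κ₀ ^ q := by
      rw [add_q (F := F) (K := F) hF, pow_qq hF, add_comm]
    refine ⟨κ₀ / (κ₀ + κ₀ ^ q), ?_⟩
    rw [div_pow, hfix, ← add_div, div_self hκ₀]
  obtain ⟨κ, hκ⟩ := hκ
  refine ⟨κ • rk hF w w, ?_⟩
  intro b b'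
  simp only [LinearMap.smul_apply, rk_apply]
  have h1 : Algebra.trace F K ((κ • ph hF w b' • w) * b ^ q) = κ * (ph hF w b' * Algebra.trace F K (w * b ^ q)) := by
    rw [smul_mul_assoc, smul_mul_assoc, map_smul, map_smul, smul_eq_mul, smul_eq_mul]
  have h2 : Algebra.trace F K ((κ • ph hF w b • w) ^ q * (b' ^ q) ^ q)
      = κ ^ q * ((ph hF w b) ^ q * Algebra.trace F K (w ^ q * (b' ^ q) ^ q)) := by
    rw [smul_pow, smul_pow, smul_mul_assoc, smul_mul_assoc, map_smul, map_smul, smul_eq_mul, smul_eq_mul]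
  rw [h1, h2]
  have h3 := ph_pow hF w b
  have h4 := ph_apply hF w b'
  have h5 : Algebra.trace F K (w * b ^ q) = -(ph hF w b) ^ q := by rw [h3, neg_neg]
  have h6 : Algebra.trace F K (w ^ q * (b' ^ q) ^ q) = -ph hF w b' := by rw [h4, neg_neg]
  rw [h5, h6]
  linear_combination (-(ph hF w b' * (ph hF w b) ^ q)) * hκ

/-- The commutator map `c(w, w') : b ↦ φ_{w'}(b) w - φ_w(b) w'`. -/
noncomputable def cm (w w' : K) : K →ₗ[F] K := rk hF w' w - rk hF w w'

theorem cm_apply (w w' b : K) : cm hF w w' b = ph hF w' b • w - ph hF w b • w' := rfl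

theorem skew_cm (w w' : K) : Skew hF 0 (cm hF w w') := by
  intro b b'
  rw [ph_zero, ph_zero, mul_zero, add_zero, cm_apply, cm_apply]
  have h1 : Algebra.trace F K ((ph hF w' b' • w - ph hF w b' • w') * b ^ q)
      = ph hF w' b' * Algebra.trace F K (w * b ^ q) - ph hF w b' * Algebra.trace F K (w' * b ^ q) := by
    rw [sub_mul, map_sub, smul_mul_assoc, smul_mul_assoc, map_smul, map_smul, smul_eq_mul, smul_eq_mul]
  have h2 : Algebra.trace F K ((ph hF w' b • w - ph hF w b • w') ^ q * (b' ^ q) ^ q)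
      = (ph hF w' b) ^ q * Algebra.trace F K (w ^ q * (b' ^ q) ^ q)
        - (ph hF w b) ^ q * Algebra.trace F K (w' ^ q * (b' ^ q) ^ q) := by
    rw [sub_q hF, smul_pow, smul_pow, sub_mul, map_sub, smul_mul_assoc, smul_mul_assoc, map_smul, map_smul,
      smul_eq_mul, smul_eq_mul]
  rw [h1, h2]
  have e1 := ph_pow hF w b
  have e2 := ph_pow hF w' b
  have e3 := ph_apply hF w b'
  have e4 := ph_apply hF w' b'
  rw [e1, e2, e3, e4]
  ring

theorem skew_add {w : K} {τ τ' : K →ₗ[F] K} (h : Skew hF w τ) (h' : Skew hF 0 τ') : Skew hF w (τ + τ') := by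
  intro b b'
  have h1 := h b b'
  have h2 := h' b b'
  rw [ph_zero, ph_zero, mul_zero, add_zero] at h2
  rw [LinearMap.add_apply, LinearMap.add_apply, add_mul, map_add, add_q hF, add_mul, map_add]
  linear_combination h1 + h2

/-- `c(λ w, w') = c(w, λ^q w')`. -/
theorem cm_smul (c : F) (w w' : K) : cm hF (c • w) w' = cm hF w (c ^ q • w') := by
  refine LinearMap.ext fun b => ?_
  rw [cm_apply, cm_apply, ph_smul, ph_smul, pow_qq hF]
  rw [smul_smul, smul_smul, mul_comm (ph hF w' b) c, mul_comm (c ^ q) (ph hF w b)]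

theorem cm_swap (w w' : K) : cm hF w' w = -cm hF w w' := by
  refine LinearMap.ext fun b => ?_
  rw [LinearMap.neg_apply, cm_apply, cm_apply]; ring

theorem cm_add_left (w₁ w₂ w' : K) : cm hF (w₁ + w₂) w' = cm hF w₁ w' + cm hF w₂ w' := by
  refine LinearMap.ext fun b => ?_
  rw [LinearMap.add_apply, cm_apply, cm_apply, cm_apply, ph_add, smul_add, add_smul]; ring

theorem cm_add_right (w w₁ w₂ : K) : cm hF w (w₁ + w₂) = cm hF w w₁ + cm hF w w₂ := by
  refine LinearMap.ext fun b => ?_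
  rw [LinearMap.add_apply, cm_apply, cm_apply, cm_apply, ph_add, smul_add, add_smul]; ring

/-- `τ_u` is a sum of commutators. -/
theorem tw_eq_sum (u : K) : ∃ (ι : Type) (_ : Fintype ι) (w w' : ι → K), tw hF u = ∑ i, cm hF (w i) (w' i) := by
  have hfd : Module.Finite F K := Module.Finite.of_finite
  have hnd := traceForm_nondegenerate F K
  let f := Module.finBasis F K
  let g := (Algebra.traceForm F K).dualBasis hnd f
  -- the two dual expansions
  have hfg : ∀ x : K, ∑ i, Algebra.trace F K (x * g i) • f i = x := by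
    intro x
    have h1 : ∀ i, f.repr x i = Algebra.trace F K (x * g i) := by
      intro i
      have h2 := f.sum_repr x
      have h3 : Algebra.trace F K (x * g i) = Algebra.trace F K ((∑ j, f.repr x j • f j) * g i) := by rw [h2]
      rw [h3, Finset.sum_mul, map_sum]
      have h4 : ∀ j, Algebra.trace F K (f.repr x j • f j * g i) = if j = i then f.repr x j else 0 := by
        intro j
        rw [smul_mul_assoc, map_smul, smul_eq_mul]
        have h5 : Algebra.trace F K (f j * g i) = if j = i then 1 else 0 :=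
          LinearMap.BilinForm.apply_dualBasis_right hnd (Algebra.traceForm_isSymm F) f j i
        rw [h5, mul_ite, mul_one, mul_zero]
      rw [Finset.sum_congr rfl fun j _ => h4 j, Finset.sum_ite_eq', if_pos (Finset.mem_univ i)]
    conv_rhs => rw [← f.sum_repr x]
    exact Finset.sum_congr rfl fun i _ => by rw [h1]
  have hgf : ∀ x : K, ∑ i, Algebra.trace F K (x * f i) • g i = x := by
    intro x
    have h1 : ∀ i, g.repr x i = Algebra.trace F K (x * f i) := by
      intro i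
      rw [LinearMap.BilinForm.dualBasis_repr_apply]
      rfl
    conv_rhs => rw [← g.sum_repr x]
    exact Finset.sum_congr rfl fun i _ => by rw [h1]
  refine ⟨_, inferInstance, fun i => (g i) ^ q, fun i => u * f i, ?_⟩
  refine LinearMap.ext fun b => ?_
  rw [LinearMap.sum_apply, tw_apply]
  simp only [cm_apply, Finset.sum_sub_distrib]
  -- the first sum
  have h1 : ∑ i, ph hF (g i ^ q) b • (u * f i) = -(u * b) := by
    have h2 : ∀ i, ph hF (g i ^ q) b • (u * f i) = -(u * (Algebra.trace F K (b * g i) • f i)) := by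
      intro i
      have h3 : ph hF (g i ^ q) b = -Algebra.trace F K (b * g i) := by
        rw [ph_apply, ← tr_qq hF (b * g i)]
        congr 2
        simp only [mul_pow]
        ring
      rw [h3, neg_smul, mul_smul_comm]
    rw [Finset.sum_congr rfl fun i _ => h2 i, Finset.sum_neg_distrib, ← Finset.mul_sum, hfg]
  have h2 : ∑ i, ph hF (u * f i) b • (g i ^ q) = -(u ^ q * (b ^ q) ^ q) := by
    obtain ⟨y, hy⟩ := exists_root hF (u ^ q * (b ^ q) ^ q)
    have h3 : ∀ i, ph hF (u * f i) b • (g i ^ q) = -((Algebra.trace F K (y * f i) • g i) ^ q) := by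
      intro i
      have h4 : ph hF (u * f i) b = -(Algebra.trace F K (y * f i)) ^ q := by
        rw [ph_apply, ← tr_q hF (y * f i), mul_pow y, hy]
        congr 2
        rw [mul_pow]
        ring
      rw [h4, neg_smul, smul_pow]
    have h5 : ∀ (s : Finset (Fin (Module.finrank F K))) (c : Fin (Module.finrank F K) → K),
        (∑ i ∈ s, c i) ^ q = ∑ i ∈ s, (c i) ^ q := by
      intro s c
      classical
      induction s using Finset.induction_on with
      | empty => rw [Finset.sum_empty, Finset.sum_empty, zero_pow (q_pos hF)]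
      | insert a s ha ih => rw [Finset.sum_insert ha, Finset.sum_insert ha, add_q hF, ih]
    rw [Finset.sum_congr rfl fun i _ => h3 i, Finset.sum_neg_distrib, ← h5, hgf, hy]
  rw [h1, h2]
  ring

end form

end Cfsg.Agent.H917.CJ.SuO
end

-- part: H917/CJ/HeisQuot
section
/-!
# Tool H for a quotient, in terms of lifts (S4792)
-/

set_option autoImplicit false

open Cfsg
open scoped ComplexConjugate

namespace Cfsg.Agent.H917.CJ

open Cfsg.Agent.Characters.Core Cfsg.Agent.H430.Conj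

universe u v

/-- `A ≤ Z` abelian, `A` acts nontrivially: there is a weight of `Z` which is nontrivial on `A`. -/
theorem exists_occ_pair {G : Type u} [Group G] [Finite G] {V : Type*} [AddCommGroup V] [Module ℂ V]
    [FiniteDimensional ℂ V] (ρ : Representation ℂ G V) {A Z : Subgroup G} (hAZ : A ≤ Z)
    (hZ : ∀ a ∈ Z, ∀ b ∈ Z, a * b = b * a) {a₀ : G} (ha₀ : a₀ ∈ A) (hρ : ρ a₀ ≠ 1) :
    ∃ l : Z →* ℂˣ, (∃ a : Z, (a : G) ∈ A ∧ l a ≠ 1) ∧ Occ Z l ρ.character := by
  classical
  have : Fintype A := Fintype.ofFinite A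
  let P : Module.End ℂ V := (Fintype.card A : ℂ)⁻¹ • ∑ a : A, ρ a
  have hcard : (Fintype.card A : ℂ) ≠ 0 := by
    exact_mod_cast Fintype.card_ne_zero
  have hcomm : ∀ i j : Z, Commute (ρ i) (ρ j) := by
    intro i j
    change ρ i * ρ j = ρ j * ρ i
    rw [← map_mul, ← map_mul, hZ i i.2 j j.2]
  have hPa : ∀ a : A, ρ a * P = P := by
    intro a
    simp only [P, mul_smul_comm, Finset.mul_sum]
    congr 1
    apply Fintype.sum_equiv (Equiv.mulLeft a)
    intro b
    simp
  have hker : LinearMap.ker P ≠ ⊥ := by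
    intro h
    apply hρ
    have hinj : Function.Injective P := LinearMap.ker_eq_bot.1 h
    have hsurj : Function.Surjective P := LinearMap.injective_iff_surjective.1 hinj
    ext v
    obtain ⟨w, rfl⟩ := hsurj v
    have := congrArg (fun g : Module.End ℂ V => g w) (hPa ⟨a₀, ha₀⟩)
    simpa only [_root_.Module.End.one_apply, _root_.Module.End.mul_apply] using this
  have hcP : ∀ a : Z, Commute P (ρ a) := by
    intro a
    apply Commute.smul_left
    exact Commute.sum_left _ _ _ fun b _ => hcomm ⟨b, hAZ b.2⟩ a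
  obtain ⟨v, hv, hv0, hve⟩ := H430.Conj.exists_common_eigen (fun a : Z => ρ a) hcomm _
    (LinearMap.ker P) rfl hker (by
      intro a w hw
      rw [LinearMap.mem_ker] at hw ⊢
      have := congrArg (fun g : Module.End ℂ V => g w) (hcP a).eq
      simp only [Module.End.mul_apply] at this
      rw [this, hw, map_zero])
  choose μ hμ using hve
  have hsm : ∀ s t : ℂ, s • v = t • v → s = t := by
    intro s t h
    exact smul_left_injective ℂ hv0 h
  let χ : Z →* ℂ :=
    { toFun := μ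
      map_one' := hsm _ _ (by rw [← hμ]; simp only [_root_.OneMemClass.coe_one, _root_.map_one, _root_.Module.End.one_apply, _root_.one_smul])
      map_mul' := fun a b => hsm _ _ (by
        rw [← hμ, Subgroup.coe_mul, map_mul, Module.End.mul_apply, hμ b, map_smul, hμ a, smul_smul,
          mul_comm]) }
  have hχ : ∀ a : Z, ρ a v = χ a • v := hμ
  have hl : ∀ a : Z, ((χ.toHomUnits a : ℂˣ) : ℂ) = χ a := fun a => χ.coe_toHomUnits a
  refine ⟨χ.toHomUnits, ?_, occ_of_vector ρ hv0 fun a => by rw [hl, hχ]⟩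
  by_contra h
  push Not at h
  rw [LinearMap.mem_ker] at hv
  apply hv0
  have hχ1 : ∀ a : A, ρ a v = v := by
    intro a
    have h1 := hχ ⟨a, hAZ a.2⟩
    rw [← hl, h ⟨a, hAZ a.2⟩ a.2, Units.val_one, one_smul] at h1
    exact h1
  have h1 : P v = v := by
    simp only [P, LinearMap.smul_apply, LinearMap.sum_apply, hχ1, Finset.sum_const, Finset.card_univ]
    rw [← Nat.cast_smul_eq_nsmul ℂ, smul_smul, inv_mul_cancel₀ hcard, one_smul]
  rw [← h1, hv]

/-- **Tool H** for the quotient `G ⧸ N`, all data in `G`. -/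
theorem row_heis {G : Type u} [Group G] [Finite G] (N : Subgroup G) [N.Normal] [IsSimpleGroup (G ⧸ N)]
    (x : G) (A Z D : Subgroup G) (hAZ : A ≤ Z) (hA : A ≠ ⊥) (hZab : ∀ a ∈ Z, ∀ b ∈ Z, a * b = b * a)
    (hC : ∀ c z : G, z ∈ N → c * x = z * (x * c) → (∀ a ∈ A, c * a * c⁻¹ ∈ A) ∧ (∀ a ∈ Z, c * a * c⁻¹ ∈ Z) ∧
      (c ∈ D ∨ ∀ a ∈ A, c * a = a * c → a = 1))
    (hZN : ∀ y ∈ Z, y ∈ N → y = 1)
    (hDZ : ∀ d ∈ D, ∀ z ∈ Z, d * z = z * d)
    (hQ : ∀ l : Z →* ℂˣ, (∃ a : Z, (a : G) ∈ A ∧ l a ≠ 1) → ∃ Q : Subgroup G, Z ≤ Q ∧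
      (∀ z ∈ Z, ∀ y ∈ Q, z * y = y * z) ∧ (∀ d ∈ D, ∀ y ∈ Q, d * y * d⁻¹ ∈ Q) ∧ (∀ y ∈ Q, y ∈ N → y = 1) ∧
      (∀ d ∈ D, d ∉ N → ∀ y ∈ Q, d * y * d⁻¹ * y⁻¹ ∈ Z → y ∈ Z) ∧
      (∀ y ∈ Q, y ∉ Z → ∃ y' ∈ Q, ∃ z : Z, (z : G) = y * y' * y⁻¹ * y'⁻¹ ∧ l z ≠ 1) ∧
      Nat.card (D.map (QuotientGroup.mk' N)) ^ 2 * Nat.card Z ≤ Nat.card Q) : Row (G ⧸ N) := by
  classical
  intro χ hχ
  by_cases h1 : χ = 1
  · exact ⟨1, h1 ▸ hasFix_one _⟩
  obtain ⟨n, ρ, hρ, rfl⟩ := hχ
  let π : G →* G ⧸ N := QuotientGroup.mk' N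
  have hπ : ∀ g : G, π g = 1 ↔ g ∈ N := fun g => QuotientGroup.eq_one_iff g
  obtain ⟨a₀, ha₀, ha₀1⟩ := (Subgroup.bot_or_exists_ne_one A).resolve_left hA
  have hinj := injective_of_simple hρ h1
  have hρa : ρ (π a₀) ≠ 1 := by
    intro h
    have h2 : π a₀ = 1 := hinj (by rw [h, map_one])
    exact ha₀1 (hZN a₀ (hAZ ha₀) ((hπ a₀).1 h2))
  have hZbar : ∀ a ∈ Z.map π, ∀ b ∈ Z.map π, a * b = b * a := by
    rintro _ ⟨a, ha, rfl⟩ _ ⟨b, hb, rfl⟩
    rw [← map_mul, ← map_mul, hZab a ha b hb]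
  obtain ⟨lb, ⟨ab, hab, hlab⟩, hocc⟩ := exists_occ_pair ρ (A := A.map π) (Z := Z.map π) (Subgroup.map_mono hAZ)
    hZbar ⟨a₀, ha₀, rfl⟩ hρa
  -- the pull back of the weight
  let πZ : Z →* (Z.map π : Subgroup (G ⧸ N)) := (π.subgroupMap Z)
  have hπZ : ∀ z : Z, ((πZ z : (Z.map π : Subgroup (G ⧸ N))) : G ⧸ N) = π z := fun z => rfl
  let l : Z →* ℂˣ := lb.comp πZ
  have hlA : ∃ a : Z, (a : G) ∈ A ∧ l a ≠ 1 := by
    obtain ⟨a, ha, hae⟩ := hab
    refine ⟨⟨a, hAZ ha⟩, ha, ?_⟩
    have : πZ ⟨a, hAZ ha⟩ = ab := Subtype.ext hae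
    change lb (πZ ⟨a, hAZ ha⟩) ≠ 1
    rw [this]
    exact hlab
  obtain ⟨Q, hZQ, hZc, hDQ, hQN, hfp, hnd, hcard⟩ := hQ l hlA
  have hinjQ : ∀ y ∈ Q, ∀ y' ∈ Q, π y = π y' → y = y' := by
    intro y hy y' hy' h
    have h2 : y * y'⁻¹ ∈ N := by
      rw [← hπ, map_mul, map_inv, h, mul_inv_cancel]
    exact mul_inv_eq_one.1 (hQN _ (Q.mul_mem hy (Q.inv_mem hy')) h2)
  have hcardQ : Nat.card (Q.map π) = Nat.card Q := by
    refine (Nat.card_congr (Equiv.ofBijective (π.subgroupMap Q) ⟨?_, π.subgroupMap_surjective Q⟩)).symm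
    intro a b h
    exact Subtype.ext (hinjQ a a.2 b b.2 (congrArg Subtype.val h))
  have hcardZ : Nat.card (Z.map π) = Nat.card Z := by
    refine (Nat.card_congr (Equiv.ofBijective (π.subgroupMap Z) ⟨?_, π.subgroupMap_surjective Z⟩)).symm
    intro a b h
    exact Subtype.ext (hinjQ a (hZQ a.2) b (hZQ b.2) (congrArg Subtype.val h))
  obtain ⟨v, hv0, hvl, hvD⟩ := exists_fixed_heis ρ (Q := Q.map π) (Z := Z.map π) (D := D.map π)
    (Subgroup.map_mono hZQ)
    (by
      rintro _ ⟨z, hz, rfl⟩ _ ⟨y, hy, rfl⟩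
      rw [← map_mul, ← map_mul, hZc z hz y hy])
    (by
      rintro _ ⟨d, hd, rfl⟩ _ ⟨y, hy, rfl⟩
      exact ⟨d * y * d⁻¹, hDQ d hd y hy, by simp only [_root_.map_mul, _root_.map_inv]⟩)
    (by
      rintro _ ⟨d, hd, rfl⟩ _ ⟨z, hz, rfl⟩
      refine ⟨z, hz, ?_⟩
      rw [← map_inv, ← map_mul, ← map_mul, hDZ d hd z hz, mul_inv_cancel_right])
    (by
      rintro _ ⟨d, hd, rfl⟩ hd1 _ ⟨y, hy, rfl⟩ hdy
      have hdN : d ∉ N := fun h => hd1 ((hπ d).2 h)
      obtain ⟨z, hz, hze⟩ := hdy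
      refine ⟨y, hfp d hd hdN y hy ?_, rfl⟩
      rw [← map_inv, ← map_mul, ← map_mul, ← map_inv, ← map_mul] at hze
      have := hinjQ z (hZQ hz) _ (Q.mul_mem (hDQ d hd y hy) (Q.inv_mem hy)) hze
      rwa [← this])
    (l := lb)
    (by
      rintro _ ⟨d, hd, rfl⟩ ⟨_, ⟨z, hz, rfl⟩⟩ b hb
      have : b = ⟨π z, ⟨z, hz, rfl⟩⟩ := by
        apply Subtype.ext
        rw [hb]
        change π d * π z * (π d)⁻¹ = π z
        rw [← map_inv, ← map_mul, ← map_mul, hDZ d hd z hz, mul_inv_cancel_right]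
      rw [this])
    hocc
    (by
      rintro _ ⟨y, hy, rfl⟩ hyZ
      have hyZ' : y ∉ Z := fun h => hyZ ⟨y, h, rfl⟩
      obtain ⟨y', hy', z, hz, hlz⟩ := hnd y hy hyZ'
      refine ⟨π y', ⟨y', hy', rfl⟩, πZ z, ?_, hlz⟩
      rw [hπZ, hz]
      simp only [_root_.map_mul, _root_.map_inv])
    (by rw [hcardQ, hcardZ]; exact hcard)
  refine ⟨π x, hasFix_of_stab ρ (A := Z.map π) ?_ hv0 hvl ?_⟩
  · rintro c hc _ ⟨a, ha, rfl⟩
    rw [Subgroup.mem_centralizer_singleton_iff] at hc
    obtain ⟨c, rfl⟩ := QuotientGroup.mk'_surjective N c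
    have h2 : (c * x) * (x * c)⁻¹ ∈ N := by
      rw [← hπ, map_mul, map_inv, map_mul, map_mul]
      change π c * π x * (π x * π c)⁻¹ = 1
      rw [hc, mul_inv_cancel]
    exact ⟨c * a * c⁻¹, (hC c _ h2 (by group)).2.1 a ha, by simp only [π, _root_.QuotientGroup.mk'_apply, _root_.QuotientGroup.mk_mul, _root_.QuotientGroup.mk_inv]⟩
  · intro c hc hst
    rw [Subgroup.mem_centralizer_singleton_iff] at hc
    obtain ⟨c, rfl⟩ := QuotientGroup.mk'_surjective N c
    have h2 : (c * x) * (x * c)⁻¹ ∈ N := by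
      rw [← hπ, map_mul, map_inv, map_mul, map_mul]
      change π c * π x * (π x * π c)⁻¹ = 1
      rw [hc, mul_inv_cancel]
    obtain ⟨hcA, hcZ, hcD⟩ := hC c _ h2 (by group)
    rcases hcD with hcD | hcA1
    · exact hvD (π c) ⟨c, hcD, rfl⟩
    · exfalso
      -- `l` is trivial on `A`
      have hstl : ∀ a : Z, ∀ ha : c * a * c⁻¹ ∈ Z, l ⟨c * a * c⁻¹, ha⟩ = l a := by
        intro a ha
        exact hst (πZ a) (πZ ⟨c * a * c⁻¹, ha⟩) (by
          rw [hπZ, hπZ]
          simp only [π, _root_.QuotientGroup.mk'_apply, _root_.QuotientGroup.mk_mul, _root_.QuotientGroup.mk_inv])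
      let φ : A → A := fun a => ⟨c * a * c⁻¹ * (a : G)⁻¹, A.mul_mem (hcA a a.2) (A.inv_mem a.2)⟩
      have hAc : ∀ a b : A, (a : G) * b = b * a := fun a b => hZab a (hAZ a.2) b (hAZ b.2)
      have hφ : Function.Injective φ := by
        intro a b hab'
        have h6 : c * (a : G) * c⁻¹ * (a : G)⁻¹ = c * (b : G) * c⁻¹ * (b : G)⁻¹ := congrArg Subtype.val hab'
        -- `b⁻¹ a` is centralised by `c`
        have h7 : c * ((b : G)⁻¹ * a) * c⁻¹ = (b : G)⁻¹ * a := by
          have h8 : c * (a : G) * c⁻¹ = c * (b : G) * c⁻¹ * (b : G)⁻¹ * a := by rw [← h6]; group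
          have h9 : c * ((b : G)⁻¹ * a) * c⁻¹ = (c * (b : G) * c⁻¹)⁻¹ * (c * (a : G) * c⁻¹) := by group
          rw [h9, h8]
          group
        have h10 := hcA1 ((b : G)⁻¹ * a) (A.mul_mem (A.inv_mem b.2) a.2) (by
          rw [← mul_inv_eq_iff_eq_mul]; exact h7)
        apply Subtype.ext
        have := inv_mul_eq_one.1 h10
        exact this.symm
      have hφs : Function.Surjective φ := Finite.injective_iff_surjective.1 hφ
      obtain ⟨a, haA, hla⟩ := hlA
      obtain ⟨b, hb⟩ := hφs ⟨a, haA⟩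
      apply hla
      have h11 : (a : G) = c * b * c⁻¹ * (b : G)⁻¹ := (congrArg Subtype.val hb).symm
      have h12 : a = ⟨c * b * c⁻¹, hcZ b (hAZ b.2)⟩ * (⟨b, hAZ b.2⟩ : Z)⁻¹ := Subtype.ext h11
      rw [h12, map_mul, map_inv, hstl ⟨b, hAZ b.2⟩ (hcZ b (hAZ b.2)), mul_inv_cancel]

end Cfsg.Agent.H917.CJ
end

-- part: H917/CJ/PsuMain
section
/-!
# The rows `PSU_2m(q)` of S4792: the Frobenius group
-/

set_option autoImplicit false

open Cfsg Module Matrix

namespace Cfsg.Agent.H917.CJ.Su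

open Cfsg.Agent.H430.Conj Cfsg.Agent.H917.CJ

section main

variable {F K : Type*} [Field F] [Fintype F] [Field K] [Algebra F K] [Finite K] {q n : ℕ}
  (hF : Fintype.card F = q ^ 2)

include hF in
/-- Criterion F for `PSU_2m(q)`. -/
theorem frob_of_gen (hn : Module.finrank F K + Module.finrank F K = n) (hn3 : 3 ≤ n) {r : K} (hr0 : r ≠ 0)
    (hN : (Algebra.norm F r) ^ q = Algebra.norm F r) (hgen : Algebra.adjoin F {r} = ⊤)
    (hbig : ∃ w : K, (w ^ q) ^ q ≠ w)
    (hA : ∀ ζ : F, ζ ^ (q + 1) = 1 → ∀ θ : K ≃ₐ[F] K, θ r = algebraMap F K ζ * r → ζ = 1)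
    (hB : ∀ ζ : F, ζ ^ (q + 1) = 1 → ∀ θ : K ≃ₐ[F] K, θ r * r ^ q ≠ algebraMap F K ζ) : FrobCent (PSU n F q) := by
  classical
  obtain ⟨ψ, hψ⟩ := exists_std (K := K) hF hn
  have hfd : Module.Finite F K := Module.Finite.of_finite
  have hq0 := q_pos hF
  have hrq : r ^ q ≠ 0 := pow_ne_zero _ hr0
  -- injectivity of `u ↦ T_u`
  have htw : ∀ u : K, (∀ b, tw hF u b = 0) → u = 0 := by
    intro u hu
    by_contra hne
    obtain ⟨w, hw⟩ := hbig
    have h1 := hu 1
    rw [tw_apply, one_pow, one_pow, mul_one, mul_one, sub_eq_zero] at h1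
    have h2 := hu w
    rw [tw_apply, ← h1, ← mul_sub] at h2
    rcases mul_eq_zero.1 h2 with h3 | h3
    · exact hne h3
    · exact hw (sub_eq_zero.1 h3).symm
  let x := suMk hF ψ hψ (tor q r) (B_tor hF hr0) (det_tor hr0 hN)
  have hx : ∀ v, suEnd ψ x v = ((r ^ q)⁻¹ * v.1, r * v.2) := by
    intro v
    rw [suEnd_suMk]
    rfl
  let U : K → SU n F q := fun u => suMk hF ψ hψ (uni hF u) (B_uni hF u) (det_uni hF u)
  have hU : ∀ u, suEnd ψ (U u) = uni hF u := fun u => suEnd_suMk hF ψ hψ _ (B_uni hF u) (det_uni hF u)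
  let UH : Multiplicative K →* SU n F q :=
    { toFun := fun u => U u.toAdd
      map_one' := by
        apply suEnd_injective ψ
        rw [hU, MonoidHom.map_one (suEnd ψ)]
        exact uni_zero hF
      map_mul' := by
        intro u v
        apply suEnd_injective ψ
        rw [MonoidHom.map_mul (suEnd ψ), hU, hU, hU]
        exact uni_mul hF _ _ }
  have hUH : ∀ u : Multiplicative K, suEnd ψ (UH u) = uni hF u.toAdd := fun u => hU _
  -- `s = r^{-q}` generates `K` as well
  have hsgen : Algebra.adjoin F {(r ^ q)⁻¹} = ⊤ := by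
    rw [eq_top_iff, ← hgen, Algebra.adjoin_le_iff]
    intro y hy
    rw [Set.mem_singleton_iff] at hy
    rw [hy]
    -- `r` is a power of `r ^ q`, hence of its inverse
    have hfin : Finite Kˣ := inferInstance
    have h1 : ∃ k : ℕ, ((r ^ q)⁻¹) ^ k = r := by
      obtain ⟨p, e, hp, hc, hqe⟩ := exists_char hF
      have := Fact.mk hp
      have : CharP K p := charP_of_injective_algebraMap (algebraMap F K).injective p
      let R : Kˣ := Units.mk0 r hr0
      have hcop : Nat.Coprime (orderOf R) q := by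
        rw [hqe]
        apply Nat.Coprime.pow_right
        rw [Nat.coprime_comm, hp.coprime_iff_not_dvd]
        intro hdvd
        have h2 : p ∣ Nat.card Kˣ := hdvd.trans (orderOf_dvd_natCard R)
        have : Fintype K := Fintype.ofFinite K
        rw [Nat.card_units, Nat.card_eq_fintype_card] at h2
        have h3 : p ∣ Fintype.card K := by
          obtain ⟨k, -, hk⟩ := FiniteField.card K p
          rw [hk]
          exact dvd_pow_self p k.2.ne'
        have h4 : p ∣ 1 := by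
          have h5 : 1 ≤ Fintype.card K := Fintype.card_pos
          have h6 : Fintype.card K - (Fintype.card K - 1) = 1 := by omega
          rw [← h6]
          exact Nat.dvd_sub h3 h2
        exact hp.one_lt.ne' (Nat.dvd_one.1 h4)
      have h2 : R ∈ Submonoid.powers (R ^ q)⁻¹ := by
        rw [mem_powers_iff_mem_zpowers, Subgroup.zpowers_inv]
        have h3 : Subgroup.zpowers (R ^ q) = Subgroup.zpowers R := by
          apply Subgroup.eq_of_le_of_card_ge
          · rw [Subgroup.zpowers_le]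
            exact Subgroup.pow_mem _ (Subgroup.mem_zpowers R) q
          · rw [Nat.card_zpowers, Nat.card_zpowers, hcop.orderOf_pow]
        rw [h3]
        exact Subgroup.mem_zpowers R
      obtain ⟨k, hk⟩ := (Submonoid.mem_powers_iff _ _).1 h2
      refine ⟨k, ?_⟩
      have h3 := congrArg Units.val hk
      simpa [R] using h3
    obtain ⟨k, hk⟩ := h1
    have h2 : ((r ^ q)⁻¹) ^ k ∈ Algebra.adjoin F {(r ^ q)⁻¹} :=
      Subalgebra.pow_mem (Algebra.adjoin F {(r ^ q)⁻¹}) (Algebra.subset_adjoin (Set.mem_singleton _)) k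
    rwa [hk] at h2
  have key : ∀ c z : SU n F q, z ∈ Subgroup.center (SU n F q) → c * x = z * (x * c) →
      ∃ a a' : K, a * a' ^ q = 1 ∧ ∀ v, suEnd ψ c v = (a * v.1, a' * v.2) := by
    intro c z hz hcx
    obtain ⟨ζ, hζ2, hζ⟩ := smul_of_mem_center hF ψ hn3 hz
    have hζ0 : ζ ≠ 0 := by
      rintro rfl
      rw [zero_pow (by omega)] at hζ2
      exact zero_ne_one hζ2
    have hζK : algebraMap F K ζ ≠ 0 := by rwa [Ne, map_eq_zero]
    have hζq : (algebraMap F K ζ) ^ q = (algebraMap F K ζ)⁻¹ := by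
      apply eq_inv_of_mul_eq_one_left
      rw [← pow_succ, ← map_pow, hζ2, map_one]
    have hζi2 : ζ⁻¹ ^ (q + 1) = 1 := by rw [inv_pow, hζ2, inv_one]
    have e0 : ∀ v, suEnd ψ c (suEnd ψ x v) = ζ • suEnd ψ x (suEnd ψ c v) := by
      intro v
      have := congrArg (fun g => suEnd ψ g v) hcx
      simp only [map_mul, Module.End.mul_apply, hζ] at this
      exact this
    have hcinj := suEnd_apply_injective ψ c
    let T11 : K →ₗ[F] K := LinearMap.fst F K K ∘ₗ suEnd ψ c ∘ₗ LinearMap.inl F K K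
    let T21 : K →ₗ[F] K := LinearMap.snd F K K ∘ₗ suEnd ψ c ∘ₗ LinearMap.inl F K K
    let T12 : K →ₗ[F] K := LinearMap.fst F K K ∘ₗ suEnd ψ c ∘ₗ LinearMap.inr F K K
    let T22 : K →ₗ[F] K := LinearMap.snd F K K ∘ₗ suEnd ψ c ∘ₗ LinearMap.inr F K K
    have hT1 : ∀ k : K, suEnd ψ c (k, 0) = (T11 k, T21 k) := fun k => rfl
    have hT2 : ∀ k : K, suEnd ψ c (0, k) = (T12 k, T22 k) := fun k => rfl
    have a1 : ∀ k, T11 ((r ^ q)⁻¹ * k) = (algebraMap F K ζ * (r ^ q)⁻¹) * T11 k ∧
        T21 ((r ^ q)⁻¹ * k) = (algebraMap F K ζ * r) * T21 k := by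
      intro k
      have := e0 (k, 0)
      rw [hx, hx] at this
      simp only [mul_zero] at this
      rw [hT1, hT1] at this
      refine ⟨?_, ?_⟩
      · have h := congrArg Prod.fst this
        simp only [Prod.smul_fst] at h
        rw [h, Algebra.smul_def, mul_assoc]
      · have h := congrArg Prod.snd this
        simp only [Prod.smul_snd] at h
        rw [h, Algebra.smul_def, mul_assoc]
    have a2 : ∀ k, T12 (r * k) = (algebraMap F K ζ * (r ^ q)⁻¹) * T12 k ∧
        T22 (r * k) = (algebraMap F K ζ * r) * T22 k := by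
      intro k
      have := e0 (0, k)
      rw [hx, hx] at this
      simp only [mul_zero] at this
      rw [hT2, hT2] at this
      refine ⟨?_, ?_⟩
      · have h := congrArg Prod.fst this
        simp only [Prod.smul_fst] at h
        rw [h, Algebra.smul_def, mul_assoc]
      · have h := congrArg Prod.snd this
        simp only [Prod.smul_snd] at h
        rw [h, Algebra.smul_def, mul_assoc]
    -- off-diagonal blocks vanish
    have hT12 : T12 = 0 := by
      by_contra hne
      obtain ⟨θ, hθ, _⟩ := conj_gen hgen T12 hne fun k => (a2 k).1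
      apply hB ζ hζ2 θ
      rw [hθ, mul_assoc, inv_mul_cancel₀ hrq, mul_one]
    have hT21 : T21 = 0 := by
      by_contra hne
      obtain ⟨θ, hθ, _⟩ := conj_gen hsgen T21 hne fun k => (a1 k).2
      apply hB ζ⁻¹ hζi2 θ.symm
      -- `θ (r^{-q}) = ζ r`, so `r^{-q} = ζ θ⁻¹(r)`
      have h1 : (r ^ q)⁻¹ = algebraMap F K ζ * θ.symm r := by
        have h2 := congrArg θ.symm hθ
        rw [AlgEquiv.symm_apply_apply, map_mul, AlgEquiv.commutes] at h2
        exact h2
      have h3 : θ.symm r = (algebraMap F K ζ)⁻¹ * (r ^ q)⁻¹ := by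
        rw [h1, ← mul_assoc, inv_mul_cancel₀ hζK, one_mul]
      rw [h3, mul_assoc, inv_mul_cancel₀ hrq, mul_one, map_inv₀]
    have hT22 : T22 ≠ 0 := by
      intro h
      have : suEnd ψ c ((0 : K), (1 : K)) = suEnd ψ c 0 := by
        rw [map_zero, hT2, h, hT12]; rfl
      have := hcinj this
      simp at this
    obtain ⟨θ, hθ, _⟩ := conj_gen hgen T22 hT22 fun k => (a2 k).2
    have hζ1 : ζ = 1 := hA ζ hζ2 θ hθ
    subst hζ1
    simp only [map_one, one_mul] at a1 a2
    have b1 : ∀ k, T11 k = T11 1 * k := comm_gen hsgen T11 fun k => (a1 k).1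
    have b2 : ∀ k, T22 k = T22 1 * k := comm_gen hgen T22 fun k => (a2 k).2
    have hC : ∀ v, suEnd ψ c v = (T11 1 * v.1, T22 1 * v.2) := by
      intro v
      have hv : v = (v.1, 0) + (0, v.2) := by ext <;> simp
      conv_lhs => rw [hv]
      rw [map_add, hT1, hT2, hT21, hT12, b1, b2]
      simp only [_root_.LinearMap.zero_apply, _root_.Prod.mk_add_mk, _root_.add_zero, _root_.zero_add]
    refine ⟨T11 1, T22 1, ?_, hC⟩
    have hnd := traceForm_nondegenerate F K
    have h5 : ∀ l : K, Algebra.traceForm F K (T11 1 * T22 1 ^ q - 1) l = 0 := by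
      intro l
      have h6 := B_suEnd hF ψ hψ c (0, 1) (l, 0)
      rw [hC, hC, B_apply, B_apply] at h6
      simp only [mul_one, mul_zero, zero_pow hq0, add_zero, one_pow, map_zero] at h6
      rw [Algebra.traceForm_apply, sub_mul, map_sub, one_mul, sub_eq_zero, ← h6]
      congr 1
      ring
    have h7 := hnd.1 _ h5
    exact sub_eq_zero.1 h7
  have hconj : ∀ (c : SU n F q) (a a' : K), a * a' ^ q = 1 →
      (∀ v, suEnd ψ c v = (a * v.1, a' * v.2)) → ∀ u : K,
      c * UH (Multiplicative.ofAdd u) = UH (Multiplicative.ofAdd (a * a'⁻¹ * u)) * c := by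
    intro c a a' haa hc u
    apply suEnd_injective ψ
    rw [map_mul, map_mul, hUH, hUH]
    refine LinearMap.ext fun v => ?_
    rw [Module.End.mul_apply, Module.End.mul_apply, hc, hc, uni_apply, uni_apply]
    simp only [toAdd_ofAdd, Prod.mk.injEq, and_true]
    have ha' : a' ≠ 0 := by
      rintro rfl
      rw [zero_pow hq0, mul_zero] at haa
      exact zero_ne_one haa
    have haq : a = (a' ^ q)⁻¹ := eq_inv_of_mul_eq_one_left haa
    rw [tw_apply, tw_apply, mul_add, add_right_inj, haq]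
    simp only [mul_pow, inv_pow]
    field_simp
  have hUinj : ∀ u v : Multiplicative K, UH u = UH v → u = v := by
    intro u v h
    have h1 : ∀ b, tw hF u.toAdd b = tw hF v.toAdd b := by
      intro b
      have h2 := congrArg (fun g => (suEnd ψ g (0, b)).1) h
      simp only [hUH, uni_apply, zero_add] at h2
      exact h2
    have h3 : u.toAdd - v.toAdd = 0 := by
      apply htw
      intro b
      rw [tw_apply, sub_q hF]
      have h4 := h1 b
      rw [tw_apply, tw_apply] at h4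
      linear_combination h4
    have h5 : u.toAdd = v.toAdd := sub_eq_zero.1 h3
    exact h5
  refine frob_quot _ x UH.range ?_ ?_ ?_ ?_
  · intro h0
    have e1 : UH (Multiplicative.ofAdd (1 : K)) ∈ UH.range := ⟨_, rfl⟩
    rw [h0, Subgroup.mem_bot, ← map_one UH] at e1
    have e2 := hUinj _ _ e1
    have e3 : (1 : K) = 0 := e2
    exact one_ne_zero e3
  · rintro _ ⟨u, rfl⟩ _ ⟨v, rfl⟩
    rw [← map_mul, ← map_mul, mul_comm]
  · rintro _ ⟨u, rfl⟩ hu
    obtain ⟨ζ, -, hζ⟩ := smul_of_mem_center hF ψ hn3 hu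
    have h1 : ∀ b, tw hF u.toAdd b = 0 := by
      intro b
      have e2 := hζ (0, b)
      rw [hUH, uni_apply] at e2
      have e4 := congrArg Prod.fst e2
      simpa only [_root_.zero_add, _root_.Prod.smul_mk, _root_.smul_zero] using e4
    have h2 := htw _ h1
    have h3 : u = 1 := h2
    rw [h3, map_one]
  · intro c z hz hcx
    obtain ⟨a, a', haa, hc⟩ := key c z hz hcx
    constructor
    · rintro _ ⟨u, rfl⟩
      refine ⟨Multiplicative.ofAdd (a * a'⁻¹ * u.toAdd), ?_⟩
      rw [eq_mul_inv_iff_mul_eq]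
      exact (hconj c a a' haa hc u.toAdd).symm
    · rintro _ ⟨u, rfl⟩ hcu
      have e1 := hconj c a a' haa hc u.toAdd
      rw [ofAdd_toAdd, hcu] at e1
      have e2 := hUinj _ _ (mul_right_cancel e1)
      have e3 : u.toAdd = a * a'⁻¹ * u.toAdd := e2
      have ha' : a' ≠ 0 := by
        rintro rfl
        rw [zero_pow hq0, mul_zero] at haa
        exact zero_ne_one haa
      by_cases hu : u.toAdd = 0
      · left
        rw [← ofAdd_toAdd u, hu]
        exact map_one UH
      · right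
        have e4 : a * a'⁻¹ = 1 := by
          apply mul_right_cancel₀ hu
          rw [one_mul, ← e3]
        have e5 : a = a' := by
          rw [mul_inv_eq_one₀ ha'] at e4
          exact e4
        -- `a` lies in `F`
        have e6 : a ^ (q + 1) = 1 := by rw [pow_succ']; nth_rewrite 2 [e5]; exact haa
        have e7 : ∃ ζ : F, algebraMap F K ζ = a := by
          have e8 : a ^ Fintype.card F = a := by
            rw [hF]
            have h2q := two_le_q hF
            have e9 : q ^ 2 = (q + 1) * (q - 1) + 1 := by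
              obtain ⟨d, rfl⟩ : ∃ d, q = d + 1 := ⟨q - 1, by omega⟩
              rw [Nat.add_sub_cancel]; ring
            rw [e9, pow_succ, pow_mul, e6, one_pow, one_mul]
          have e9 : ∀ i : ℕ, a ^ (Nat.card F ^ i) = a := by
            intro i
            induction i with
            | zero => rw [pow_zero, pow_one]
            | succ i ih => rw [pow_succ, pow_mul, ih, Nat.card_eq_fintype_card, e8]
          have e10 : a ∈ (⊥ : IntermediateField F K) := by
            rw [IsGalois.mem_bot_iff_fixed]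
            intro θ
            obtain ⟨i, hi⟩ := aut_eq_pow θ
            rw [hi, e9]
          exact IntermediateField.mem_bot.1 e10
        obtain ⟨ζ, hζ⟩ := e7
        apply mem_center_of_smul ψ (ζ := ζ)
        intro v
        rw [hc, ← e5, ← hζ, ← Algebra.smul_def, ← Algebra.smul_def]
        rfl

end main

end Cfsg.Agent.H917.CJ.Su
end

-- part: H917/CJ/Psp
section
/-!
# The rows `PSp_2n(q)` of S4792

`V = K ⊕ K`, `K = 𝔽_{q^n}`, form `Tr(a d - b c)`, `x = (s, s⁻¹)` with `s` a generator of `Kˣ`,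
`A = {(a, b) ↦ (a + u b, b)}`. All cases except `PSp_4(3)` (and `Sp_4(2)`).
-/

set_option autoImplicit false

open Cfsg Module Matrix

namespace Cfsg.Agent.H917.CJ.Sp

open Cfsg.Agent.H430.Conj Cfsg.Agent.H917.CJ

section form

variable {F K : Type*} [Field F] [Field K] [Algebra F K]

/-- The symplectic form `Tr(a d - b c)` on `K × K`. -/
noncomputable def frm : LinearMap.BilinForm F (K × K) :=
  LinearMap.mk₂ F (fun v w => Algebra.trace F K (v.1 * w.2 - v.2 * w.1))
    (by intro a b c; rw [← map_add]; congr 1; simp; ring)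
    (by intro r a b; rw [← map_smul]; congr 1; simp [smul_sub])
    (by intro a b c; rw [← map_add]; congr 1; simp; ring)
    (by intro r a b; rw [← map_smul]; congr 1; simp [smul_sub])

theorem frm_apply (v w : K × K) : frm (F := F) v w = Algebra.trace F K (v.1 * w.2 - v.2 * w.1) := rfl

variable [Module.Finite F K] [Algebra.IsSeparable F K] {m : ℕ} (b : Basis (Fin m) F K)

/-- The symplectic basis. -/
noncomputable def bas : Basis (Fin m ⊕ Fin m) F (K × K) :=
  b.prod ((Algebra.traceForm F K).dualBasis (traceForm_nondegenerate F K) b)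

theorem toMatrix_frm : LinearMap.BilinForm.toMatrix (bas b) (frm (F := F) (K := K)) = -J (Fin m) F := by
  ext i j
  rw [LinearMap.BilinForm.toMatrix_apply, frm_apply]
  have hd : ∀ i j, Algebra.trace F K (b i *
      ((Algebra.traceForm F K).dualBasis (traceForm_nondegenerate F K) b) j) = if i = j then 1 else 0 := by
    intro i j
    exact LinearMap.BilinForm.apply_dualBasis_right (traceForm_nondegenerate F K) (Algebra.traceForm_isSymm F) b i j
  rcases i with i | i <;> rcases j with j | j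
  · simp [bas, J, Matrix.fromBlocks]
  · simp [bas, J, Matrix.fromBlocks, hd, Matrix.one_apply]
  · simp only [bas, J, Matrix.fromBlocks, Basis.prod_apply_inr_fst, Basis.prod_apply_inl_snd, mul_zero, zero_sub,
      Basis.prod_apply_inr_snd, Basis.prod_apply_inl_fst, map_neg]
    rw [mul_comm, hd]
    simp [Matrix.one_apply, eq_comm]
  · simp only [bas, J, Matrix.fromBlocks, _root_.Cfsg.Agent.H917.CJ.Sp.bas, _root_.Module.Basis.prod_apply, _root_.LinearMap.coe_inl, _root_.LinearMap.coe_inr, _root_.Sum.elim_inr, _root_.Function.comp_apply, _root_.MulZeroClass.zero_mul, _root_.MulZeroClass.mul_zero, _root_.sub_self, _root_.map_zero, _root_.Matrix.J, _root_.Matrix.fromBlocks, _root_.Matrix.neg_apply, _root_.Matrix.of_apply, _root_.Matrix.zero_apply, _root_.neg_zero]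

theorem sp_iff (X : Module.End F (K × K)) :
    (LinearMap.toMatrix (bas b) (bas b) X) ∈ symplecticGroup (Fin m) F ↔
      ∀ v w, frm (F := F) (X v) (X w) = frm v w := by
  rw [SymplecticGroup.mem_iff']
  have h1 := LinearMap.BilinForm.toMatrix_comp (bas b) (bas b) (frm (F := F) (K := K)) X X
  rw [toMatrix_frm, mul_neg, neg_mul] at h1
  constructor
  · intro h
    rw [h, ← toMatrix_frm b] at h1
    have h2 := (LinearMap.BilinForm.toMatrix (bas b)).injective h1
    intro v w
    exact congrArg (fun β : LinearMap.BilinForm F (K × K) => β v w) h2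
  · intro h
    have h2 : (frm (F := F) (K := K)).comp X X = frm := by
      refine LinearMap.ext fun v => LinearMap.ext fun w => h v w
    rw [h2, toMatrix_frm] at h1
    exact (neg_injective h1).symm

/-- The symplectic group acting on `K × K`. -/
noncomputable def spEnd : symplecticGroup (Fin m) F →* Module.End F (K × K) where
  toFun g := Matrix.toLinAlgEquiv (bas b) (g : Matrix (Fin m ⊕ Fin m) (Fin m ⊕ Fin m) F)
  map_one' := by rw [Submonoid.coe_one, map_one]
  map_mul' g h := by rw [Submonoid.coe_mul, map_mul]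

theorem spEnd_apply (g : symplecticGroup (Fin m) F) :
    spEnd b g = Matrix.toLinAlgEquiv (bas b) (g : Matrix (Fin m ⊕ Fin m) (Fin m ⊕ Fin m) F) := rfl

theorem spEnd_injective : Function.Injective (spEnd b) := by
  intro g h hgh
  rw [spEnd_apply, spEnd_apply] at hgh
  exact Subtype.ext ((Matrix.toLinAlgEquiv (bas b)).injective hgh)

theorem frm_spEnd (g : symplecticGroup (Fin m) F) (v w : K × K) :
    frm (F := F) (spEnd b g v) (spEnd b g w) = frm v w := by
  refine (sp_iff b (spEnd b g)).1 ?_ v w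
  have : LinearMap.toMatrix (bas b) (bas b) (spEnd b g) = (g : Matrix (Fin m ⊕ Fin m) (Fin m ⊕ Fin m) F) :=
    LinearMap.toMatrix_toLin _ _ _
  rw [this]
  exact g.2

/-- Symplectic matrices from isometries. -/
noncomputable def spMk (X : Module.End F (K × K)) (h : ∀ v w, frm (F := F) (X v) (X w) = frm v w) :
    symplecticGroup (Fin m) F :=
  ⟨LinearMap.toMatrix (bas b) (bas b) X, (sp_iff b X).2 h⟩

theorem spEnd_spMk (X : Module.End F (K × K)) (h : ∀ v w, frm (F := F) (X v) (X w) = frm v w) :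
    spEnd b (spMk b X h) = X :=
  Matrix.toLin_toMatrix _ _ _

theorem mem_center_of_smul {g : symplecticGroup (Fin m) F} {ζ : F} (h : ∀ v, spEnd b g v = ζ • v) :
    g ∈ Subgroup.center (symplecticGroup (Fin m) F) := by
  rw [Subgroup.mem_center_iff]
  intro k
  apply spEnd_injective b
  rw [map_mul, map_mul]
  refine LinearMap.ext fun v => ?_
  simp only [Module.End.mul_apply, h, map_smul]

theorem smul_of_mem_center {g : symplecticGroup (Fin m) F}
    (h : g ∈ Subgroup.center (symplecticGroup (Fin m) F)) : ∃ ζ : F, ζ ^ 2 = 1 ∧ ∀ v, spEnd b g v = ζ • v := by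
  rcases Cfsg.Agent.ClassicalGeometry.SympInvolutions.center_eq h with h1 | h1
  · refine ⟨1, by simp, fun v => ?_⟩
    rw [spEnd_apply, h1, map_one, one_smul]
    rfl
  · refine ⟨-1, by simp only [_root_.even_two, _root_.Even.neg_pow, _root_.one_pow], fun v => ?_⟩
    rw [spEnd_apply, h1, map_neg, map_one, neg_smul, one_smul]
    rfl

theorem spEnd_apply_injective (g : symplecticGroup (Fin m) F) : Function.Injective (spEnd b g) := by
  intro v w h
  have h1 : ∀ v, spEnd b g⁻¹ (spEnd b g v) = v := by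
    intro v
    rw [← Module.End.mul_apply, ← map_mul, inv_mul_cancel, map_one]
    rfl
  rw [← h1 v, h, h1]

/-- The unipotent map `(k, l) ↦ (k + u l, l)`. -/
noncomputable def uni (u : K) : Module.End F (K × K) :=
  LinearMap.id + (LinearMap.inl F K K) ∘ₗ (LinearMap.mulLeft F u) ∘ₗ (LinearMap.snd F K K)

omit [Module.Finite F K] [Algebra.IsSeparable F K] in
theorem uni_apply (u : K) (v : K × K) : uni (F := F) u v = (v.1 + u * v.2, v.2) := by
  simp [uni, Prod.ext_iff]

omit [Module.Finite F K] [Algebra.IsSeparable F K] in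
theorem frm_uni (u : K) (v w : K × K) : frm (F := F) (uni (F := F) u v) (uni (F := F) u w) = frm v w := by
  rw [frm_apply, frm_apply, uni_apply, uni_apply]
  congr 1
  ring

/-- The unipotent subgroup. -/
noncomputable def uniHom : Multiplicative K →* symplecticGroup (Fin m) F where
  toFun u := spMk b (uni u.toAdd) (frm_uni _)
  map_one' := by
    apply spEnd_injective b
    rw [spEnd_spMk, MonoidHom.map_one (spEnd b)]
    refine LinearMap.ext fun w => ?_
    rw [uni_apply]
    simp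
  map_mul' u v := by
    apply spEnd_injective b
    rw [MonoidHom.map_mul (spEnd b), spEnd_spMk, spEnd_spMk, spEnd_spMk]
    refine LinearMap.ext fun w => ?_
    rw [Module.End.mul_apply, uni_apply, uni_apply, uni_apply]
    simp only [toAdd_mul, Prod.mk.injEq, and_true]
    ring

theorem spEnd_uniHom (u : Multiplicative K) : spEnd b (uniHom b u) = uni u.toAdd := spEnd_spMk b _ (frm_uni _)

/-- The torus element `(s, s⁻¹)`. -/
noncomputable def tor (s : K) : Module.End F (K × K) :=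
  LinearMap.prodMap (LinearMap.mulLeft F s) (LinearMap.mulLeft F s⁻¹)

omit [Module.Finite F K] [Algebra.IsSeparable F K] in
theorem tor_apply (s : K) (v : K × K) : tor (F := F) s v = (s * v.1, s⁻¹ * v.2) := rfl

omit [Module.Finite F K] [Algebra.IsSeparable F K] in
theorem frm_tor {s : K} (hs : s ≠ 0) (v w : K × K) :
    frm (F := F) (tor (F := F) s v) (tor (F := F) s w) = frm v w := by
  rw [frm_apply, frm_apply, tor_apply, tor_apply]
  congr 1
  field_simp

include b in
/-- Criterion F for `PSp` from the conjugacy properties of a generator `s` of `K`. -/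
theorem frob_of_gen {s : K} (hs0 : s ≠ 0) (hgen : Algebra.adjoin F {s} = ⊤)
    (h1 : ∀ ζ : F, ζ ^ 2 = 1 → ∀ θ : K ≃ₐ[F] K, θ s = algebraMap F K ζ * s → ζ = 1)
    (h2 : ∀ ζ : F, ζ ^ 2 = 1 → ∀ θ : K ≃ₐ[F] K, θ s ≠ algebraMap F K ζ * s⁻¹) : FrobCent (PSp m F) := by
  classical
  let x := spMk b (tor s) (frm_tor hs0)
  have hx : ∀ v, spEnd b x v = (s * v.1, s⁻¹ * v.2) := by
    intro v
    rw [spEnd_spMk]
    rfl
  have key : ∀ c z : symplecticGroup (Fin m) F,
      z ∈ Subgroup.center (symplecticGroup (Fin m) F) → c * x = z * (x * c) →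
      ∃ a a' : K, a * a' = 1 ∧ ∀ v, spEnd b c v = (a * v.1, a' * v.2) := by
    intro c z hz hcx
    obtain ⟨ζ, hζ2, hζ⟩ := smul_of_mem_center b hz
    have hζζ : ζ * ζ = 1 := by rw [← sq, hζ2]
    have e0 : ∀ v, spEnd b c (spEnd b x v) = ζ • spEnd b x (spEnd b c v) := by
      intro v
      have := congrArg (fun g => spEnd b g v) hcx
      simp only [map_mul, Module.End.mul_apply, hζ] at this
      exact this
    have hcinj := spEnd_apply_injective b c
    let T11 : K →ₗ[F] K := LinearMap.fst F K K ∘ₗ spEnd b c ∘ₗ LinearMap.inl F K K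
    let T21 : K →ₗ[F] K := LinearMap.snd F K K ∘ₗ spEnd b c ∘ₗ LinearMap.inl F K K
    let T12 : K →ₗ[F] K := LinearMap.fst F K K ∘ₗ spEnd b c ∘ₗ LinearMap.inr F K K
    let T22 : K →ₗ[F] K := LinearMap.snd F K K ∘ₗ spEnd b c ∘ₗ LinearMap.inr F K K
    have hT1 : ∀ k : K, spEnd b c (k, 0) = (T11 k, T21 k) := fun k => rfl
    have hT2 : ∀ k : K, spEnd b c (0, k) = (T12 k, T22 k) := fun k => rfl
    have a1 : ∀ k, T11 (s * k) = (algebraMap F K ζ * s) * T11 k ∧
        T21 (s * k) = (algebraMap F K ζ * s⁻¹) * T21 k := by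
      intro k
      have := e0 (k, 0)
      rw [hx, hx] at this
      simp only [mul_zero] at this
      rw [hT1, hT1] at this
      refine ⟨?_, ?_⟩
      · have h := congrArg Prod.fst this
        simp only [Prod.smul_fst] at h
        rw [h, Algebra.smul_def, mul_assoc]
      · have h := congrArg Prod.snd this
        simp only [Prod.smul_snd] at h
        rw [h, Algebra.smul_def, mul_assoc]
    have a2 : ∀ k, T12 (s⁻¹ * k) = (algebraMap F K ζ * s) * T12 k ∧
        T22 (s⁻¹ * k) = (algebraMap F K ζ * s⁻¹) * T22 k := by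
      intro k
      have := e0 (0, k)
      rw [hx, hx] at this
      simp only [mul_zero] at this
      rw [hT2, hT2] at this
      refine ⟨?_, ?_⟩
      · have h := congrArg Prod.fst this
        simp only [Prod.smul_fst] at h
        rw [h, Algebra.smul_def, mul_assoc]
      · have h := congrArg Prod.snd this
        simp only [Prod.smul_snd] at h
        rw [h, Algebra.smul_def, mul_assoc]
    have hzz : algebraMap F K ζ * algebraMap F K ζ = 1 := by rw [← map_mul, hζζ, map_one]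
    have a3 : ∀ k, T12 (s * k) = (algebraMap F K ζ * s⁻¹) * T12 k := by
      intro k
      have := (a2 (s * k)).1
      rw [← mul_assoc, inv_mul_cancel₀ hs0, one_mul] at this
      rw [this]
      calc T12 (s * k) = (algebraMap F K ζ * algebraMap F K ζ) * (s⁻¹ * s) * T12 (s * k) := by
            rw [hzz, inv_mul_cancel₀ hs0, one_mul, one_mul]
        _ = _ := by ring
    have a4 : ∀ k, T22 (s * k) = (algebraMap F K ζ * s) * T22 k := by
      intro k
      have := (a2 (s * k)).2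
      rw [← mul_assoc, inv_mul_cancel₀ hs0, one_mul] at this
      rw [this]
      calc T22 (s * k) = (algebraMap F K ζ * algebraMap F K ζ) * (s * s⁻¹) * T22 (s * k) := by
            rw [hzz, mul_inv_cancel₀ hs0, one_mul, one_mul]
        _ = _ := by ring
    have hT21 : T21 = 0 := by
      by_contra hne
      obtain ⟨θ, hθ, _⟩ := conj_gen hgen T21 hne fun k => (a1 k).2
      exact h2 ζ hζ2 θ hθ
    have hT12 : T12 = 0 := by
      by_contra hne
      obtain ⟨θ, hθ, _⟩ := conj_gen hgen T12 hne a3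
      exact h2 ζ hζ2 θ hθ
    have hT11 : T11 ≠ 0 := by
      intro h
      have : spEnd b c ((1 : K), (0 : K)) = spEnd b c 0 := by
        rw [map_zero, hT1, h, hT21]; rfl
      have := hcinj this
      simp at this
    obtain ⟨θ, hθ, _⟩ := conj_gen hgen T11 hT11 fun k => (a1 k).1
    have hζ1 : ζ = 1 := h1 ζ hζ2 θ hθ
    subst hζ1
    simp only [map_one, one_mul] at a1 a4
    have b1 : ∀ k, T11 k = T11 1 * k := comm_gen hgen T11 fun k => (a1 k).1
    have b2 : ∀ k, T22 k = T22 1 * k := comm_gen hgen T22 a4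
    have hC : ∀ v, spEnd b c v = (T11 1 * v.1, T22 1 * v.2) := by
      intro v
      have hv : v = (v.1, 0) + (0, v.2) := by ext <;> simp
      conv_lhs => rw [hv]
      rw [map_add, hT1, hT2, hT21, hT12, b1, b2]
      simp only [_root_.LinearMap.zero_apply, _root_.Prod.mk_add_mk, _root_.add_zero, _root_.zero_add]
    refine ⟨T11 1, T22 1, ?_, hC⟩
    have hnd := traceForm_nondegenerate F K
    have h5 : ∀ l : K, Algebra.traceForm F K (T11 1 * T22 1 - 1) l = 0 := by
      intro l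
      have h6 := frm_spEnd b c (1, 0) (0, l)
      rw [hC, hC, frm_apply, frm_apply] at h6
      simp only [mul_one, mul_zero, sub_zero, one_mul] at h6
      rw [Algebra.traceForm_apply, sub_mul, map_sub, one_mul, mul_assoc, h6, sub_self]
    have h7 := hnd.1 _ h5
    exact sub_eq_zero.1 h7
  have hconj : ∀ (c : symplecticGroup (Fin m) F) (a a' : K), a * a' = 1 →
      (∀ v, spEnd b c v = (a * v.1, a' * v.2)) → ∀ u : K,
      c * uniHom b (Multiplicative.ofAdd u) = uniHom b (Multiplicative.ofAdd (a * a * u)) * c := by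
    intro c a a' haa hc u
    apply spEnd_injective b
    rw [map_mul, map_mul, spEnd_uniHom, spEnd_uniHom]
    refine LinearMap.ext fun v => ?_
    rw [Module.End.mul_apply, Module.End.mul_apply, hc, hc, uni_apply, uni_apply]
    simp only [toAdd_ofAdd, Prod.mk.injEq, and_true]
    calc a * (v.1 + u * v.2) = a * v.1 + a * u * v.2 * 1 := by ring
      _ = a * v.1 + a * u * v.2 * (a * a') := by rw [haa]
      _ = _ := by ring
  refine frob_quot _ x (uniHom b).range ?_ ?_ ?_ ?_
  · intro h0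
    have e1 : uniHom b (Multiplicative.ofAdd (1 : K)) ∈ (uniHom b).range := ⟨_, rfl⟩
    rw [h0, Subgroup.mem_bot] at e1
    have e2 := congrArg (fun g => (spEnd b g (0, 1)).1) e1
    simp only [spEnd_uniHom, uni_apply, map_one] at e2
    simp at e2
  · rintro _ ⟨u, rfl⟩ _ ⟨v, rfl⟩
    rw [← map_mul, ← map_mul, mul_comm]
  · rintro _ ⟨u, rfl⟩ hu
    obtain ⟨ζ, -, hζ⟩ := smul_of_mem_center b hu
    have e2 := hζ (0, 1)
    rw [spEnd_uniHom, uni_apply] at e2
    have e4 := congrArg Prod.fst e2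
    simp only [_root_.mul_one, _root_.zero_add, _root_.Prod.smul_mk, _root_.smul_zero, _root_.toAdd_eq_zero] at e4
    rw [e4, map_one]
  · intro c z hz hcx
    obtain ⟨a, a', haa, hc⟩ := key c z hz hcx
    constructor
    · rintro _ ⟨u, rfl⟩
      refine ⟨Multiplicative.ofAdd (a * a * u.toAdd), ?_⟩
      rw [eq_mul_inv_iff_mul_eq]
      exact (hconj c a a' haa hc u.toAdd).symm
    · rintro _ ⟨u, rfl⟩ hcu
      have e1 := hconj c a a' haa hc u.toAdd
      rw [ofAdd_toAdd, hcu] at e1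
      have e2 := mul_right_cancel e1
      have e3 := congrArg (fun g => (spEnd b g (0, 1)).1) e2
      simp only [spEnd_uniHom, uni_apply, toAdd_ofAdd, zero_add, mul_one] at e3
      by_cases hu : u.toAdd = 0
      · left
        rw [← ofAdd_toAdd u, hu, ofAdd_zero, map_one]
      · right
        have e4 : a * a = 1 := by
          apply mul_right_cancel₀ hu
          rw [one_mul, ← e3]
        have e5 : a' = a := by
          calc a' = (a * a) * a' := by rw [e4, one_mul]
            _ = a * (a * a') := by ring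
            _ = a := by rw [haa, mul_one]
        rcases mul_self_eq_one_iff.1 e4 with e6 | e6
        · apply mem_center_of_smul b (ζ := 1)
          intro v
          rw [hc, e5, e6, one_smul, one_mul, one_mul]
        · apply mem_center_of_smul b (ζ := -1)
          intro v
          rw [hc, e5, e6, neg_smul, one_smul]
          ext <;> simp

end form

/-! ### Numerics -/

theorem pow_lt_aux {q n i : ℕ} (hq : 2 ≤ q) (hi : i < n) : 2 * (q ^ i - 1) < q ^ n - 1 := by
  have h1 : q ^ i * 2 ≤ q ^ n := by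
    calc q ^ i * 2 ≤ q ^ i * q := Nat.mul_le_mul_left _ hq
      _ = q ^ (i + 1) := by ring
      _ ≤ q ^ n := Nat.pow_le_pow_right (by omega) hi
  have h2 : 1 ≤ q ^ i := Nat.one_le_pow _ _ (by omega)
  omega

theorem not_dvd_aux {q n i : ℕ} (hq : 3 ≤ q) (hn : 2 ≤ n) (hi : i < n) (h3 : q = 3 → 3 ≤ n) :
    ¬ q ^ n - 1 ∣ 2 * (q ^ i + 1) := by
  intro h
  have h1 := Nat.le_of_dvd (by positivity) h
  obtain ⟨k, rfl⟩ : ∃ k, n = k + 1 := ⟨n - 1, by omega⟩
  have h2 : q ^ i ≤ q ^ k := Nat.pow_le_pow_right (by omega) (by omega)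
  have h4 : q ^ (k + 1) ≤ 2 * q ^ k + 3 := by
    have : 1 ≤ q ^ (k + 1) := Nat.one_le_pow _ _ (by omega)
    omega
  rw [pow_succ] at h4
  rcases Nat.lt_or_ge q 4 with h5 | h5
  · have h6 : q = 3 := by omega
    subst h6
    have h7 : 3 ^ 2 ≤ 3 ^ k := Nat.pow_le_pow_right (by norm_num) (by have := h3 rfl; omega)
    omega
  · have h7 : q ^ 1 ≤ q ^ k := Nat.pow_le_pow_right (by omega) (by omega)
    have h8 : q ^ k * 4 ≤ q ^ k * q := Nat.mul_le_mul_left _ h5
    rw [pow_one] at h7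
    omega

theorem not_dvd_aux2 {n i : ℕ} (hn : 3 ≤ n) (hi : i < n) : ¬ 2 ^ n - 1 ∣ 2 ^ i + 1 := by
  intro h
  have h1 := Nat.le_of_dvd (by positivity) h
  obtain ⟨k, rfl⟩ : ∃ k, n = k + 1 := ⟨n - 1, by omega⟩
  have h2 : 2 ^ i ≤ 2 ^ k := Nat.pow_le_pow_right (by omega) (by omega)
  rw [pow_succ] at h1
  have h7 : 2 ^ 2 ≤ 2 ^ k := Nat.pow_le_pow_right (by norm_num) (by omega)
  omega

theorem frob_psp {F : Type*} [Field F] [Finite F] {m : ℕ} (hm : 2 ≤ m) (h2 : Nat.card F = 2 → 3 ≤ m)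
    (h3 : Nat.card F = 3 → 3 ≤ m) : FrobCent (PSp m F) := by
  obtain ⟨K, _, _, _, hK⟩ := exists_ext F m (by omega)
  have hfd : Module.Finite F K := Module.Finite.of_finite
  have := Fintype.ofFinite F
  have := Fintype.ofFinite K
  obtain ⟨s, hs⟩ := IsCyclic.exists_generator (α := Kˣ)
  have hord : orderOf s = Nat.card F ^ m - 1 := by
    rw [orderOf_eq_card_of_forall_mem_zpowers hs, Nat.card_units, Module.natCard_eq_pow_finrank (K := F), hK]
  have hq : 2 ≤ Nat.card F := Finite.one_lt_card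
  have hs0 : (s : K) ≠ 0 := s.ne_zero
  refine frob_of_gen (Module.finBasisOfFinrankEq F K hK) hs0 (adjoin_primitive hs) ?_ ?_
  · intro ζ hζ θ hθ
    obtain ⟨i, hi, hθi⟩ := aut_eq_pow_lt θ
    rw [hK] at hi
    rw [hθi] at hθ
    -- `s ^ (q ^ i - 1) = ζ`
    have h1 : (s : K) ^ (Nat.card F ^ i - 1) = algebraMap F K ζ := by
      apply mul_right_cancel₀ hs0
      rw [← hθ, ← pow_succ]
      congr 1
      have : 1 ≤ Nat.card F ^ i := Nat.one_le_pow _ _ (by omega)
      omega
    have h4 : (s : K) ^ (2 * (Nat.card F ^ i - 1)) = 1 := by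
      rw [mul_comm, pow_mul, h1, ← map_pow, hζ, map_one]
    have h5 : s ^ (2 * (Nat.card F ^ i - 1)) = 1 := by ext; simpa only [_root_.Nat.card_eq_fintype_card, _root_.Units.val_pow_eq_pow_val, _root_.Units.val_one] using h4
    have h6 := orderOf_dvd_of_pow_eq_one h5
    rw [hord] at h6
    have h7 := Nat.eq_zero_of_dvd_of_lt h6 (pow_lt_aux hq hi)
    have h8 : Nat.card F ^ i - 1 = 0 := by omega
    rw [h8, pow_zero] at h1
    exact (map_eq_one_iff _ (algebraMap F K).injective).1 h1.symm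
  · intro ζ hζ θ hθ
    obtain ⟨i, hi, hθi⟩ := aut_eq_pow_lt θ
    rw [hK] at hi
    rw [hθi] at hθ
    have h1 : (s : K) ^ (Nat.card F ^ i + 1) = algebraMap F K ζ := by
      rw [pow_succ, hθ, mul_assoc, inv_mul_cancel₀ hs0, mul_one]
    have h4 : (s : K) ^ (2 * (Nat.card F ^ i + 1)) = 1 := by
      rw [mul_comm, pow_mul, h1, ← map_pow, hζ, map_one]
    rcases Nat.lt_or_ge (Nat.card F) 3 with h5 | h5
    · have hq2 : Nat.card F = 2 := by omega
      have hζ1 : ζ = 1 := by
        classical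
        by_contra hne
        have hζ0 : ζ ≠ 0 := by rintro rfl; simp at hζ
        have h7 : ({0, 1, ζ} : Finset F).card ≤ Fintype.card F := Finset.card_le_univ _
        rw [← Nat.card_eq_fintype_card, hq2, Finset.card_eq_three.2
          ⟨0, 1, ζ, zero_ne_one, Ne.symm hζ0, Ne.symm hne, rfl⟩] at h7
        omega
      rw [hζ1, map_one] at h1
      have h8 : s ^ (Nat.card F ^ i + 1) = 1 := by ext; simpa only [_root_.Nat.card_eq_fintype_card, _root_.Units.val_pow_eq_pow_val, _root_.Units.val_one] using h1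
      have h9 := orderOf_dvd_of_pow_eq_one h8
      rw [hord, hq2] at h9
      exact not_dvd_aux2 (h2 hq2) hi h9
    · have h8 : s ^ (2 * (Nat.card F ^ i + 1)) = 1 := by ext; simpa using h4
      have h9 := orderOf_dvd_of_pow_eq_one h8
      rw [hord] at h9
      exact not_dvd_aux h5 hm hi h3 h9

end Cfsg.Agent.H917.CJ.Sp
end

-- part: H917/CJ/PsuRow
section
/-!
# The rows `PSU_2m(q)` and `PSp_2m(q)` of S4792
-/

set_option autoImplicit false

open Cfsg Module Matrix

namespace Cfsg.Agent.H917.CJ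

open Cfsg.Agent.H430.Conj

/-- A generator criterion for extensions of finite fields. -/
theorem adjoin_of_pow {F K : Type*} [Field F] [Finite F] [Field K] [Algebra F K] [Finite K] (r : K)
    (h : ∀ i, 0 < i → i < Module.finrank F K → r ^ (Nat.card F ^ i) ≠ r) : Algebra.adjoin F {r} = ⊤ := by
  have hfd : Module.Finite F K := Module.Finite.of_finite
  have hint : IsIntegral F r := Algebra.IsIntegral.isIntegral r
  have h1 : IntermediateField.adjoin F {r} = ⊤ := by
    by_contra hne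
    set L := IntermediateField.adjoin F {r} with hL
    have hlt : Module.finrank F L < Module.finrank F K := by
      refine lt_of_le_of_ne (Submodule.finrank_le (Subalgebra.toSubmodule L.toSubalgebra)) fun he => ?_
      apply hne
      apply IntermediateField.toSubalgebra_injective
      apply Subalgebra.toSubmodule_injective
      exact Submodule.eq_top_of_finrank_eq he
    have hpos : 0 < Module.finrank F L := Module.finrank_pos
    have hLfin : Finite L := inferInstance
    have := Fintype.ofFinite L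
    have h2 : Nat.card L = Nat.card F ^ Module.finrank F L := Module.natCard_eq_pow_finrank
    have hr : r ∈ L := IntermediateField.mem_adjoin_simple_self F r
    have h3 : (⟨r, hr⟩ : L) ^ Fintype.card L = ⟨r, hr⟩ := FiniteField.pow_card _
    rw [← Nat.card_eq_fintype_card, h2] at h3
    exact h _ hpos hlt (congrArg Subtype.val h3)
  rw [← IntermediateField.adjoin_simple_toSubalgebra_of_isAlgebraic hint.isAlgebraic, h1]
  rfl

theorem frob_psu_even {F : Type*} [Field F] [Fintype F] {q m : ℕ} (hF : Fintype.card F = q ^ 2) (hm : 2 ≤ m) :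
    FrobCent (PSU (2 * m) F q) := by
  obtain ⟨K, _, _, _, hK⟩ := exists_ext F m (by omega)
  have hfd : Module.Finite F K := Module.Finite.of_finite
  have := Fintype.ofFinite K
  have hq2 := Su.two_le_q hF
  obtain ⟨ω, hω⟩ := IsCyclic.exists_generator (α := Kˣ)
  have hcF : Nat.card F = q ^ 2 := by rw [Nat.card_eq_fintype_card, hF]
  have hord : orderOf ω = q ^ (2 * m) - 1 := by
    rw [orderOf_eq_card_of_forall_mem_zpowers hω, Nat.card_units, Module.natCard_eq_pow_finrank (K := F), hK, hcF,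
      ← pow_mul]
  have hω0 : (ω : K) ≠ 0 := ω.ne_zero
  have hωpow : ∀ k : ℕ, (ω : K) ^ k = 1 → q ^ (2 * m) - 1 ∣ k := by
    intro k hk
    rw [← hord]
    apply orderOf_dvd_of_pow_eq_one
    ext
    simpa using hk
  let r : K := (ω : K) ^ (q + 1)
  have hr0 : r ≠ 0 := pow_ne_zero _ hω0
  have hcard : ∀ i, Nat.card F ^ i = q ^ (2 * i) := fun i => by rw [hcF, ← pow_mul]
  have hone : ∀ i, 1 ≤ q ^ (2 * i) := fun i => Nat.one_le_pow _ _ (by omega)
  have hrpow : ∀ (i : ℕ) (ζ : F), ζ ^ (q + 1) = 1 → r ^ (q ^ (2 * i)) = algebraMap F K ζ * r →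
      q ^ (2 * m) - 1 ∣ (q ^ (2 * i) - 1) * (q + 1) ^ 2 := by
    intro i ζ hζ hi
    apply hωpow
    have h1 : r ^ (q ^ (2 * i) - 1) = algebraMap F K ζ := by
      apply mul_right_cancel₀ hr0
      rw [← hi, ← pow_succ, Nat.sub_add_cancel (hone i)]
    have h2 : (r ^ (q ^ (2 * i) - 1)) ^ (q + 1) = 1 := by rw [h1, ← map_pow, hζ, map_one]
    rw [← h2, ← pow_mul, ← pow_mul]
    congr 1
    ring
  refine Su.frob_of_gen (K := K) hF (r := r) (by rw [hK]; omega) (by omega) hr0 ?_ ?_ ?_ ?_ ?_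
  · change (Algebra.norm F ((ω : K) ^ (q + 1))) ^ q = Algebra.norm F ((ω : K) ^ (q + 1))
    rw [map_pow, pow_succ, mul_pow, Su.pow_qq hF, mul_comm]
  · apply adjoin_of_pow
    intro i hi him h
    rw [hK] at him
    rw [hcard] at h
    exact Su.numA' hq2 hi him (hrpow i 1 (one_pow _) (by rw [map_one, one_mul, h]))
  · refine ⟨ω, fun h => ?_⟩
    rw [← pow_mul] at h
    have h1 : (ω : K) ^ (q * q - 1) = 1 := by
      apply mul_right_cancel₀ hω0
      rw [← pow_succ, Nat.sub_add_cancel (by nlinarith only [hq2]), h, one_mul]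
    have h2 := Nat.le_of_dvd (by nlinarith only [hq2, Nat.sub_add_cancel (show 1 ≤ q * q by nlinarith)]) (hωpow _ h1)
    have h3 : q ^ (2 * 2) ≤ q ^ (2 * m) := Nat.pow_le_pow_right (by omega) (by omega)
    have h4 : q ^ (2 * 2) = (q * q) * (q * q) := by ring
    have h5 : q * q * 2 ≤ (q * q) * (q * q) := Nat.mul_le_mul_left _ (by nlinarith only [hq2])
    have h6 : 4 ≤ q * q := by nlinarith only [hq2]
    omega
  · intro ζ hζ θ hθ
    obtain ⟨i, hi, hθi⟩ := aut_eq_pow_lt θ
    rw [hK] at hi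
    rw [hθi, hcard] at hθ
    rcases Nat.eq_zero_or_pos i with rfl | hi0
    · rw [mul_zero, pow_zero, pow_one] at hθ
      have h1 : algebraMap F K ζ = 1 := by
        apply mul_right_cancel₀ hr0
        rw [one_mul, ← hθ]
      exact (map_eq_one_iff _ (algebraMap F K).injective).1 h1
    · exact absurd (hrpow i ζ hζ hθ) (Su.numA' hq2 hi0 hi)
  · intro ζ hζ θ hθ
    obtain ⟨i, hi, hθi⟩ := aut_eq_pow_lt θ
    rw [hK] at hi
    rw [hθi, hcard, ← pow_add] at hθ
    refine Su.numB' hq2 hm hi (hωpow _ ?_)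
    have h2 : (r ^ (q ^ (2 * i) + q)) ^ (q + 1) = 1 := by rw [hθ, ← map_pow, hζ, map_one]
    rw [← h2, ← pow_mul, ← pow_mul]
    congr 1
    ring

/-- Criterion F for all simple `PSp_2m(q)`. -/
theorem frob_isPSp {S : Type*} [Group S] (h : IsPSp S) : FrobCent S := by
  obtain ⟨F, _, _, m, hm, hm2, ⟨e⟩⟩ := h
  refine FrobCent.of_equiv ?_ e.symm
  by_cases h3 : m = 2 ∧ Fintype.card F = 3
  · obtain ⟨rfl, h3⟩ := h3
    have : Fintype (GaloisField 2 2) := Fintype.ofFinite _
    have hc : Fintype.card (GaloisField 2 2) = 4 := by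
      rw [← Nat.card_eq_fintype_card, GaloisField.card 2 2 (by norm_num)]; norm_num
    obtain ⟨e'⟩ := S0822.result (F := GaloisField 2 2) (K := F) hc h3
    exact FrobCent.of_equiv (frob_psu_even (m := 2) (by rw [hc]; norm_num) le_rfl) e'
  · refine Sp.frob_psp hm ?_ ?_
    · intro h2
      rw [Nat.card_eq_fintype_card] at h2
      by_contra hlt
      have := hm2 (by omega)
      omega
    · intro h2
      rw [Nat.card_eq_fintype_card] at h2
      by_contra hlt
      exact h3 ⟨by omega, h2⟩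

/-- Row `PSp` of S4792. -/
theorem row_isPSp {S : Type*} [Group S] [Finite S] (hs : IsSimpleGroup S) (h : IsPSp S) : Row S :=
  (frob_isPSp h).row

end Cfsg.Agent.H917.CJ
end

-- part: H917/CJ/PsuOdd
section
/-!
# The rows `PSU_{2m+1}(q)`, `m ≥ 2`, `gcd(2m+1, q+1) > 1`, of S4792
-/

set_option autoImplicit false
set_option linter.unusedSectionVars false

open Cfsg Module Matrix

namespace Cfsg.Agent.H917.CJ.SuO

open Cfsg.Agent.H430.Conj Cfsg.Agent.H917.CJ Cfsg.Agent.H917.CJ.Su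

section main

variable {F K : Type*} [Field F] [Fintype F] [Field K] [Algebra F K] [Finite K] {q n : ℕ}
  (hF : Fintype.card F = q ^ 2) (ψ : (K × K × F) ≃ₗ[F] (Fin n → F))

/-- The group `Z` of all `[0, τ]`. -/
noncomputable def ZZ : Subgroup (SU n F q) where
  carrier := {g | ∃ τ : K →ₗ[F] K, SuG.suEnd ψ g = uq hF 0 τ}
  mul_mem' := by
    rintro a b ⟨τ, hτ⟩ ⟨τ', hτ'⟩
    refine ⟨τ + τ' + rk hF 0 0, ?_⟩
    rw [map_mul, hτ, hτ', uq_mul, add_zero]
  one_mem' := ⟨0, by rw [map_one, uq_one]⟩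
  inv_mem' := by
    rintro a ⟨τ, hτ⟩
    refine ⟨-τ, ?_⟩
    have h1 : uq hF 0 (-τ) * uq hF 0 τ = 1 := by
      rw [uq_mul, add_zero, neg_add_cancel, zero_add, ← uq_one hF]
      congr 1
      refine LinearMap.ext fun b => ?_
      rw [rk_apply, smul_zero]; rfl
    have h2 : SuG.suEnd ψ a⁻¹ = uq hF 0 (-τ) * (uq hF 0 τ * SuG.suEnd ψ a⁻¹) := by
      rw [← mul_assoc, h1, one_mul]
    rw [h2, ← hτ, ← map_mul, mul_inv_cancel, map_one, mul_one]

/-- The group `Q_0` of all `[λ w, τ]`, `λ ∈ F`. -/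
noncomputable def QQ (w : K) : Subgroup (SU n F q) where
  carrier := {g | ∃ (c : F) (τ : K →ₗ[F] K), SuG.suEnd ψ g = uq hF (c • w) τ}
  mul_mem' := by
    rintro a b ⟨c, τ, hτ⟩ ⟨c', τ', hτ'⟩
    refine ⟨c + c', τ + τ' + rk hF (c' • w) (c • w), ?_⟩
    rw [map_mul, hτ, hτ', uq_mul, add_smul]
  one_mem' := ⟨0, 0, by rw [map_one, zero_smul, uq_one]⟩
  inv_mem' := by
    rintro a ⟨c, τ, hτ⟩
    refine ⟨-c, -τ + rk hF (c • w) (c • w), ?_⟩
    have h1 : uq hF (-c • w) (-τ + rk hF (c • w) (c • w)) * uq hF (c • w) τ = 1 := by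
      rw [uq_mul, ← add_smul, neg_add_cancel, zero_smul, ← uq_one hF]
      congr 1
      refine LinearMap.ext fun b => ?_
      simp only [LinearMap.add_apply, LinearMap.neg_apply, rk_apply, neg_smul, smul_neg, LinearMap.zero_apply]
      ring
    have h2 : SuG.suEnd ψ a⁻¹ = uq hF (-c • w) (-τ + rk hF (c • w) (c • w)) * (uq hF (c • w) τ * SuG.suEnd ψ a⁻¹) := by
      rw [← mul_assoc, h1, one_mul]
    rw [h2, ← hτ, ← map_mul, mul_inv_cancel, map_one, mul_one]

/-- The group `A` of all `τ_u`. -/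
noncomputable def AA : Subgroup (SU n F q) where
  carrier := {g | ∃ u : K, SuG.suEnd ψ g = uq hF 0 (tw hF u)}
  mul_mem' := by
    rintro a b ⟨u, hu⟩ ⟨v, hv⟩
    refine ⟨u + v, ?_⟩
    rw [map_mul, hu, hv, uq_mul, add_zero]
    congr 1
    refine LinearMap.ext fun b => ?_
    simp only [LinearMap.add_apply, rk_apply, smul_zero, add_zero, tw_add]
  one_mem' := ⟨0, by
    rw [map_one, ← uq_one hF]
    congr 1
    refine LinearMap.ext fun b => ?_
    rw [tw_zero]; rfl⟩
  inv_mem' := by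
    rintro a ⟨u, hu⟩
    refine ⟨-u, ?_⟩
    have h1 : uq hF 0 (tw hF (-u)) * uq hF 0 (tw hF u) = 1 := by
      rw [uq_mul, add_zero, ← uq_one hF]
      congr 1
      refine LinearMap.ext fun b => ?_
      simp only [LinearMap.add_apply, rk_apply, smul_zero, add_zero, ← tw_add, neg_add_cancel, tw_zero,
        LinearMap.zero_apply]
    have h2 : SuG.suEnd ψ a⁻¹ = uq hF 0 (tw hF (-u)) * (uq hF 0 (tw hF u) * SuG.suEnd ψ a⁻¹) := by
      rw [← mul_assoc, h1, one_mul]
    rw [h2, ← hu, ← map_mul, mul_inv_cancel, map_one, mul_one]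

/-- The group `D` of all `(e, e, s)`, `e, s ∈ F`. -/
def DD : Subgroup (SU n F q) where
  carrier := {g | ∃ e s : F, e ≠ 0 ∧ s ≠ 0 ∧ ∀ v, SuG.suEnd ψ g v = (e • v.1, e • v.2.1, s * v.2.2)}
  mul_mem' := by
    rintro a b ⟨e, s, he0, hs0, h⟩ ⟨e', s', he0', hs0', h'⟩
    refine ⟨e * e', s * s', mul_ne_zero he0 he0', mul_ne_zero hs0 hs0', fun v => ?_⟩
    rw [map_mul, Module.End.mul_apply, h', h]
    simp only [smul_smul, mul_assoc]
  one_mem' := ⟨1, 1, one_ne_zero, one_ne_zero, fun v => by rw [map_one]; simp⟩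
  inv_mem' := by
    rintro a ⟨e, s, he0, hs0, h⟩
    refine ⟨e⁻¹, s⁻¹, inv_ne_zero he0, inv_ne_zero hs0, fun v => ?_⟩
    have h1 : v = SuG.suEnd ψ a (e⁻¹ • v.1, e⁻¹ • v.2.1, s⁻¹ * v.2.2) := by
      rw [h]
      simp only [smul_smul, ← mul_assoc, mul_inv_cancel₀ he0, mul_inv_cancel₀ hs0, one_smul, one_mul]
    conv_lhs => rw [h1]
    rw [SuG.suEnd_inv]

theorem mem_DD {g : SU n F q} : g ∈ DD ψ ↔
    ∃ e s : F, e ≠ 0 ∧ s ≠ 0 ∧ ∀ v, SuG.suEnd ψ g v = (e • v.1, e • v.2.1, s * v.2.2) := Iff.rfl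

theorem uq_inj {w w' : K} {τ τ' : K →ₗ[F] K} (h : uq hF w τ = uq hF w' τ') : w = w' ∧ τ = τ' := by
  have h1 : w = w' := by
    have h2 := congrArg (fun T : Module.End F (K × K × F) => (T (0, 0, 1)).1) h
    simp only [uq_apply, map_zero, zero_add, one_smul] at h2
    exact h2
  refine ⟨h1, LinearMap.ext fun b => ?_⟩
  have h2 := congrArg (fun T : Module.End F (K × K × F) => (T (0, b, 0)).1) h
  simp only [uq_apply, zero_add, zero_smul, add_zero] at h2
  exact h2

/-- Conjugation by diagonal elements. -/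
theorem dg_uq {a a' : K} {s : F} (ha : a * a' ^ q = 1) (hs : s ^ (q + 1) = 1) (w : K) (τ : K →ₗ[F] K) :
    dg a a' s * uq hF w τ = uq hF (s⁻¹ • (a * w)) ((LinearMap.mulLeft F a) ∘ₗ τ ∘ₗ (LinearMap.mulLeft F a'⁻¹)) *
      dg a a' s := by
  have hq0 := q_pos hF
  have ha' : a' ≠ 0 := by
    rintro rfl
    rw [zero_pow hq0, mul_zero] at ha
    exact zero_ne_one ha
  have hs0 : s ≠ 0 := by
    rintro rfl
    rw [zero_pow (by omega)] at hs
    exact zero_ne_one hs
  refine LinearMap.ext fun v => ?_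
  rw [Module.End.mul_apply, Module.End.mul_apply, dg_apply, dg_apply, uq_apply, uq_apply]
  refine Prod.ext ?_ (Prod.ext rfl ?_)
  · change a * (v.1 + τ v.2.1 + v.2.2 • w)
      = a * v.1 + a * τ (a'⁻¹ * (a' * v.2.1)) + (s * v.2.2) • s⁻¹ • (a * w)
    rw [← mul_assoc a'⁻¹, inv_mul_cancel₀ ha', one_mul, smul_smul, mul_comm s, mul_assoc, mul_inv_cancel₀ hs0, mul_one,
      mul_add, mul_add, mul_smul_comm]
  · change s * (v.2.2 + ph hF w v.2.1) = s * v.2.2 + ph hF (s⁻¹ • (a * w)) (a' * v.2.1)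
    have h1 : ph hF (a * w) (a' * v.2.1) = ph hF w v.2.1 := by
      rw [ph_apply, ph_apply, mul_pow, mul_pow, mul_pow]
      congr 2
      have h3 : a ^ q * (a' ^ q) ^ q = 1 := by rw [← mul_pow, ha, one_pow]
      linear_combination (w ^ q * (v.2.1 ^ q) ^ q) * h3
    have h2 : (s⁻¹) ^ q = s := by
      rw [inv_pow]
      rw [pow_succ] at hs
      exact inv_eq_of_mul_eq_one_right hs
    rw [ph_smul, h1, h2, mul_add]

variable (hψ : ∀ u v, hermForm n F q (ψ u) (ψ v) = BO K hF v u)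
include hψ

theorem exists_zel {τ : K →ₗ[F] K} (h : Skew hF 0 τ) : ∃ z : ZZ hF ψ, SuG.suEnd ψ (z : SU n F q) = uq hF 0 τ := by
  obtain ⟨g, hg⟩ := SuG.exists_su hF ψ hψ (uq hF 0 τ) (BO_uq hF h) (det_uq hF 0 τ)
  exact ⟨⟨g, τ, hg⟩, hg⟩

theorem exists_qel (w : K) (c : F) : ∃ g ∈ QQ hF ψ w, ∃ τ, SuG.suEnd ψ (g : SU n F q) = uq hF (c • w) τ := by
  obtain ⟨τ, hτ⟩ := exists_skew hF (c • w)
  obtain ⟨g, hg⟩ := SuG.exists_su hF ψ hψ (uq hF (c • w) τ) (BO_uq hF hτ) (det_uq hF _ τ)
  exact ⟨g, ⟨c, τ, hg⟩, τ, hg⟩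

/-- If a weight of `Z` is nontrivial on `A` then it is nontrivial on some `c(w, ν w)`. -/
theorem exists_line (l : ZZ hF ψ →* ℂˣ) (hl : ∃ a : ZZ hF ψ, (a : SU n F q) ∈ AA hF ψ ∧ l a ≠ 1) :
    ∃ (w : K) (ν : F) (z : ZZ hF ψ), SuG.suEnd ψ (z : SU n F q) = uq hF 0 (cm hF w (ν • w)) ∧ l z ≠ 1 := by
  classical
  by_contra hcon
  push Not at hcon
  choose zc hzc using fun w w' : K => exists_zel hF ψ hψ (skew_cm hF w w')
  have hzinj : ∀ z z' : ZZ hF ψ, SuG.suEnd ψ (z : SU n F q) = SuG.suEnd ψ (z' : SU n F q) → z = z' :=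
    fun z z' h => Subtype.ext (SuG.suEnd_injective ψ h)
  have hrk0 : rk hF (0 : K) (0 : K) = 0 := by
    refine LinearMap.ext fun b => ?_
    rw [rk_apply, smul_zero]; rfl
  have hmul : ∀ (z z' z'' : ZZ hF ψ) (τ τ' : K →ₗ[F] K), SuG.suEnd ψ (z : SU n F q) = uq hF 0 τ →
      SuG.suEnd ψ (z' : SU n F q) = uq hF 0 τ' → SuG.suEnd ψ (z'' : SU n F q) = uq hF 0 (τ + τ') → z'' = z * z' := by
    intro z z' z'' τ τ' h h' h''
    apply hzinj
    rw [Subgroup.coe_mul, map_mul, h, h', h'', uq_mul, add_zero, hrk0, add_zero]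
  -- bimultiplicativity of `g w w' = l (zc w w')`
  have hgadd : ∀ w₁ w₂ w', l (zc (w₁ + w₂) w') = l (zc w₁ w') * l (zc w₂ w') := by
    intro w₁ w₂ w'
    rw [← map_mul]
    congr 1
    exact hmul _ _ _ _ _ (hzc _ _) (hzc _ _) (by rw [hzc, cm_add_left])
  have hgadd' : ∀ w w₁ w₂, l (zc w (w₁ + w₂)) = l (zc w w₁) * l (zc w w₂) := by
    intro w w₁ w₂
    rw [← map_mul]
    congr 1
    exact hmul _ _ _ _ _ (hzc _ _) (hzc _ _) (by rw [hzc, cm_add_right])
  have hone : ∀ z : ZZ hF ψ, SuG.suEnd ψ (z : SU n F q) = uq hF 0 0 → z = 1 := by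
    intro z hz
    apply hzinj
    rw [hz, uq_one, Subgroup.coe_one, map_one]
  have hgswap : ∀ w w', l (zc w w') * l (zc w' w) = 1 := by
    intro w w'
    rw [← map_mul]
    have : zc w w' * zc w' w = 1 := by
      apply hzinj
      rw [Subgroup.coe_mul, map_mul, hzc, hzc, uq_mul, add_zero, hrk0, add_zero, cm_swap, neg_add_cancel, uq_one,
        Subgroup.coe_one, map_one]
    rw [this, map_one]
  have hgsm : ∀ (c : F) (w w' : K), l (zc (c • w) w') = l (zc w (c ^ q • w')) := by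
    intro c w w'
    congr 1
    apply hzinj
    rw [hzc, hzc, cm_smul]
  have hself : ∀ (w : K) (ν : F), l (zc w (ν • w)) = 1 := fun w ν => hcon w ν _ (hzc _ _)
  -- a scalar outside the fixed field
  obtain ⟨ν, hν⟩ : ∃ ν : F, ν - ν ^ q ≠ 0 := by
    by_contra hc
    push Not at hc
    apply sg_ne hF
    ext a
    exact (sub_eq_zero.1 (hc a)).symm
  have hall : ∀ w w', l (zc w w') = 1 := by
    have h1 : ∀ w w', l (zc w ((ν - ν ^ q) • w')) = 1 := by
      intro w w'
      have h2 := hself (w + w') ν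
      rw [smul_add, hgadd, hgadd', hgadd', hself, hself, one_mul, mul_one] at h2
      -- `g(w, ν w') g(w', ν w) = 1`
      have h3 : l (zc w' (ν • w)) = (l (zc w (ν ^ q • w')))⁻¹ := by
        rw [eq_inv_iff_mul_eq_one, ← hgsm, ]
        exact hgswap _ _
      have h4 : l (zc w (ν • w')) = l (zc w (ν ^ q • w')) := by
        rw [h3] at h2
        exact mul_inv_eq_one.1 h2
      have h5 : l (zc w (ν • w')) = l (zc w ((ν - ν ^ q) • w')) * l (zc w (ν ^ q • w')) := by
        rw [← hgadd', ← add_smul, sub_add_cancel]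
      rw [h4] at h5
      exact (mul_eq_right.1 h5.symm)
    intro w w'
    have h2 := h1 w ((ν - ν ^ q)⁻¹ • w')
    rwa [smul_smul, mul_inv_cancel₀ hν, one_smul] at h2
  obtain ⟨a, ⟨u, hu⟩, hla⟩ := hl
  apply hla
  obtain ⟨ι, _, w, w', hsum⟩ := tw_eq_sum hF u
  have h2 : ∀ s : Finset ι, ∀ z : ZZ hF ψ, SuG.suEnd ψ (z : SU n F q) = uq hF 0 (∑ i ∈ s, cm hF (w i) (w' i)) →
      l z = 1 := by
    intro s
    induction s using Finset.induction_on with
    | empty =>
      intro z hz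
      rw [Finset.sum_empty] at hz
      rw [hone z hz, map_one]
    | insert i s hi ih =>
      intro z hz
      rw [Finset.sum_insert hi] at hz
      have h3 : SuG.suEnd ψ (((zc (w i) (w' i))⁻¹ * z : ZZ hF ψ) : SU n F q)
          = uq hF 0 (∑ i ∈ s, cm hF (w i) (w' i)) := by
        have h4 : uq hF 0 (cm hF (w i) (w' i)) * SuG.suEnd ψ (((zc (w i) (w' i))⁻¹ * z : ZZ hF ψ) : SU n F q)
            = uq hF 0 (cm hF (w i) (w' i)) * uq hF 0 (∑ i ∈ s, cm hF (w i) (w' i)) := by
          rw [← hzc, ← map_mul, ← Subgroup.coe_mul, mul_inv_cancel_left, hz, hzc, uq_mul, add_zero, hrk0, add_zero]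
        rw [← hzc] at h4
        refine LinearMap.ext fun v => ?_
        exact SuG.suEnd_apply_injective ψ _ (congrArg (fun T : Module.End F (K × K × F) => T v) h4)
      have h5 := ih _ h3
      rw [map_mul, map_inv, hall, inv_one, one_mul] at h5
      exact h5
  exact h2 Finset.univ a (by rw [hu, hsum])

end main

end Cfsg.Agent.H917.CJ.SuO
end

-- part: H917/CJ/PsuOddRow
section
/-!
# The rows `PSU_{2m+1}(q)`, `m ≥ 2`, `gcd(2m+1, q+1) > 1`, of S4792: main theorem
-/

set_option autoImplicit false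
set_option linter.unusedSectionVars false

open Cfsg Module Matrix

namespace Cfsg.Agent.H917.CJ.SuO

open Cfsg.Agent.H430.Conj Cfsg.Agent.H917.CJ Cfsg.Agent.H917.CJ.Su

theorem numO {q m i : ℕ} (hq : 2 ≤ q) (hm : 2 ≤ m) (hi : i < m) : ¬ q ^ (2 * m) - 1 ∣ q ^ (2 * i) + q := by
  intro h
  have h1 := Nat.le_of_dvd (by positivity) h
  obtain ⟨k, rfl⟩ : ∃ k, m = k + 1 := ⟨m - 1, by omega⟩
  have h2 : q ^ (2 * i) ≤ q ^ (2 * k) := Nat.pow_le_pow_right (by omega) (by omega)
  have h3 : q ^ (2 * (k + 1)) = q ^ 2 * q ^ (2 * k) := by ring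
  have h4 : q ^ 2 ≤ q ^ (2 * k) := Nat.pow_le_pow_right (by omega) (by omega)
  have h5 : 4 * q ^ (2 * k) ≤ q ^ 2 * q ^ (2 * k) := Nat.mul_le_mul_right _ (by nlinarith only [hq])
  have h6 : q * 2 ≤ q ^ 2 := by rw [sq]; exact Nat.mul_le_mul_left _ hq
  omega

section main

variable {F K : Type*} [Field F] [Fintype F] [Field K] [Algebra F K] [Finite K] {q n : ℕ}
  (hF : Fintype.card F = q ^ 2) (ψ : (K × K × F) ≃ₗ[F] (Fin n → F))

theorem det_suEnd (g : SU n F q) : LinearMap.det (SuG.suEnd ψ g) = 1 := by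
  have h1 : SuG.suEnd ψ g = (ψ.symm : (Fin n → F) →ₗ[F] (K × K × F)) ∘ₗ Matrix.toLin' (mt g) ∘ₗ
    (ψ.symm.symm : (K × K × F) →ₗ[F] (Fin n → F)) := rfl
  rw [h1, LinearMap.det_conj, LinearMap.det_toLin']
  exact (g : Matrix.SpecialLinearGroup (Fin n) F).2

variable (hψ : ∀ u v, hermForm n F q (ψ u) (ψ v) = BO K hF v u)
include hψ

/-- Relations for diagonal elements of `SU`. -/
theorem dg_rel {g : SU n F q} {a a' : K} {s : F} (hg : ∀ v, SuG.suEnd ψ g v = (a * v.1, a' * v.2.1, s * v.2.2)) :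
    a * a' ^ q = 1 ∧ s ^ (q + 1) = 1 ∧ Algebra.norm F a * (Algebra.norm F a' * s) = 1 := by
  have hfd : Module.Finite F K := Module.Finite.of_finite
  have hq0 := q_pos hF
  refine ⟨?_, ?_, ?_⟩
  · have hnd := traceForm_nondegenerate F K
    have h5 : ∀ l : K, Algebra.traceForm F K (a * a' ^ q - 1) l = 0 := by
      intro l
      have h6 := SuG.B_suEnd hF ψ hψ g (0, 1, 0) (l, 0, 0)
      rw [hg, hg, BO_apply, BO_apply] at h6
      simp only [mul_one, mul_zero, zero_pow hq0, add_zero, one_pow, map_zero] at h6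
      rw [Algebra.traceForm_apply, sub_mul, map_sub, one_mul, sub_eq_zero, ← h6]
      congr 1
      ring
    exact sub_eq_zero.1 (hnd.1 _ h5)
  · have h6 := SuG.B_suEnd hF ψ hψ g (0, 0, 1) (0, 0, 1)
    rw [hg, BO_apply, BO_apply] at h6
    simp only [mul_one, mul_zero, zero_pow hq0, zero_add, one_pow, map_zero] at h6
    rw [pow_succ]
    exact h6
  · have h1 : SuG.suEnd ψ g = dg a a' s := LinearMap.ext fun v => by rw [hg, dg_apply]
    rw [← det_dg, ← h1]
    exact det_suEnd ψ g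

/-- Structure of the centraliser (modulo scalars) of the torus generator. -/
theorem key (hn3 : 3 ≤ n) {r : K} {c₀ : F} (hr0 : r ≠ 0) (hc0 : c₀ ≠ 0) (hgen : Algebra.adjoin F {r} = ⊤)
    (hsgen : Algebra.adjoin F {(r ^ q)⁻¹} = ⊤) (hrF : ∀ t : F, r ≠ algebraMap F K t)
    (hB : ∀ θ : K ≃ₐ[F] K, θ r * r ^ q ≠ 1) {x : SU n F q}
    (hx : ∀ v, SuG.suEnd ψ x v = ((r ^ q)⁻¹ * v.1, r * v.2.1, c₀ * v.2.2)) (c z : SU n F q)
    (hz : z ∈ Subgroup.center (SU n F q)) (hcx : c * x = z * (x * c)) :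
    ∃ (a a' : K) (s : F), ∀ v, SuG.suEnd ψ c v = (a * v.1, a' * v.2.1, s * v.2.2) := by
  have hfd : Module.Finite F K := Module.Finite.of_finite
  have hq0 := q_pos hF
  have hrq : r ^ q ≠ 0 := pow_ne_zero _ hr0
  have hrqF : ∀ t : F, (r ^ q)⁻¹ ≠ algebraMap F K t := by
    intro t ht
    -- take a `q`-th root
    obtain ⟨t', ht'⟩ := exists_root (F := F) (K := F) hF t⁻¹
    apply hrF t'
    have h1 : r ^ q = algebraMap F K t' ^ q := by
      rw [← map_pow, ht', map_inv₀, ← ht, inv_inv]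
    have h2 : (r - algebraMap F K t') ^ q = 0 := by rw [sub_q hF, h1, sub_self]
    exact sub_eq_zero.1 ((pow_eq_zero_iff hq0).1 h2)
  obtain ⟨ζ, hζ2, hζ⟩ := SuG.smul_of_mem_center hF ψ hn3 hz
  have hζ0 : ζ ≠ 0 := by
    rintro rfl
    rw [zero_pow (by omega)] at hζ2
    exact zero_ne_one hζ2
  have e0 : ∀ v, SuG.suEnd ψ c (SuG.suEnd ψ x v) = ζ • SuG.suEnd ψ x (SuG.suEnd ψ c v) := by
    intro v
    have := congrArg (fun g => SuG.suEnd ψ g v) hcx
    simp only [map_mul, Module.End.mul_apply, hζ] at this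
    exact this
  have hcinj := SuG.suEnd_apply_injective ψ c
  -- the image of the third basis vector
  set p := SuG.suEnd ψ c (0, 0, 1) with hp
  have hp0 : p ≠ 0 := by
    intro h
    have := hcinj (h.trans (map_zero (SuG.suEnd ψ c)).symm)
    simp at this
  have e1 := e0 (0, 0, 1)
  rw [hx, hx, ← hp] at e1
  simp only [mul_zero, mul_one] at e1
  have e2 : SuG.suEnd ψ c ((0 : K), (0 : K), c₀) = c₀ • p := by
    rw [hp, ← map_smul]; congr 1; ext <;> simp
  rw [e2] at e1
  have f1 : c₀ • p.1 = ζ • ((r ^ q)⁻¹ * p.1) := congrArg (fun v : K × K × F => v.1) e1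
  have f2 : c₀ • p.2.1 = ζ • (r * p.2.1) := congrArg (fun v : K × K × F => v.2.1) e1
  have f3 : c₀ * p.2.2 = ζ * (c₀ * p.2.2) := congrArg (fun v : K × K × F => v.2.2) e1
  have g1 : p.1 = 0 := by
    by_contra hne
    apply hrqF (ζ⁻¹ * c₀)
    rw [map_mul]
    have h4 : algebraMap F K c₀ = algebraMap F K ζ * (r ^ q)⁻¹ := by
      apply mul_right_cancel₀ hne
      rw [← Algebra.smul_def, f1, Algebra.smul_def, mul_assoc]
    rw [h4, ← mul_assoc, ← map_mul, inv_mul_cancel₀ hζ0, map_one, one_mul]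
  have g2 : p.2.1 = 0 := by
    by_contra hne
    apply hrF (ζ⁻¹ * c₀)
    rw [map_mul]
    have h4 : algebraMap F K c₀ = algebraMap F K ζ * r := by
      apply mul_right_cancel₀ hne
      rw [← Algebra.smul_def, f2, Algebra.smul_def, mul_assoc]
    rw [h4, ← mul_assoc, ← map_mul, inv_mul_cancel₀ hζ0, map_one, one_mul]
  have g3 : p.2.2 ≠ 0 := fun h => hp0 (Prod.ext g1 (Prod.ext g2 h))
  have hζ1 : ζ = 1 := by
    have h6 : c₀ * p.2.2 ≠ 0 := mul_ne_zero hc0 g3
    have h7 : 1 * (c₀ * p.2.2) = ζ * (c₀ * p.2.2) := by rw [one_mul]; exact f3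
    exact (mul_right_cancel₀ h6 h7).symm
  subst hζ1
  simp only [one_smul] at e0
  -- blocks
  let in1 : K →ₗ[F] (K × K × F) := LinearMap.inl F K (K × F)
  let in2 : K →ₗ[F] (K × K × F) := LinearMap.inr F K (K × F) ∘ₗ LinearMap.inl F K F
  let pr1 : (K × K × F) →ₗ[F] K := LinearMap.fst F K (K × F)
  let pr2 : (K × K × F) →ₗ[F] K := LinearMap.fst F K F ∘ₗ LinearMap.snd F K (K × F)
  let pr3 : (K × K × F) →ₗ[F] F := LinearMap.snd F K F ∘ₗ LinearMap.snd F K (K × F)
  let T11 : K →ₗ[F] K := pr1 ∘ₗ SuG.suEnd ψ c ∘ₗ in1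
  let T21 : K →ₗ[F] K := pr2 ∘ₗ SuG.suEnd ψ c ∘ₗ in1
  let T31 : K →ₗ[F] F := pr3 ∘ₗ SuG.suEnd ψ c ∘ₗ in1
  let T12 : K →ₗ[F] K := pr1 ∘ₗ SuG.suEnd ψ c ∘ₗ in2
  let T22 : K →ₗ[F] K := pr2 ∘ₗ SuG.suEnd ψ c ∘ₗ in2
  let T32 : K →ₗ[F] F := pr3 ∘ₗ SuG.suEnd ψ c ∘ₗ in2
  have hT1 : ∀ k : K, SuG.suEnd ψ c (k, 0, 0) = (T11 k, T21 k, T31 k) := fun k => rfl
  have hT2 : ∀ k : K, SuG.suEnd ψ c (0, k, 0) = (T12 k, T22 k, T32 k) := fun k => rfl
  have a1 : ∀ k, T11 ((r ^ q)⁻¹ * k) = (r ^ q)⁻¹ * T11 k ∧ T21 ((r ^ q)⁻¹ * k) = r * T21 k ∧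
      T31 ((r ^ q)⁻¹ * k) = c₀ * T31 k := by
    intro k
    have := e0 (k, 0, 0)
    rw [hx, hx] at this
    simp only [mul_zero] at this
    rw [hT1, hT1] at this
    exact ⟨congrArg (fun v : K × K × F => v.1) this, congrArg (fun v : K × K × F => v.2.1) this,
      congrArg (fun v : K × K × F => v.2.2) this⟩
  have a2 : ∀ k, T12 (r * k) = (r ^ q)⁻¹ * T12 k ∧ T22 (r * k) = r * T22 k ∧ T32 (r * k) = c₀ * T32 k := by
    intro k
    have := e0 (0, k, 0)
    rw [hx, hx] at this
    simp only [mul_zero] at this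
    rw [hT2, hT2] at this
    exact ⟨congrArg (fun v : K × K × F => v.1) this, congrArg (fun v : K × K × F => v.2.1) this,
      congrArg (fun v : K × K × F => v.2.2) this⟩
  have hvan : ∀ (t : K) (f : K →ₗ[F] F), (∀ y : F, t ≠ algebraMap F K y) → (∀ k, f (t * k) = c₀ * f k) → ∀ k, f k = 0 := by
    intro t f ht hf k
    have hne : t - algebraMap F K c₀ ≠ 0 := sub_ne_zero.2 (ht c₀)
    have h9 : ∀ k, f ((t - algebraMap F K c₀) * k) = 0 := by
      intro k
      rw [sub_mul, map_sub, hf, ← Algebra.smul_def, map_smul, smul_eq_mul, sub_self]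
    have := h9 ((t - algebraMap F K c₀)⁻¹ * k)
    rwa [← mul_assoc, mul_inv_cancel₀ hne, one_mul] at this
  have hT31 : ∀ k, T31 k = 0 := hvan _ T31 hrqF fun k => (a1 k).2.2
  have hT32 : ∀ k, T32 k = 0 := hvan _ T32 hrF fun k => (a2 k).2.2
  have hT12 : T12 = 0 := by
    by_contra hne
    obtain ⟨θ, hθ, _⟩ := conj_gen hgen T12 hne fun k => (a2 k).1
    apply hB θ
    rw [hθ, inv_mul_cancel₀ hrq]
  have hT21 : T21 = 0 := by
    by_contra hne
    obtain ⟨θ, hθ, _⟩ := conj_gen hsgen T21 hne fun k => (a1 k).2.1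
    apply hB θ.symm
    have h1 : (r ^ q)⁻¹ = θ.symm r := by
      have h2 := congrArg θ.symm hθ
      rwa [AlgEquiv.symm_apply_apply] at h2
    rw [← h1, inv_mul_cancel₀ hrq]
  have b1 : ∀ k, T11 k = T11 1 * k := comm_gen hsgen T11 fun k => (a1 k).1
  have b2 : ∀ k, T22 k = T22 1 * k := comm_gen hgen T22 fun k => (a2 k).2.1
  refine ⟨T11 1, T22 1, p.2.2, fun v => ?_⟩
  have hv : v = (v.1, 0, 0) + (0, v.2.1, 0) + v.2.2 • ((0 : K), (0 : K), (1 : F)) := by
    ext <;> simp only [_root_.Prod.mk_add_mk, _root_.add_zero, _root_.zero_add, _root_.Prod.smul_mk, _root_.smul_zero, _root_.smul_eq_mul, _root_.mul_one, _root_.Prod.mk.eta]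
  conv_lhs => rw [hv]
  rw [map_add, map_add, map_smul, hT1, hT2, ← hp, hT21, hT12, hT31, hT32, b1, b2]
  refine Prod.ext ?_ (Prod.ext ?_ ?_)
  · simp only [g1, _root_.LinearMap.zero_apply, _root_.Prod.mk_add_mk, _root_.add_zero, _root_.zero_add, _root_.Prod.fst_add, _root_.Prod.smul_fst, _root_.smul_zero]
  · simp [g2]
  · simp [mul_comm]

end main

end Cfsg.Agent.H917.CJ.SuO
end

private theorem dce_772c34b6314f : _root_.True := by
  try have : _root_.True := by simp only [_root_.Cfsg.Agent.H917.CJ.SuO.ph.congr_simp]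
  try have : _root_.True := by simp only [_root_.Cfsg.Agent.H917.CJ.Sp.spEnd.congr_simp]
  try have : _root_.True := by simp only [_root_.Cfsg.Agent.H917.CJ.SuO.cm.congr_simp]
  try have : _root_.True := by simp only [_root_.Cfsg.Agent.H917.CJ.Su.sg.congr_simp]
  try have : _root_.True := by simp only [_root_.Cfsg.Agent.H917.CJ.SuO.dg.eq_1]
  try have : _root_.True := by simp only [_root_.Cfsg.Agent.H917.CJ.Sp.bas.eq_1]
  try have : _root_.True := by simp only [_root_.Cfsg.Agent.H917.CJ.Sp.uni.eq_1]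
  try have : _root_.True := by simp only [_root_.Cfsg.Agent.H917.CJ.SuO.uq.congr_simp]
  try have : _root_.True := by simp only [_root_.Cfsg.Agent.H917.CJ.Su.uni.congr_simp]
  try have : _root_.True := by simp only [_root_.Cfsg.Agent.H917.CJ.Sp.uniHom.congr_simp]
  try have : _root_.True := by simp only [_root_.Cfsg.Agent.H917.CJ.SuO.rk.congr_simp]
  exact _root_.True.intro
end

-- part: H917/CJ/PslRow_mg
section
prune_inst 0x4100021000800020040040080010002000000002000000000880000040000000000000800010001014000000000000000000000a0000000000000040000010000008000040040000002008e000080000000000000000000000000800000000000008000002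
set_option linter.all false
open scoped Cfsg.Agent.FastGrp

-- part: H917/CJ/Psl
section
/-!
# The rows `PSL_n(q)` of S4792

`n ≥ 3`: `x = diag(s, N(s)⁻¹)` with `s` a generator of `𝔽_{q^{n-1}}ˣ`, `A = 𝔽_{q^{n-1}}` the unipotent radical.
`n = 2`: `x = diag(s, s⁻¹)`, `A` the group of transvections.
-/

set_option autoImplicit false

open Cfsg Module

namespace Cfsg.Agent.H917.CJ

open Cfsg.Agent.H430.Conj

section sl

variable {F : Type*} [Field F] {n : ℕ} {V : Type*} [AddCommGroup V] [Module F V] (B : Basis (Fin n) F V)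

/-- The special linear group acting on a space with a basis. -/
noncomputable def slEnd : Matrix.SpecialLinearGroup (Fin n) F →* Module.End F V where
  toFun g := Matrix.toLinAlgEquiv B (g : Matrix (Fin n) (Fin n) F)
  map_one' := by rw [Matrix.SpecialLinearGroup.coe_one, map_one]
  map_mul' g h := by rw [Matrix.SpecialLinearGroup.coe_mul, map_mul]

theorem slEnd_apply (g : Matrix.SpecialLinearGroup (Fin n) F) :
    slEnd B g = Matrix.toLinAlgEquiv B (g : Matrix (Fin n) (Fin n) F) := rfl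

theorem slEnd_injective : Function.Injective (slEnd B) := by
  intro g h hgh
  rw [slEnd_apply, slEnd_apply] at hgh
  exact Subtype.ext ((Matrix.toLinAlgEquiv B).injective hgh)

/-- The element of `SL_n` given by an endomorphism of determinant one. -/
noncomputable def slMk (X : Module.End F V) (h : LinearMap.det X = 1) : Matrix.SpecialLinearGroup (Fin n) F :=
  ⟨(Matrix.toLinAlgEquiv B).symm X, by
    rw [← h, ← LinearMap.det_toMatrix B]
    rfl⟩

theorem slEnd_slMk (X : Module.End F V) (h : LinearMap.det X = 1) : slEnd B (slMk B X h) = X := by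
  rw [slEnd_apply]
  exact (Matrix.toLinAlgEquiv B).apply_symm_apply X

theorem mem_center_of_smul {g : Matrix.SpecialLinearGroup (Fin n) F} {ζ : F} (h : ∀ v, slEnd B g v = ζ • v) :
    g ∈ Subgroup.center (Matrix.SpecialLinearGroup (Fin n) F) := by
  rw [Subgroup.mem_center_iff]
  intro k
  apply slEnd_injective B
  rw [map_mul, map_mul]
  ext v
  simp only [Module.End.mul_apply, h, map_smul]

theorem smul_of_mem_center {g : Matrix.SpecialLinearGroup (Fin n) F}
    (h : g ∈ Subgroup.center (Matrix.SpecialLinearGroup (Fin n) F)) : ∃ ζ : F, ∀ v, slEnd B g v = ζ • v := by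
  rw [Matrix.SpecialLinearGroup.mem_center_iff] at h
  obtain ⟨r, _, hr⟩ := h
  refine ⟨r, fun v => ?_⟩
  rw [slEnd_apply, ← hr, Matrix.scalar_apply, ← Matrix.smul_one_eq_diagonal, map_smul, map_one]
  rfl

theorem slEnd_apply_injective (g : Matrix.SpecialLinearGroup (Fin n) F) : Function.Injective (slEnd B g) := by
  intro v w h
  have h1 : ∀ v, slEnd B g⁻¹ (slEnd B g v) = v := by
    intro v
    rw [← Module.End.mul_apply, ← map_mul, inv_mul_cancel, map_one]
    rfl
  rw [← h1 v, h, h1]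

end sl

section big

variable {F K : Type*} [Field F] [Field K] [Algebra F K] [Finite F] [Finite K] {n : ℕ}
  (B : Basis (Fin n) F (K × F))

/-- The unipotent map `(k, f) ↦ (k + f u, f)`. -/
noncomputable def uni (u : K) : Module.End F (K × F) :=
  LinearMap.id + (LinearMap.inl F K F) ∘ₗ (LinearMap.toSpanSingleton F K u) ∘ₗ (LinearMap.snd F K F)

omit [Finite F] [Finite K] in
theorem uni_apply (u : K) (v : K × F) : uni (F := F) u v = (v.1 + v.2 • u, v.2) := by
  simp only [uni, Prod.ext_iff, _root_.LinearMap.add_apply, _root_.LinearMap.id_coe, _root_.id_eq, _root_.LinearMap.coe_comp, _root_.LinearMap.coe_inl, _root_.LinearMap.coe_snd, _root_.Function.comp_apply, _root_.LinearMap.toSpanSingleton_apply, _root_.Prod.fst_add, _root_.Prod.snd_add, _root_.add_zero, _root_.and_self]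

omit [Finite F] [Finite K] in
theorem uni_mul (u v : K) : uni (F := F) (u + v) = uni u * uni v := by
  refine LinearMap.ext fun w => ?_
  rw [Module.End.mul_apply, uni_apply, uni_apply, uni_apply]
  simp only [smul_add, Prod.mk.injEq, and_true]
  ring

omit [Finite F] [Finite K] in
theorem uni_zero : uni (F := F) (0 : K) = 1 := by
  refine LinearMap.ext fun w => ?_
  rw [uni_apply]
  simp

omit [Finite K] in
theorem det_uni (u : K) : LinearMap.det (uni (F := F) u) = 1 := by
  refine eq_one_of_add (F := F) (fun u : K => LinearMap.det (uni (F := F) u)) ?_ ?_ u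
  · rw [uni_zero, map_one]
  · intro u v
    rw [uni_mul, map_mul]

/-- The unipotent radical. -/
noncomputable def uniHom : Multiplicative K →* Matrix.SpecialLinearGroup (Fin n) F where
  toFun u := slMk B (uni u.toAdd) (det_uni _)
  map_one' := by
    apply slEnd_injective B
    rw [slEnd_slMk, MonoidHom.map_one (slEnd B)]
    exact uni_zero
  map_mul' u v := by
    apply slEnd_injective B
    rw [MonoidHom.map_mul (slEnd B), slEnd_slMk, slEnd_slMk, slEnd_slMk]
    exact uni_mul _ _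

omit [Finite K] in
theorem slEnd_uniHom (u : Multiplicative K) : slEnd B (uniHom B u) = uni u.toAdd := slEnd_slMk B _ (det_uni _)

/-- The torus element `(s, N(s)⁻¹)`. -/
noncomputable def tor (s : K) : Module.End F (K × F) :=
  LinearMap.prodMap (LinearMap.mulLeft F s) ((Algebra.norm F s)⁻¹ • LinearMap.id)

omit [Finite F] in
theorem det_tor [Module.Finite F K] (s : K) (hs : s ≠ 0) : LinearMap.det (tor (F := F) s) = 1 := by
  rw [tor, LinearMap.det_prodMap, LinearMap.det_smul, LinearMap.det_id, mul_one]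
  have h1 : LinearMap.det (LinearMap.mulLeft F s) = Algebra.norm F s := rfl
  rw [h1, Module.finrank_self, pow_one]
  exact mul_inv_cancel₀ (by rwa [Ne, Algebra.norm_eq_zero_iff])

omit [Finite K] in
/-- Criterion F for `PSL_n` from the structure of the centraliser (modulo scalars) of an element. -/
theorem frob_of_diag (x : Matrix.SpecialLinearGroup (Fin n) F)
    (key : ∀ c z : Matrix.SpecialLinearGroup (Fin n) F,
      z ∈ Subgroup.center (Matrix.SpecialLinearGroup (Fin n) F) → c * x = z * (x * c) →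
      ∃ a : K, ∃ b : F, a ≠ 0 ∧ b ≠ 0 ∧ ∀ v, slEnd B c v = (a * v.1, b * v.2)) :
    FrobCent (Matrix.ProjectiveSpecialLinearGroup (Fin n) F) := by
  -- conjugation of the unipotent elements
  have hconj : ∀ (c : Matrix.SpecialLinearGroup (Fin n) F) (a : K) (b : F), b ≠ 0 →
      (∀ v, slEnd B c v = (a * v.1, b * v.2)) → ∀ u : K,
      c * uniHom B (Multiplicative.ofAdd u) = uniHom B (Multiplicative.ofAdd (b⁻¹ • (a * u))) * c := by
    intro c a b hb hc u
    apply slEnd_injective B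
    rw [map_mul, map_mul, slEnd_uniHom, slEnd_uniHom]
    refine LinearMap.ext fun v => ?_
    rw [Module.End.mul_apply, Module.End.mul_apply, hc, hc, uni_apply, uni_apply]
    simp only [toAdd_ofAdd, Prod.mk.injEq, and_true]
    rw [smul_smul, mul_comm b v.2, mul_assoc, mul_inv_cancel₀ hb, mul_one, mul_add, mul_smul_comm]
  have huni1 : ∀ (u : Multiplicative K) (ζ : F), (∀ v, slEnd B (uniHom B u) v = ζ • v) → uniHom B u = 1 := by
    intro u ζ hζ
    have h1 := hζ (1, 0)
    have h2 := hζ (0, 1)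
    rw [slEnd_uniHom, uni_apply] at h1 h2
    have h3 := congrArg Prod.fst h1
    have h4 := congrArg Prod.fst h2
    simp only [_root_.one_smul, _root_.zero_add, _root_.Prod.smul_mk, _root_.smul_zero, _root_.smul_eq_mul, _root_.mul_one, _root_.toAdd_eq_zero] at h4
    rw [h4, map_one]
  refine frob_quot _ x (uniHom B).range ?_ ?_ ?_ ?_
  · intro h0
    have h1 : uniHom B (Multiplicative.ofAdd (1 : K)) ∈ (uniHom B).range := ⟨_, rfl⟩
    rw [h0, Subgroup.mem_bot] at h1
    have h2 := congrArg (fun g => (slEnd B g (0, 1)).1) h1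
    simp only [slEnd_uniHom, uni_apply, map_one] at h2
    simp at h2
  · rintro _ ⟨u, rfl⟩ _ ⟨v, rfl⟩
    rw [← map_mul, ← map_mul, mul_comm]
  · rintro _ ⟨u, rfl⟩ hu
    obtain ⟨ζ, hζ⟩ := smul_of_mem_center B hu
    exact huni1 u ζ hζ
  · intro c z hz hcx
    obtain ⟨a, b, ha, hb, hc⟩ := key c z hz hcx
    constructor
    · rintro _ ⟨u, rfl⟩
      refine ⟨Multiplicative.ofAdd (b⁻¹ • (a * u.toAdd)), ?_⟩
      rw [eq_mul_inv_iff_mul_eq]
      exact (hconj c a b hb hc u.toAdd).symm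
    · rintro _ ⟨u, rfl⟩ hcu
      have h1 := hconj c a b hb hc u.toAdd
      rw [ofAdd_toAdd, hcu] at h1
      have h2 := mul_right_cancel h1
      have h3 := congrArg (fun g => (slEnd B g (0, 1)).1) h2
      simp only [slEnd_uniHom, uni_apply, toAdd_ofAdd, zero_add, one_smul] at h3
      by_cases hu : u.toAdd = 0
      · left
        rw [← ofAdd_toAdd u, hu, ofAdd_zero, map_one]
      · right
        have h4 : a = algebraMap F K b := by
          apply mul_right_cancel₀ hu
          rw [← Algebra.smul_def]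
          conv_rhs => rw [h3]
          rw [smul_smul, mul_inv_cancel₀ hb, one_smul]
        apply mem_center_of_smul B (ζ := b)
        intro v
        rw [hc, h4, ← Algebra.smul_def]
        rfl

include B in
theorem frob_psl_big (hm : 2 ≤ Module.finrank F K) :
    FrobCent (Matrix.ProjectiveSpecialLinearGroup (Fin n) F) := by
  have hfd : Module.Finite F K := Module.Finite.of_finite
  obtain ⟨s, hs⟩ := IsCyclic.exists_generator (α := Kˣ)
  have hs0 : (s : K) ≠ 0 := s.ne_zero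
  have hgen : Algebra.adjoin F {(s : K)} = ⊤ := adjoin_primitive hs
  -- `s` is not in `F`
  have hsF : ∀ r : F, (s : K) ≠ algebraMap F K r := by
    intro r hr
    have h1 : (⊥ : Subalgebra F K) = ⊤ := by
      rw [← hgen, eq_comm, ← le_bot_iff, Algebra.adjoin_le_iff, hr]
      intro y hy
      rw [Set.mem_singleton_iff] at hy
      rw [hy]
      exact Subalgebra.algebraMap_mem _ _
    have h2 : Module.finrank F K = 1 := Subalgebra.bot_eq_top_iff_finrank_eq_one.1 h1
    omega
  let t : F := (Algebra.norm F (s : K))⁻¹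
  have ht0 : t ≠ 0 := inv_ne_zero (by rwa [Ne, Algebra.norm_eq_zero_iff])
  let x := slMk B (tor (s : K)) (det_tor _ hs0)
  have hx : ∀ v, slEnd B x v = ((s : K) * v.1, t * v.2) := by
    intro v
    rw [slEnd_slMk]
    rfl
  -- structure of the centraliser modulo scalars
  have key : ∀ c z : Matrix.SpecialLinearGroup (Fin n) F,
      z ∈ Subgroup.center (Matrix.SpecialLinearGroup (Fin n) F) → c * x = z * (x * c) →
      ∃ a : K, ∃ b : F, a ≠ 0 ∧ b ≠ 0 ∧ ∀ v, slEnd B c v = (a * v.1, b * v.2) := by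
    intro c z hz hcx
    obtain ⟨ζ, hζ⟩ := smul_of_mem_center B hz
    have h1 : ∀ v, slEnd B c (slEnd B x v) = ζ • slEnd B x (slEnd B c v) := by
      intro v
      have := congrArg (fun g => slEnd B g v) hcx
      simp only [map_mul, Module.End.mul_apply, hζ] at this
      exact this
    have hcinj := slEnd_apply_injective B c
    have h2 := h1 (0, 1)
    rw [hx, hx] at h2
    simp only [mul_zero, mul_one] at h2
    have h3 : slEnd B c (0, t) = t • slEnd B c (0, 1) := by
      rw [← map_smul]; congr 1; ext <;> simp only [_root_.Prod.smul_mk, _root_.smul_zero, _root_.smul_eq_mul, _root_.mul_one]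
    rw [h3] at h2
    have e1 := congrArg Prod.fst h2
    have e2 := congrArg Prod.snd h2
    simp only [Prod.smul_fst, Prod.smul_snd, smul_eq_mul] at e1 e2
    have hζ0 : ζ ≠ 0 := by
      rintro rfl
      have : slEnd B z (0, 1) = slEnd B z 0 := by rw [hζ, map_zero, zero_smul]
      have := slEnd_apply_injective B z this
      simp at this
    have hk0 : (slEnd B c (0, 1)).1 = 0 := by
      by_contra hne
      apply hsF (ζ⁻¹ * t)
      rw [map_mul]
      have h4 : algebraMap F K t = algebraMap F K ζ * s := by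
        apply mul_right_cancel₀ hne
        rw [← Algebra.smul_def, e1, Algebra.smul_def, mul_assoc]
      rw [h4, ← mul_assoc, ← map_mul, inv_mul_cancel₀ hζ0, map_one, one_mul]
    have hf0 : (slEnd B c (0, 1)).2 ≠ 0 := by
      intro hf
      have : slEnd B c (0, 1) = slEnd B c 0 := by
        rw [map_zero]; exact Prod.ext hk0 hf
      have := hcinj this
      simp at this
    have hζ1 : ζ = 1 := by
      have h5 : t * (slEnd B c (0, 1)).2 = ζ * (t * (slEnd B c (0, 1)).2) := e2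
      have h6 : t * (slEnd B c (0, 1)).2 ≠ 0 := mul_ne_zero ht0 hf0
      have h7 : 1 * (t * (slEnd B c (0, 1)).2) = ζ * (t * (slEnd B c (0, 1)).2) := by rw [one_mul]; exact h5
      exact (mul_right_cancel₀ h6 h7).symm
    subst hζ1
    simp only [one_smul] at h1
    let T : K →ₗ[F] K := LinearMap.fst F K F ∘ₗ slEnd B c ∘ₗ LinearMap.inl F K F
    let f : K →ₗ[F] F := LinearMap.snd F K F ∘ₗ slEnd B c ∘ₗ LinearMap.inl F K F
    have hTf : ∀ k : K, slEnd B c (k, 0) = (T k, f k) := fun k => rfl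
    have h8 : ∀ k : K, T (s * k) = s * T k ∧ f (s * k) = t * f k := by
      intro k
      have := h1 (k, 0)
      rw [hx, hx] at this
      simp only [mul_zero] at this
      rw [hTf, hTf] at this
      exact ⟨congrArg Prod.fst this, congrArg Prod.snd this⟩
    have hf : ∀ k, f k = 0 := by
      intro k
      have hne : (s : K) - algebraMap F K t ≠ 0 := sub_ne_zero.2 (hsF t)
      have h9 : ∀ k, f (((s : K) - algebraMap F K t) * k) = 0 := by
        intro k
        rw [sub_mul, map_sub, (h8 k).2, ← Algebra.smul_def, map_smul, smul_eq_mul, sub_self]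
      have := h9 (((s : K) - algebraMap F K t)⁻¹ * k)
      rwa [← mul_assoc, mul_inv_cancel₀ hne, one_mul] at this
    have hT : ∀ k, T k = T 1 * k := comm_gen hgen T fun k => (h8 k).1
    refine ⟨T 1, (slEnd B c (0, 1)).2, ?_, hf0, fun v => ?_⟩
    · intro h0
      have : slEnd B c ((1 : K), (0 : F)) = slEnd B c 0 := by
        rw [map_zero, hTf, h0, hf]; rfl
      have := hcinj this
      simp at this
    · have hv : v = (v.1, 0) + v.2 • ((0 : K), (1 : F)) := by
        ext <;> simp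
      conv_lhs => rw [hv]
      rw [map_add, map_smul, hTf, hf, hT]
      refine Prod.ext ?_ ?_
      · simp only [hk0, _root_.Prod.fst_add, _root_.Prod.smul_fst, _root_.smul_zero, _root_.add_zero]
      · simp [mul_comm]
  exact frob_of_diag B x key

end big

theorem frob_psl {F : Type*} [Field F] [Finite F] {n : ℕ} (hn : 3 ≤ n) :
    FrobCent (Matrix.ProjectiveSpecialLinearGroup (Fin n) F) := by
  obtain ⟨K, _, _, _, hK⟩ := exists_ext F (n - 1) (by omega)
  have hfd : Module.Finite F K := Module.Finite.of_finite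
  have h1 : Module.finrank F (K × F) = n := by
    rw [Module.finrank_prod, hK, Module.finrank_self]; omega
  exact frob_psl_big (Module.finBasisOfFinrankEq F (K × F) h1) (by omega)

theorem frob_psl_two {F : Type*} [Field F] [Finite F] (h4 : 4 ≤ Nat.card F) (h5 : Nat.card F ≠ 5) :
    FrobCent (Matrix.ProjectiveSpecialLinearGroup (Fin 2) F) := by
  classical
  have := Fintype.ofFinite F
  obtain ⟨s, hs⟩ := IsCyclic.exists_generator (α := Fˣ)
  have hord : orderOf s = Nat.card F - 1 := by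
    rw [orderOf_eq_card_of_forall_mem_zpowers hs, Nat.card_units]
  have hs4 : (s : F) ^ 4 ≠ 1 := by
    intro h
    have h1 : s ^ 4 = 1 := by ext; simpa only [_root_.Units.val_pow_eq_pow_val, _root_.Units.val_one] using h
    have h2 := orderOf_dvd_of_pow_eq_one h1
    rw [hord] at h2
    have h3 : Nat.card F - 1 ≤ 4 := Nat.le_of_dvd (by norm_num) h2
    have h6 : Nat.card F = 4 := by omega
    rw [h6] at h2
    omega
  have hs0 : (s : F) ≠ 0 := s.ne_zero
  have hs2 : (s : F) ^ 2 ≠ 1 := by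
    intro h
    apply hs4
    calc (s : F) ^ 4 = ((s : F) ^ 2) ^ 2 := by ring
      _ = 1 := by rw [h, one_pow]
  let B : Basis (Fin 2) F (F × F) := Module.finBasisOfFinrankEq F (F × F) (by simp)
  let X : Module.End F (F × F) := LinearMap.prodMap ((s : F) • LinearMap.id) ((s : F)⁻¹ • LinearMap.id)
  have hX : LinearMap.det X = 1 := by
    rw [LinearMap.det_prodMap, LinearMap.det_smul, LinearMap.det_smul, LinearMap.det_id, Module.finrank_self]
    simp [hs0]
  let x := slMk B X hX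
  have hx : ∀ v, slEnd B x v = ((s : F) * v.1, (s : F)⁻¹ * v.2) := by
    intro v
    rw [slEnd_slMk]
    rfl
  refine frob_of_diag (K := F) B x ?_
  intro c z hz hcx
  obtain ⟨ζ, hζ⟩ := smul_of_mem_center B hz
  have h1 : ∀ v, slEnd B c (slEnd B x v) = ζ • slEnd B x (slEnd B c v) := by
    intro v
    have := congrArg (fun g => slEnd B g v) hcx
    simp only [map_mul, Module.End.mul_apply, hζ] at this
    exact this
  have hcinj := slEnd_apply_injective B c
  have h2 := h1 (1, 0)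
  have h3 := h1 (0, 1)
  rw [hx, hx] at h2 h3
  simp only [mul_zero, mul_one] at h2 h3
  have e2 : slEnd B c ((s : F), (0 : F)) = (s : F) • slEnd B c (1, 0) := by
    rw [← map_smul]; congr 1; ext <;> simp
  have e3 : slEnd B c ((0 : F), (s : F)⁻¹) = (s : F)⁻¹ • slEnd B c (0, 1) := by
    rw [← map_smul]; congr 1; ext <;> simp
  rw [e2] at h2
  rw [e3] at h3
  set p := slEnd B c (1, 0) with hp
  set r := slEnd B c (0, 1) with hr
  have hp0 : p ≠ 0 := by
    intro h
    have := hcinj (h.trans (map_zero (slEnd B c)).symm)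
    simp at this
  have hr0 : r ≠ 0 := by
    intro h
    have := hcinj (h.trans (map_zero (slEnd B c)).symm)
    simp at this
  have a1 : (s : F) * p.1 = ζ * ((s : F) * p.1) := congrArg Prod.fst h2
  have a2 : (s : F) * p.2 = ζ * ((s : F)⁻¹ * p.2) := congrArg Prod.snd h2
  have b1 : (s : F)⁻¹ * r.1 = ζ * ((s : F) * r.1) := congrArg Prod.fst h3
  have b2 : (s : F)⁻¹ * r.2 = ζ * ((s : F)⁻¹ * r.2) := congrArg Prod.snd h3
  -- the scalar is one
  have hζ1 : ζ = 1 := by
    by_contra hne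
    have hne' : (1 : F) - ζ ≠ 0 := sub_ne_zero.2 (Ne.symm hne)
    have hp1 : p.1 = 0 := by
      have : (1 - ζ) * ((s : F) * p.1) = 0 := by rw [sub_mul, one_mul, ← a1, sub_self]
      rcases mul_eq_zero.1 this with h | h
      · exact absurd h hne'
      · exact (mul_eq_zero.1 h).resolve_left hs0
    have hr2 : r.2 = 0 := by
      have : (1 - ζ) * ((s : F)⁻¹ * r.2) = 0 := by rw [sub_mul, one_mul, ← b2, sub_self]
      rcases mul_eq_zero.1 this with h | h
      · exact absurd h hne'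
      · exact (mul_eq_zero.1 h).resolve_left (inv_ne_zero hs0)
    have hp2 : p.2 ≠ 0 := fun h => hp0 (Prod.ext hp1 h)
    have hr1 : r.1 ≠ 0 := fun h => hr0 (Prod.ext h hr2)
    have c1 : (s : F) = ζ * (s : F)⁻¹ := by
      apply mul_right_cancel₀ hp2
      rw [a2, mul_assoc]
    have c2 : (s : F)⁻¹ = ζ * (s : F) := by
      apply mul_right_cancel₀ hr1
      rw [b1, mul_assoc]
    have d1 : ζ = (s : F) ^ 2 := by
      rw [sq]
      nth_rewrite 1 [c1]
      rw [mul_assoc, inv_mul_cancel₀ hs0, mul_one]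
    apply hs4
    calc (s : F) ^ 4 = ((s : F) ^ 2 * (s : F)) * (s : F) := by ring
      _ = (s : F)⁻¹ * (s : F) := by rw [← d1, ← c2]
      _ = 1 := inv_mul_cancel₀ hs0
  subst hζ1
  rw [one_mul] at a2 b1
  have hss : (s : F) - (s : F)⁻¹ ≠ 0 := by
    intro h
    apply hs2
    rw [sub_eq_zero] at h
    rw [sq]
    nth_rewrite 1 [h]
    exact inv_mul_cancel₀ hs0
  have hp2 : p.2 = 0 := by
    have : ((s : F) - (s : F)⁻¹) * p.2 = 0 := by rw [sub_mul, a2, sub_self]
    exact (mul_eq_zero.1 this).resolve_left hss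
  have hr1 : r.1 = 0 := by
    have : ((s : F) - (s : F)⁻¹) * r.1 = 0 := by rw [sub_mul, ← b1, sub_self]
    exact (mul_eq_zero.1 this).resolve_left hss
  refine ⟨p.1, r.2, fun h => hp0 (Prod.ext h hp2), fun h => hr0 (Prod.ext hr1 h), fun v => ?_⟩
  have hv : v = v.1 • ((1 : F), (0 : F)) + v.2 • ((0 : F), (1 : F)) := by
    ext <;> simp
  conv_lhs => rw [hv]
  rw [map_add, map_smul, map_smul, ← hp, ← hr]
  refine Prod.ext ?_ ?_
  · simp [hr1, mul_comm]
  · simp [hp2, mul_comm]

end Cfsg.Agent.H917.CJ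
end

-- part: H917/CJ/PslRow
section
/-!
# The row `PSL` of S4792, all cases

`PSL_2(5) ≅ A_5 ≅ PSL_2(4)`.
-/

set_option autoImplicit false

open Cfsg Module

namespace Cfsg.Agent.H917.CJ

open Cfsg.Agent.H430.Conj

theorem frob_alt_five : FrobCent (alternatingGroup (Fin 5)) := by
  have : Fintype (GaloisField 2 2) := Fintype.ofFinite _
  have hc : Nat.card (GaloisField 2 2) = 4 := by
    rw [GaloisField.card 2 2 (by norm_num)]; norm_num
  obtain ⟨e⟩ := S0252.result (F := GaloisField 2 2) (by rw [← Nat.card_eq_fintype_card, hc])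
  exact (frob_psl_two (F := GaloisField 2 2) (by omega) (by omega)).of_equiv e

theorem frob_psl_two_all {F : Type*} [Field F] [Finite F] (h4 : 4 ≤ Nat.card F) :
    FrobCent (Matrix.ProjectiveSpecialLinearGroup (Fin 2) F) := by
  by_cases h5 : Nat.card F = 5
  · have := Fintype.ofFinite F
    obtain ⟨e⟩ := S0253.result (F := F) (by rw [← Nat.card_eq_fintype_card, h5])
    exact frob_alt_five.of_equiv e.symm
  · exact frob_psl_two h4 h5

/-- Row `PSL` of S4792 (criterion F). -/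
theorem frob_isPSL {S : Type*} [Group S] (h : IsPSL S) : FrobCent S := by
  obtain ⟨F, _, _, n, hn, hn2, ⟨e⟩⟩ := h
  refine FrobCent.of_equiv ?_ e.symm
  by_cases h2 : n = 2
  · subst h2
    exact frob_psl_two_all (by rw [Nat.card_eq_fintype_card]; exact hn2 rfl)
  · exact frob_psl (by omega)

/-- Row `PSL` of S4792. -/
theorem row_isPSL {S : Type*} [Group S] [Finite S] (hs : IsSimpleGroup S) (h : IsPSL S) : Row S :=
  (frob_isPSL h).row

end Cfsg.Agent.H917.CJ
end

-- part: H759/Conj/CCNorm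
section
/-!
# The normalizer of a cyclic CC-subgroup (helper759, S4792)

`card_normalizer` : `C` cyclic of order `t > 1` with `C_G(c) = C` for `1 ≠ c ∈ C`: `|N_G(C)| = w t` with
`0 < w < t` and `w ≡ |G| / t` modulo `t`.
-/

set_option autoImplicit false

namespace Cfsg.Agent.H759.Conj

open Subgroup

/-- a group acting freely on a finite type -/
theorem card_dvd_of_free {H X : Type*} [Group H] [Finite H] [Finite X] [MulAction H X]
    (hfree : ∀ (h : H) (x : X), h • x = x → h = 1) : Nat.card H ∣ Nat.card X := by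
  classical
  have hst : ∀ x : X, MulAction.stabilizer H x = ⊥ := by
    intro x
    rw [eq_bot_iff]
    intro h hh
    exact mem_bot.2 (hfree h x hh)
  have e := MulAction.selfEquivSigmaOrbitsQuotientStabilizer H X
  have e2 : (Σ ω : Quotient (MulAction.orbitRel H X), H ⧸ MulAction.stabilizer H ω.out) ≃
      Quotient (MulAction.orbitRel H X) × H := by
    refine (Equiv.sigmaCongrRight fun ω => ?_).trans (Equiv.sigmaEquivProd _ _)
    rw [hst]
    exact (QuotientGroup.quotientBot (G := H)).toEquiv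
  rw [Nat.card_congr (e.trans e2), Nat.card_prod]
  exact dvd_mul_left _ _

set_option linter.unusedSectionVars false

variable {G : Type*} [Group G] [Finite G] {C : Subgroup G}

/-- elements of prime order of the normalizer lie in `C` -/
theorem mem_of_prime (hC : ∀ c ∈ C, c ≠ 1 → centralizer ({c} : Set G) = C) (hcyc : IsCyclic C) {y : G} {r : ℕ}
    (hr : r.Prime) (hy : orderOf y = r) (hrC : r ∣ Nat.card C) (hyN : y ∈ normalizer (C : Set G)) : y ∈ C := by
  have : Fact r.Prime := ⟨hr⟩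
  obtain ⟨c, hc⟩ := exists_prime_orderOf_dvd_card' (G := C) r hrC
  have hcG : orderOf (c : G) = r := by rw [Subgroup.orderOf_coe, hc]
  have hc1 : (c : G) ≠ 1 := by
    intro h
    rw [h, orderOf_one] at hcG
    exact hr.one_lt.ne hcG
  -- `y` normalizes `⟨c⟩`
  have hyc : y * c * y⁻¹ ∈ C := (mem_normalizer_iff.1 hyN c).1 c.2
  have hmem : y * c * y⁻¹ ∈ zpowers (c : G) := by
    have h1 : orderOf (y * c * y⁻¹) = r := by
      have h3 : SemiconjBy y (c : G) (y * c * y⁻¹) := by
        show y * (c : G) = y * c * y⁻¹ * y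
        group
      rw [← h3.orderOf_eq, hcG]
    have h2 : (⟨y * c * y⁻¹, hyc⟩ : C) ∈ zpowers c := by
      have h4 : orderOf (⟨y * c * y⁻¹, hyc⟩ : C) = orderOf c := by
        rw [Subgroup.orderOf_mk, h1, hc]
      classical
      have := Fintype.ofFinite C
      have h5 := IsCyclic.card_pow_eq_one_le (α := C) (n := r) hr.pos
      by_contra hcon
      have h6 : ∀ x ∈ zpowers c, x ^ r = 1 := by
        intro x hx
        obtain ⟨k, rfl⟩ := mem_zpowers_iff.1 hx
        rw [← zpow_natCast, zpow_comm, zpow_natCast, ← hc, pow_orderOf_eq_one, one_zpow]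
      have h7 : (⟨y * c * y⁻¹, hyc⟩ : C) ^ r = 1 := by rw [← hc, ← h4, pow_orderOf_eq_one]
      have h8 : (insert (⟨y * c * y⁻¹, hyc⟩ : C) (Finset.univ.filter fun x : C => x ∈ zpowers c)).card ≤
          (Finset.univ.filter fun a : C => a ^ r = 1).card := by
        apply Finset.card_le_card
        intro x hx
        rw [Finset.mem_insert, Finset.mem_filter] at hx
        rw [Finset.mem_filter]
        refine ⟨Finset.mem_univ _, ?_⟩
        rcases hx with rfl | ⟨-, hx⟩
        · exact h7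
        · exact h6 x hx
      rw [Finset.card_insert_of_notMem (by simpa only [_root_.Finset.mem_filter, _root_.Finset.mem_univ, _root_.true_and] using hcon)] at h8
      have h9 : (Finset.univ.filter fun x : C => x ∈ zpowers c).card = r := by
        have h10 : Nat.card (zpowers c) = r := by rw [Nat.card_zpowers, hc]
        rw [← h10, Nat.card_eq_fintype_card, Fintype.card_subtype]
      rw [h9] at h8
      have h11 : (Finset.univ.filter fun a : C => a ^ r = 1).card ≤ r := by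
        simpa only [] using h5
      omega
    obtain ⟨k, hk⟩ := mem_zpowers_iff.1 h2
    exact mem_zpowers_iff.2 ⟨k, by simpa only [_root_.SubgroupClass.coe_zpow] using congrArg (Subtype.val : C → G) hk⟩
  -- `y` centralizes `c`
  obtain ⟨k, hk⟩ := mem_zpowers_iff.1 hmem
  have hrk : ∀ j : ℕ, y ^ j * c * (y ^ j)⁻¹ = (c : G) ^ (k ^ j) := by
    intro j
    induction j with
    | zero => simp
    | succ j ih =>
      have h1 : y ^ (j + 1) * c * (y ^ (j + 1))⁻¹ = y ^ j * (y * c * y⁻¹) * (y ^ j)⁻¹ := by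
        rw [pow_succ]; group
      rw [h1, ← hk, ← conj_zpow, ih, ← zpow_mul, pow_succ]
  have h1 := hrk r
  rw [show y ^ r = 1 by rw [← hy, pow_orderOf_eq_one], one_mul, inv_one, mul_one] at h1
  have h2 : (c : G) ^ (k ^ r - 1) = 1 := by
    rw [zpow_sub, ← h1, zpow_one, mul_inv_cancel]
  have h3 : (r : ℤ) ∣ k ^ r - 1 := by
    have := orderOf_dvd_iff_zpow_eq_one.2 h2
    rwa [hcG] at this
  have h4 : (r : ℤ) ∣ k - 1 := by
    have h6 : (k : ZMod r) ^ r = (k : ZMod r) := ZMod.pow_card _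
    have h7 : ((k ^ r - 1 : ℤ) : ZMod r) = 0 := (ZMod.intCast_zmod_eq_zero_iff_dvd _ r).2 h3
    apply (ZMod.intCast_zmod_eq_zero_iff_dvd _ r).1
    push_cast at h7 ⊢
    rw [h6] at h7
    exact h7
  have h5 : y * c * y⁻¹ = c := by
    rw [← hk]
    have h6 : (c : G) ^ (k - 1) = 1 := by
      rw [← orderOf_dvd_iff_zpow_eq_one, hcG]
      exact h4
    calc (c : G) ^ k = (c : G) ^ (k - 1) * c := by rw [← zpow_add_one]; congr 1; ring
      _ = c := by rw [h6, one_mul]
  have h6 : y ∈ centralizer ({(c : G)} : Set G) := by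
    rw [mem_centralizer_singleton_iff]
    calc y * c = (y * c * y⁻¹) * y := by group
      _ = c * y := by rw [h5]
  rwa [hC c c.2 hc1] at h6

/-- conjugate elements of `C` are conjugate in the normalizer -/
theorem mem_normalizer_of (hC : ∀ c ∈ C, c ≠ 1 → centralizer ({c} : Set G) = C) {c g : G} (hc : c ∈ C) (hc1 : c ≠ 1)
    (h : g⁻¹ * c * g ∈ C) : g ∈ normalizer (C : Set G) := by
  have h1 : g⁻¹ * c * g ≠ 1 := by
    intro h2
    apply hc1
    calc c = g * (g⁻¹ * c * g) * g⁻¹ := by group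
      _ = 1 := by rw [h2]; group
  have h2 := hC _ h h1
  have h3 := hC _ hc hc1
  rw [mem_normalizer_iff]
  intro x
  constructor
  · intro hx
    rw [← h2, mem_centralizer_singleton_iff] at hx
    rw [← h3, mem_centralizer_singleton_iff]
    calc g * x * g⁻¹ * c = g * (x * (g⁻¹ * c * g)) * g⁻¹ := by group
      _ = g * ((g⁻¹ * c * g) * x) * g⁻¹ := by rw [hx]
      _ = c * (g * x * g⁻¹) := by group
  · intro hx
    rw [← h3, mem_centralizer_singleton_iff] at hx
    rw [← h2, mem_centralizer_singleton_iff]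
    calc x * (g⁻¹ * c * g) = g⁻¹ * ((g * x * g⁻¹) * c) * g := by group
      _ = g⁻¹ * (c * (g * x * g⁻¹)) * g := by rw [hx]
      _ = g⁻¹ * c * g * x := by group

/-- **The normalizer of a cyclic CC-subgroup.** -/
theorem card_normalizer (hC1 : C ≠ ⊥) (hC : ∀ c ∈ C, c ≠ 1 → centralizer ({c} : Set G) = C) (hcyc : IsCyclic C) :
    ∃ w : ℕ, Nat.card (normalizer (C : Set G)) = w * Nat.card C ∧ 0 < w ∧ w < Nat.card C ∧
      Nat.card G / Nat.card C % Nat.card C = w := by
  classical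
  set N : Subgroup G := normalizer (C : Set G) with hN
  have hCN : C ≤ N := Subgroup.le_normalizer
  obtain ⟨w, hw⟩ : Nat.card C ∣ Nat.card N := Subgroup.card_dvd_of_le hCN
  have hpos : 0 < Nat.card C := Nat.card_pos
  have hw0 : 0 < w := by
    apply Nat.pos_of_ne_zero
    rintro rfl
    have : 0 < Nat.card N := Nat.card_pos
    omega
  obtain ⟨c, hc, hc1⟩ : ∃ c ∈ C, c ≠ 1 := by
    by_contra hcon
    push Not at hcon
    apply hC1
    rw [eq_bot_iff]
    intro x hx
    exact mem_bot.2 (hcon x hx)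
  -- `w ≤ t - 1`
  have hlt : w < Nat.card C := by
    let f : N ⧸ (C.subgroupOf N) → {x : C // x ≠ 1} := Quotient.lift
      (fun n : N => ⟨⟨(n : G) * c * (n : G)⁻¹, (mem_normalizer_iff.1 n.2 c).1 hc⟩, by
        intro h
        apply hc1
        have h1 : (n : G) * c * (n : G)⁻¹ = 1 := congrArg Subtype.val h
        calc c = (n : G)⁻¹ * ((n : G) * c * (n : G)⁻¹) * n := by group
          _ = 1 := by rw [h1]; group⟩) (by
        intro a b hab
        have h1 : a⁻¹ * b ∈ C.subgroupOf N := QuotientGroup.leftRel_apply.1 hab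
        rw [mem_subgroupOf, ← hC c hc hc1, mem_centralizer_singleton_iff] at h1
        apply Subtype.ext
        apply Subtype.ext
        show (a : G) * c * (a : G)⁻¹ = b * c * (b : G)⁻¹
        have h2 : ((a⁻¹ * b : N) : G) = (a : G)⁻¹ * b := rfl
        rw [h2] at h1
        calc (a : G) * c * (a : G)⁻¹ = a * (c * ((a : G)⁻¹ * b)) * (b : G)⁻¹ := by group
          _ = a * (((a : G)⁻¹ * b) * c) * (b : G)⁻¹ := by rw [h1]
          _ = b * c * (b : G)⁻¹ := by group)
    have hf : Function.Injective f := by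
      intro x y
      induction x using QuotientGroup.induction_on with
      | _ a =>
      induction y using QuotientGroup.induction_on with
      | _ b =>
      intro h
      have h1 : (a : G) * c * (a : G)⁻¹ = b * c * (b : G)⁻¹ :=
        congrArg (fun z : {x : C // x ≠ 1} => ((z : C) : G)) h
      rw [QuotientGroup.eq, mem_subgroupOf, ← hC c hc hc1, mem_centralizer_singleton_iff]
      show (a : G)⁻¹ * b * c = c * ((a : G)⁻¹ * b)
      calc (a : G)⁻¹ * b * c = (a : G)⁻¹ * (b * c * (b : G)⁻¹) * b := by group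
        _ = (a : G)⁻¹ * (a * c * (a : G)⁻¹) * b := by rw [h1]
        _ = c * ((a : G)⁻¹ * b) := by group
    have h1 := Nat.card_le_card_of_injective f hf
    have h2 : Nat.card {x : C // x ≠ 1} < Nat.card C := by
      have := Fintype.ofFinite C
      rw [Nat.card_eq_fintype_card, Nat.card_eq_fintype_card]
      exact Fintype.card_subtype_lt (x := (1 : C)) (by simp)
    have h3 : Nat.card (N ⧸ (C.subgroupOf N)) = w := by
      have h4 := Subgroup.card_eq_card_quotient_mul_card_subgroup (C.subgroupOf N)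
      have h5 : Nat.card (C.subgroupOf N) = Nat.card C := Nat.card_congr (Subgroup.subgroupOfEquivOfLe hCN).toEquiv
      rw [h5, hw, mul_comm (Nat.card C)] at h4
      exact (Nat.eq_of_mul_eq_mul_right hpos h4).symm
    omega
  refine ⟨w, by rw [hw, mul_comm], hw0, hlt, ?_⟩
  -- the congruence
  have hindex : Nat.card C ∣ Nat.card (G ⧸ N) - 1 := by
    let X := {x : G ⧸ N // x ≠ ((1 : G) : G ⧸ N)}
    let act : MulAction C X :=
      { smul := fun h x => ⟨(h : G) • (x : G ⧸ N), by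
          intro heq
          apply x.2
          have h1 : (x : G ⧸ N) = (h : G)⁻¹ • (((1 : G) : G ⧸ N)) := eq_inv_smul_iff.2 heq
          rw [h1]
          show (((h : G)⁻¹ * 1 : G) : G ⧸ N) = _
          rw [QuotientGroup.eq]
          simpa using hCN h.2⟩
        one_smul := fun x => Subtype.ext (one_smul G (x : G ⧸ N))
        mul_smul := fun a b x => Subtype.ext (mul_smul (a : G) (b : G) (x : G ⧸ N)) }
    have h1 : Nat.card C ∣ Nat.card X := by
      refine card_dvd_of_free (H := C) (X := X) ?_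
      intro h x hx
      by_contra hh1
      have hx' : (h : G) • (x : G ⧸ N) = x := congrArg Subtype.val hx
      obtain ⟨x, hx1⟩ := x
      apply hx1
      change (h : G) • x = x at hx'
      induction x using QuotientGroup.induction_on with
      | _ g =>
      have h2 : g⁻¹ * (h : G) * g ∈ N := by
        have h3 : ((h : G) * g : G ⧸ N) = ((g : G) : G ⧸ N) := hx'
        rw [eq_comm, QuotientGroup.eq] at h3
        simpa only [mul_assoc] using h3
      -- an element of prime order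
      obtain ⟨r, hr, hrh⟩ := Nat.exists_prime_and_dvd (n := orderOf h) (by
        intro h3
        exact hh1 (orderOf_eq_one_iff.1 h3))
      obtain ⟨z, hz⟩ : ∃ z : C, z = h ^ (orderOf h / r) := ⟨_, rfl⟩
      have hzo : orderOf (z : G) = r := by
        rw [Subgroup.orderOf_coe, hz]
        exact orderOf_pow_orderOf_div (orderOf_pos h).ne' hrh
      have hz1 : (z : G) ≠ 1 := by
        intro h3
        rw [h3, orderOf_one] at hzo
        exact hr.one_lt.ne hzo
      have h3 : g⁻¹ * (z : G) * g ∈ N := by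
        have h4 : g⁻¹ * (z : G) * g = (g⁻¹ * (h : G) * g) ^ (orderOf h / r) := by
          rw [hz]
          have := conj_pow (a := g⁻¹) (b := (h : G)) (i := orderOf h / r)
          rw [inv_inv] at this
          rw [this]
          rfl
        rw [h4]
        exact pow_mem h2 _
      have h4 : orderOf (g⁻¹ * (z : G) * g) = r := by
        have h5 : SemiconjBy g⁻¹ (z : G) (g⁻¹ * z * g) := by
          show g⁻¹ * (z : G) = g⁻¹ * z * g * g⁻¹
          group
        rw [← h5.orderOf_eq, hzo]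
      have h5 : g⁻¹ * (z : G) * g ∈ C := mem_of_prime hC hcyc hr h4
        (hzo ▸ (Subgroup.orderOf_coe z ▸ _root_.orderOf_dvd_natCard z)) h3
      have h6 : g ∈ N := mem_normalizer_of hC z.2 hz1 h5
      rw [eq_comm, QuotientGroup.eq]
      simpa using h6
    have h2 : Nat.card X = Nat.card (G ⧸ N) - 1 := by
      have := Fintype.ofFinite (G ⧸ N)
      rw [Nat.card_eq_fintype_card, Nat.card_eq_fintype_card, Fintype.card_subtype_compl,
        Fintype.card_subtype_eq]
    rwa [h2] at h1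
  have h1 : Nat.card G = Nat.card (G ⧸ N) * (w * Nat.card C) := by
    rw [← mul_comm (Nat.card C) w, ← hw]
    exact Subgroup.card_eq_card_quotient_mul_card_subgroup N
  have h2 : Nat.card G / Nat.card C = Nat.card (G ⧸ N) * w := by
    rw [h1, ← mul_assoc, Nat.mul_div_cancel _ hpos]
  have h3 : 0 < Nat.card (G ⧸ N) := Nat.card_pos
  obtain ⟨k, hk⟩ := hindex
  have h4 : Nat.card (G ⧸ N) = Nat.card C * k + 1 := by omega
  rw [h2, h4, add_mul, one_mul, mul_assoc, Nat.mul_add_mod, Nat.mod_eq_of_lt hlt]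

end Cfsg.Agent.H759.Conj
end

-- part: H352/Conj/TE6
section
/-!
# S4792: the row `²E₆(q)` (helper352, task 3782)

`row_of_exact` : a group with an isolated cyclic subgroup `T` (`CycExact`) all of whose nontrivial irreducible
characters have degree `d` with `|T|² (|T| - 1) ≤ d²`.
-/

set_option autoImplicit false

open Cfsg
open scoped ComplexConjugate

namespace Cfsg.Agent.H352.Conj

open Cfsg.Agent.Characters.Core Cfsg.Agent.H430.Conj Cfsg.Agent.H129.CycT

universe u v

section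

variable {G : Type u} [Group G] [Finite G]

theorem hasFix_one (C : Subgroup G) : HasFix C (1 : G → ℂ) := by
  unfold HasFix
  have := Fintype.ofFinite C
  rw [finsum_eq_sum_of_fintype]
  simp only [_root_.Pi.one_apply, _root_.Finset.sum_const, _root_.Finset.card_univ, _root_.nsmul_eq_mul, _root_.mul_one, _root_.ne_eq, _root_.Nat.cast_eq_zero, _root_.Fintype.card_ne_zero, _root_.not_false_eq_true]

/-- **Tool M, basic form** (no simplicity): `C` is a CC-subgroup. -/
theorem row_of_cc_basic {C : Subgroup G} (hC1 : C ≠ ⊥) (hC : ∀ c ∈ C, c ≠ 1 → Subgroup.centralizer {c} = C)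
    (hd : ∀ (χ : G → ℂ) (d : ℕ), IsIrrCharacter G χ → χ ≠ 1 → χ 1 = d →
      (Nat.card C) ^ 2 * (Nat.card C - 1) ≤ d ^ 2) : Row G := by
  classical
  intro χ hχ
  obtain ⟨x, hx, hx1⟩ := (Subgroup.ne_bot_iff_exists_ne_one.1 hC1 |>.imp fun a h => ⟨a.2, h⟩ :
    ∃ x : C, (x : G) ∈ C ∧ x ≠ 1)
  have hx1' : (x : G) ≠ 1 := fun h => hx1 (Subtype.ext h)
  by_cases h1 : χ = 1
  · subst h1
    exact ⟨1, hasFix_one _⟩
  refine ⟨x, ?_⟩
  rw [hC x hx hx1']
  unfold HasFix
  intro h0
  have := Fintype.ofFinite C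
  rw [finsum_eq_sum_of_fintype, ← Finset.add_sum_erase _ _ (Finset.mem_univ (1 : C))] at h0
  obtain ⟨d, hd0, hd1⟩ := isIrr_apply_one hχ
  have hd2 := hd χ d hχ h1 hd1
  set t := Nat.card C with ht
  have ht1 : 1 < t := by
    rw [ht, Finite.one_lt_card_iff_nontrivial]
    exact ⟨x, 1, hx1⟩
  have hb : ∀ c ∈ (Finset.univ : Finset C).erase 1, ‖χ (c : G)‖ ≤ Real.sqrt (t - 1) := by
    intro c hc
    have hc1 : (c : G) ≠ 1 := fun h => (Finset.mem_erase.1 hc).1 (Subtype.ext h)
    apply Real.le_sqrt_of_sq_le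
    have h2 := Cfsg.Agent.CharactersDeep.ColumnBessel.sum_norm_sq_le
      ({⟨χ, hχ⟩, ⟨1, isIrr_one⟩} : Finset (IrrCharacter G)) (c : G)
    rw [Finset.sum_pair (fun h => h1 (congrArg Subtype.val h)), hC c c.2 hc1] at h2
    simp only [Pi.one_apply, norm_one, one_pow] at h2
    have h3 : (Nat.card C : ℝ) = t := rfl
    rw [h3] at h2
    linarith only [h2]
  have h2 : ‖∑ c ∈ (Finset.univ : Finset C).erase 1, χ (c : G)‖ ≤ (t - 1 : ℝ) * Real.sqrt (t - 1) := by
    refine (norm_sum_le_of_le _ hb).trans (le_of_eq ?_)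
    rw [Finset.sum_const, Finset.card_erase_of_mem (Finset.mem_univ _), Finset.card_univ, ← Nat.card_eq_fintype_card,
      nsmul_eq_mul, Nat.cast_sub ht1.le, Nat.cast_one]
  have h3 : (d : ℝ) ≤ (t - 1 : ℝ) * Real.sqrt (t - 1) := by
    have h4 : ‖(χ ((1 : C) : G) : ℂ)‖ = d := by
      rw [Subgroup.coe_one, hd1, Complex.norm_natCast]
    rw [← h4, eq_neg_of_add_eq_zero_left h0, norm_neg]
    exact h2
  have ht' : (1 : ℝ) < t := by exact_mod_cast ht1
  have h5 : (d : ℝ) ^ 2 ≤ (t - 1 : ℝ) ^ 3 := by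
    calc (d : ℝ) ^ 2 ≤ ((t - 1 : ℝ) * Real.sqrt (t - 1)) ^ 2 := pow_le_pow_left₀ (by positivity) h3 2
      _ = (t - 1 : ℝ) ^ 3 := by rw [mul_pow, Real.sq_sqrt (by linarith only [ht'])]; ring
  have h6 : (t : ℝ) ^ 2 * (t - 1) ≤ (d : ℝ) ^ 2 := by
    have h7 : ((t ^ 2 * (t - 1) : ℕ) : ℝ) ≤ ((d ^ 2 : ℕ) : ℝ) := by exact_mod_cast hd2
    rw [Nat.cast_mul, Nat.cast_sub ht1.le] at h7
    push_cast at h7
    exact h7
  nlinarith only [ht', h5, h6]

/-- from `CycExact` and a degree bound -/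
theorem row_of_exact {m b : ℕ} (h : CycExact G m) (hm : 1 < m)
    (hb : ∀ (χ : G → ℂ) (d : ℕ), IsIrrCharacter G χ → χ ≠ 1 → χ 1 = d → b ≤ d) (hmb : m ^ 2 * (m - 1) ≤ b ^ 2) :
    Row G := by
  obtain ⟨T, -, h2, h3⟩ := h
  refine row_of_cc_basic (C := T) ?_ h3 fun χ d h4 h5 h6 => ?_
  · rintro rfl
    rw [Subgroup.card_bot] at h2
    omega
  · rw [h2]
    exact hmb.trans (Nat.pow_le_pow_left (hb χ d h4 h5 h6) 2)

end

/-- irreducible representations of degree `≥ 2` have degree `≥ b`; no nontrivial linear characters -/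
theorem deg_of_rep {G : Type u} [Group G] [Finite G] [IsSimpleGroup G] (hna : ¬ IsMulCommutative G) {b : ℕ}
    (hb : ∀ (k : ℕ) (ρ : Representation ℂ G (Fin k → ℂ)), ρ.IsIrreducible → 2 ≤ k → b ≤ k) (χ : G → ℂ) (d : ℕ)
    (hχ : IsIrrCharacter G χ) (h1 : χ ≠ 1) (hd : χ 1 = d) : b ≤ d := by
  have hd1 : d ≠ 1 := by
    rintro rfl
    exact h1 (Cfsg.Agent.Classification.TypeZIV.Four.eq_one_of_apply_one hna hχ (by rw [hd, Nat.cast_one]))
  obtain ⟨m, hm, hm1⟩ := isIrr_apply_one hχ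
  have hmd : m = d := by exact_mod_cast hm1.symm.trans hd
  subst hmd
  obtain ⟨n, ρ, hρ, rfl⟩ := hχ
  have h2 : ρ.character 1 = n := by
    rw [Representation.char_one]
    simp only [_root_.Module.finrank_fintype_fun_eq_card, _root_.Fintype.card_fin]
  have h3 : m = n := by exact_mod_cast hm1.symm.trans h2
  subst h3
  exact hb m ρ hρ (by omega)

/-- **`²E₆(q)`** -/
theorem row_te6 {S : Type*} [Group S] [Finite S] (h : Cfsg.Lie.Iso2E6 S) : Row S := by
  obtain ⟨K, _, _, q, hq, hK, ⟨e⟩⟩ := h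
  obtain ⟨hs, hna⟩ := Cfsg.Agent.S1070.result hq hK
  have hfin : Finite ↥(Cfsg.Lie.twistedE6 K q) := inferInstance
  refine Row.of_equiv e.symm ?_
  have hq2 : 2 ≤ q := hq.two_le
  have hle : q ^ 3 ≤ q ^ 6 := Nat.pow_le_pow_right (by omega) (by norm_num)
  have hE := exact_tE6_18 (F := K) hq hK (N := q ^ 6 - q ^ 3 + 1) (by push_cast [Nat.cast_sub hle]; ring)
  have h8 : 8 ≤ q ^ 3 := by
    calc 8 = 2 ^ 3 := by norm_num
      _ ≤ q ^ 3 := Nat.pow_le_pow_left hq2 3
  have h6 : q ^ 6 = q ^ 3 * q ^ 3 := by ring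
  have h57 : 57 ≤ q ^ 6 - q ^ 3 + 1 := by
    have : 8 * q ^ 3 ≤ q ^ 3 * q ^ 3 := Nat.mul_le_mul_right _ h8
    omega
  have hg : Nat.gcd 3 (q + 1) ≤ 3 := Nat.le_of_dvd (by norm_num) (Nat.gcd_dvd_left _ _)
  have hg0 : 0 < Nat.gcd 3 (q + 1) := Nat.gcd_pos_of_pos_left _ (by norm_num)
  refine row_of_exact (b := q * (q ^ 6 - q ^ 3 + 1) * (q ^ 4 + 1)) hE ?_
    (deg_of_rep hna (Cfsg.Agent.S2341.result q hq hK)) ?_
  · calc 1 < 57 / 3 := by norm_num
      _ ≤ (q ^ 6 - q ^ 3 + 1) / 3 := Nat.div_le_div_right h57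
      _ ≤ _ := Nat.div_le_div_left hg hg0
  · set n := q ^ 6 - q ^ 3 + 1 with hn
    have h1 : n / Nat.gcd 3 (q + 1) ≤ n := Nat.div_le_self _ _
    have h2 : n ≤ q ^ 6 := by omega
    calc (n / Nat.gcd 3 (q + 1)) ^ 2 * (n / Nat.gcd 3 (q + 1) - 1) ≤ n ^ 2 * n :=
          Nat.mul_le_mul (Nat.pow_le_pow_left h1 2) ((Nat.sub_le _ _).trans h1)
      _ ≤ n ^ 2 * q ^ 6 := Nat.mul_le_mul_left _ h2
      _ ≤ n ^ 2 * (q * (q ^ 4 + 1)) ^ 2 := by
          refine Nat.mul_le_mul_left _ ?_
          calc q ^ 6 = (q ^ 3) ^ 2 := by ring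
            _ ≤ (q * (q ^ 4 + 1)) ^ 2 := by
                refine Nat.pow_le_pow_left ?_ 2
                nlinarith only [_root_.sq_nonneg (↑q : ℤ), _root_.Nat.cast_nonneg (α := ℤ) (q), _root_.mul_self_nonneg (↑q ^ 3 : ℤ)]
      _ = (q * n * (q ^ 4 + 1)) ^ 2 := by ring

end Cfsg.Agent.H352.Conj
end

-- part: H759/Conj/RowG2
section
/-!
# S4792: the row `G₂(q)` (helper759, task 3783)
-/

set_option autoImplicit false

open Cfsg

namespace Cfsg.Agent.H759.Conj

open Cfsg.Agent.Characters.Core Cfsg.Agent.H430.Conj Cfsg.Agent.H129.CycT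
open Subgroup Cfsg.Agent.M23Order.Base

universe u

section

variable {G : Type u} [Group G] [Finite G]

/-- all elements of order `p`, `|G|_p = p` -/
theorem card_cent_of_exact {p : ℕ} (hp : p.Prime) (h : CycExact G p) (hdd : ¬ p ^ 2 ∣ Nat.card G) {y : G}
    (hy : orderOf y = p) : Nat.card (centralizer ({y} : Set G)) = p := by
  classical
  have hpF : Fact p.Prime := ⟨hp⟩
  obtain ⟨T, -, hT, hc⟩ := h
  have hTp : IsPGroup p T := IsPGroup.of_card (n := 1) (by rw [hT, pow_one])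
  obtain ⟨P, hP⟩ := hTp.exists_le_sylow
  have hd : p ∣ Nat.card G := hy ▸ _root_.orderOf_dvd_natCard y
  have hPc : Nat.card P = p := by
    have h1 : Nat.card P = p ^ (Nat.card G).factorization p := P.card_eq_multiplicity
    have h3 : (Nat.card G).factorization p = 1 := by
      apply le_antisymm
      · by_contra hlt
        apply hdd
        exact (hp.pow_dvd_iff_le_factorization Nat.card_pos.ne').2 (by omega)
      · exact (hp.dvd_iff_one_le_factorization Nat.card_pos.ne').1 hd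
    rw [h1, h3, pow_one]
  have hPT : T = (P : Subgroup G) := Subgroup.eq_of_le_of_card_ge hP (by rw [hPc, hT])
  have hz : IsPGroup p (zpowers y) := IsPGroup.of_card (n := 1) (by rw [Nat.card_zpowers, hy, pow_one])
  obtain ⟨Q, hQ⟩ := hz.exists_le_sylow
  obtain ⟨g, hg⟩ := MulAction.exists_smul_eq G Q P
  have h1 : g * y * g⁻¹ ∈ (P : Subgroup G) := by
    rw [← hg, Sylow.coe_subgroup_smul]
    exact Subgroup.smul_mem_pointwise_smul y (MulAut.conj g) _ (hQ (mem_zpowers y))
  rw [← hPT] at h1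
  have h2 : g * y * g⁻¹ ≠ 1 := by
    intro h3
    have h4 : y = 1 := by
      calc y = g⁻¹ * (g * y * g⁻¹) * g := by group
        _ = 1 := by rw [h3]; group
    rw [h4, orderOf_one] at hy
    exact hp.one_lt.ne hy
  have h3 := hc _ h1 h2
  rw [← hT, ← h3]
  refine Nat.card_congr ⟨fun x => ⟨g * x * g⁻¹, ?_⟩, fun x => ⟨g⁻¹ * x * g, ?_⟩, fun x => ?_, fun x => ?_⟩
  · have h4 := mem_centralizer_singleton_iff.1 x.2
    rw [mem_centralizer_singleton_iff]
    calc g * (x : G) * g⁻¹ * (g * y * g⁻¹) = g * (x * y) * g⁻¹ := by group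
      _ = g * (y * x) * g⁻¹ := by rw [h4]
      _ = g * y * g⁻¹ * (g * x * g⁻¹) := by group
  · have h4 := mem_centralizer_singleton_iff.1 x.2
    rw [mem_centralizer_singleton_iff]
    calc g⁻¹ * (x : G) * g * y = g⁻¹ * (x * (g * y * g⁻¹)) * g := by group
      _ = g⁻¹ * ((g * y * g⁻¹) * x) * g := by rw [h4]
      _ = y * (g⁻¹ * x * g) := by group
  · apply Subtype.ext
    show g⁻¹ * (g * (x : G) * g⁻¹) * g = x
    group
  · apply Subtype.ext
    show g * (g⁻¹ * (x : G) * g) * g⁻¹ = x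
    group

/-- Tool M for an exact torus -/
theorem row_of_exact' [IsSimpleGroup G] {m w : ℕ} (h : CycExact G m) (hm : 1 < m) (hw : Nat.card G / m % m = w)
    (hd : ∀ (χ : G → ℂ) (d : ℕ), IsIrrCharacter G χ → χ ≠ 1 → χ 1 = d →
      (∀ n : ℕ, n ^ 2 < m → d ≠ w * n) ∧ ∀ k : ℕ, k ^ 2 * (m - 1) < w * m → d ≠ k * (m - 1)) : Row G := by
  obtain ⟨T, hT0, hT, hc⟩ := h
  have hT1 : T ≠ ⊥ := by
    rintro rfl
    rw [Subgroup.card_bot] at hT
    omega
  obtain ⟨w', h1, -, -, h4⟩ := card_normalizer hT1 hc hT0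
  have h5 : w' = w := by rw [← h4, hT, hw]
  subst h5
  exact row_of_cc' hT1 hc h1 (by rw [hT]; exact hd)

end

section

variable {F : Type} [Field F] [Fintype F]

theorem exists_elt (h3 : 3 ≤ Fintype.card F) : ∃ a : F, a ≠ 0 ∧ a ≠ 1 := by
  classical
  by_contra hcon
  push Not at hcon
  have h1 : (Finset.univ : Finset F) ⊆ {0, 1} := by
    intro a _
    by_cases h : a = 0
    · rw [h]; simp only [_root_.Finset.mem_insert, _root_.Finset.mem_singleton, _root_.zero_ne_one, _root_.or_false]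
    · rw [hcon a h]; simp only [_root_.Finset.mem_insert, _root_.one_ne_zero, _root_.Finset.mem_singleton, _root_.or_true]
  have h2 := Finset.card_le_card h1
  rw [Finset.card_univ] at h2
  have h3' : ({0, 1} : Finset F).card ≤ 2 := Finset.card_le_two
  omega

/-- `G₂(q)` -/
theorem row_G2 (h3 : 3 ≤ Fintype.card F) : Row ↥(Cfsg.Lie.chevG2.group F) := by
  classical
  obtain ⟨hs, hna⟩ := Cfsg.Agent.S1055.result (exists_elt h3)
  have hcard := Cfsg.Agent.S1059.result (F := F) rfl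
  have hmin := Cfsg.Agent.H120.CycExc.minDeg_G2 F
  have hdeg := fun k ρ hρ hk => Cfsg.Agent.S2338.result (F := F) k ρ hρ hk
  set q := Fintype.card F with hq
  have hodd : (q ^ 2 - q + 1) = q * (q - 1) + 1 := by
    rw [Nat.mul_sub, mul_one, sq]
  have hlt : q ≤ q ^ 2 := Nat.le_self_pow (by norm_num) q
  have hcast : ((q ^ 2 - q + 1 : ℕ) : ℤ) = 1 - (q : ℤ) + (q : ℤ) ^ 2 := by
    push_cast [Nat.cast_sub hlt]
    ring
  rcases (by (clear * -; omega) : q % 3 = 1 ∨ q % 3 = 2 ∨ q % 3 = 0) with hm | hm | hm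
  · -- `q ≡ 1`
    have h3N : ¬ 3 ∣ q ^ 2 - q + 1 := by
      intro h
      have h1 : ((3 : ℕ) : ℤ) ∣ ((q ^ 2 - q + 1 : ℕ) : ℤ) := Int.natCast_dvd_natCast.2 h
      rw [hcast] at h1
      obtain ⟨k, hk⟩ : ∃ k : ℤ, (q : ℤ) = 3 * k + 1 := ⟨(q / 3 : ℕ), by omega⟩
      rw [hk] at h1
      obtain ⟨c, hc⟩ := h1
      have : (3 : ℤ) * (c - 3 * k ^ 2 - k) = 1 := by push_cast at hc; linarith only [hc]
      omega
    have hE := exact_G2_6 (F := F) hq.symm hcast h3N
    by_cases h4 : q = 4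
    · -- `q = 4`
      have hp13 : Nat.Prime 13 := by norm_num
      have hpF : Fact (Nat.Prime 13) := ⟨hp13⟩
      rw [h4] at hE hcard hmin
      replace hE : CycExact ↥(Cfsg.Lie.chevG2.group F) 13 := hE
      replace hcard : Nat.card ↥(Cfsg.Lie.chevG2.group F) = 251596800 := hcard.trans (by norm_num)
      have hdd : ¬ 13 ^ 2 ∣ Nat.card ↥(Cfsg.Lie.chevG2.group F) := by rw [hcard]; norm_num
      obtain ⟨P, hP, ⟨D⟩⟩ := H417.BlockCount.exists_SC (G := ↥(Cfsg.Lie.chevG2.group F)) 13 (by norm_num)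
        (by rw [hcard]; norm_num) hdd (fun y hy => card_cent_of_exact hp13 hE hdd hy) (e := 6) (t := 2)
        (by rw [hcard]) (by norm_num)
      refine row_of_exact' (w := 6) hE (by norm_num) (by rw [hcard]) fun χ d h5 h6 h7 => ?_
      have h8 : 15 ≤ d := Cfsg.Agent.H352.Conj.deg_of_rep hna (fun k ρ hρ hk => hmin.1.irr k ρ hρ hk) χ d h5 h6 h7
      have h9 := H417.BlockCount.mod_cases D (by norm_num) (by norm_num) (by norm_num) ⟨χ, h5⟩
      rw [dg_of_eq h7] at h9
      refine ⟨fun n hn => ?_, fun k hk => ?_⟩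
      · have : n ≤ 3 := by nlinarith only [hn]
        interval_cases n <;> omega
      · have : k ≤ 2 := by nlinarith only [hk]
        interval_cases k <;> omega
    · have h7 : 7 ≤ q := by omega
      refine Cfsg.Agent.H352.Conj.row_of_exact (b := q ^ 3 + 1) hE ?_
        (Cfsg.Agent.H352.Conj.deg_of_rep hna fun k ρ hρ hk => (hdeg k ρ hρ hk).1 hm (by omega)) ?_
      · have : 7 ≤ q ^ 2 - q + 1 := by
          rw [hodd]
          linarith only [Nat.mul_le_mul h7 (show 1 ≤ q - 1 by omega)]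
        omega
      · have h1 : q ^ 2 - q + 1 ≤ q ^ 2 := by (clear * - hlt h7; omega)
        calc (q ^ 2 - q + 1) ^ 2 * (q ^ 2 - q + 1 - 1) ≤ (q ^ 2) ^ 2 * q ^ 2 :=
              Nat.mul_le_mul (Nat.pow_le_pow_left h1 2) ((Nat.sub_le _ _).trans h1)
          _ = (q ^ 3) ^ 2 := by ring
          _ ≤ (q ^ 3 + 1) ^ 2 := Nat.pow_le_pow_left (Nat.le_succ _) 2
  · -- `q ≡ 2`
    have h5 : 5 ≤ q := by omega
    obtain ⟨N, hN⟩ : ∃ N, N = q ^ 2 + q + 1 := ⟨_, rfl⟩
    have h3N : ¬ 3 ∣ N := by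
      obtain ⟨k, hk⟩ : ∃ k : ℕ, q = 3 * k + 2 := ⟨q / 3, by omega⟩
      rintro ⟨c, hc⟩
      rw [hN, hk] at hc
      ring_nf at hc
      omega
    have hE := exact_G2_3 (F := F) hq.symm (N := N) (by rw [hN]; push_cast; ring) h3N
    refine row_of_exact' (w := 6) hE (by rw [hN]; linarith only [hlt, h5]) ?_ fun χ d h6 h7 h8 => ?_
    · -- the order
      rw [hcard]
      obtain ⟨a, ha⟩ : ∃ a, q = a + 5 := ⟨q - 5, by (clear * - h3 hm; omega)⟩
      have e1 : q ^ 2 - 1 = (a + 4) * (a + 6) := by rw [ha, Nat.sub_eq_iff_eq_add (by nlinarith only [_root_.Nat.cast_nonneg (α := ℤ) (a)])]; ring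
      have e2 : q ^ 6 - 1 = N * ((a + 4) * (q ^ 3 + 1)) := by
        rw [hN, ha, Nat.sub_eq_iff_eq_add (Nat.one_le_pow _ _ (by omega))]; ring
      have e3 : q ^ 6 * (q ^ 2 - 1) * (q ^ 6 - 1) / N = q ^ 6 * (q ^ 2 - 1) * ((a + 4) * (q ^ 3 + 1)) := by
        rw [e2, show q ^ 6 * (q ^ 2 - 1) * (N * ((a + 4) * (q ^ 3 + 1))) =
          q ^ 6 * (q ^ 2 - 1) * ((a + 4) * (q ^ 3 + 1)) * N by ring]
        exact Nat.mul_div_cancel _ (by omega)
      rw [e3, e1]
      have e4 : q ^ 6 * ((a + 4) * (a + 6)) * ((a + 4) * (q ^ 3 + 1)) ≡ 6 [MOD N] := by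
        have hq3 : (q : ZMod N) ^ 2 + q + 1 = 0 := by
          have : ((N : ℕ) : ZMod N) = 0 := ZMod.natCast_self N
          rw [hN] at this ⊢
          exact_mod_cast this
        rw [← ZMod.natCast_eq_natCast_iff]
        have ha' : (a : ZMod N) = q - 5 := by rw [ha]; push_cast; ring
        push_cast
        rw [ha']
        have h1 : (q : ZMod N) ^ 3 = 1 := by linear_combination ((q : ZMod N) - 1) * hq3
        have h2 : (q : ZMod N) ^ 6 = 1 := by
          calc (q : ZMod N) ^ 6 = ((q : ZMod N) ^ 3) ^ 2 := by ring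
            _ = 1 := by rw [h1]; ring
        rw [h1, h2]
        linear_combination (2 * (q : ZMod N) - 4) * hq3
      have h6N : 6 < N := by rw [hN]; linarith only [hlt, h5]
      rw [Nat.ModEq, Nat.mod_eq_of_lt h6N] at e4
      exact e4
    · have h9 : q ^ 3 - 1 ≤ d := Cfsg.Agent.H352.Conj.deg_of_rep hna
        (fun k ρ hρ hk => (hdeg k ρ hρ hk).2.1 hm (by omega)) χ d h6 h7 h8
      have h10 : 5 * q ^ 2 ≤ q ^ 3 := by
        rw [pow_succ q 2, mul_comm (q ^ 2)]
        exact Nat.mul_le_mul_right _ h5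
      have h11 : 5 * q ≤ q ^ 2 := by rw [sq]; exact Nat.mul_le_mul_right _ h5
      refine ⟨fun n hn => ?_, fun k hk => ?_⟩
      · have h12 : n ≤ q := by
          by_contra hcon
          have : q + 1 ≤ n := by omega
          have := Nat.pow_le_pow_left this 2
          rw [hN] at hn
          linarith only [hn, this]
        (clear * - hm h9 h10 h11 h12; omega)
      · have h12 : k ≤ 2 := by
          by_contra hcon
          have : 3 ≤ k := by omega
          have h13 := Nat.pow_le_pow_left this 2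
          have h14 := Nat.mul_le_mul_right (N - 1) h13
          have : 3 < N := by rw [hN]; linarith only [h5, h11]
          omega
        have h13 : k * (N - 1) ≤ 2 * (N - 1) := Nat.mul_le_mul_right _ h12
        have h14 : N - 1 = q ^ 2 + q := by (clear * - hN; omega)
        (clear * - hm h9 h10 h11 h13 h14; omega)
  · -- `q ≡ 0`
    have h3N : ¬ 3 ∣ q ^ 2 - q + 1 := by
      intro h
      have h1 : ((3 : ℕ) : ℤ) ∣ ((q ^ 2 - q + 1 : ℕ) : ℤ) := Int.natCast_dvd_natCast.2 h
      rw [hcast] at h1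
      obtain ⟨k, hk⟩ : ∃ k : ℤ, (q : ℤ) = 3 * k := ⟨(q / 3 : ℕ), by omega⟩
      rw [hk] at h1
      obtain ⟨c, hc⟩ := h1
      have : (3 : ℤ) * (c - 3 * k ^ 2 + k) = 1 := by push_cast at hc; linarith only [hc]
      omega
    have hE := exact_G2_6 (F := F) hq.symm hcast h3N
    by_cases h4 : q = 3
    · -- `q = 3`
      have hp7 : Nat.Prime 7 := by norm_num
      have hpF : Fact (Nat.Prime 7) := ⟨hp7⟩
      rw [h4] at hE hcard hmin
      replace hE : CycExact ↥(Cfsg.Lie.chevG2.group F) 7 := hE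
      replace hcard : Nat.card ↥(Cfsg.Lie.chevG2.group F) = 4245696 := hcard.trans (by norm_num)
      have hdd : ¬ 7 ^ 2 ∣ Nat.card ↥(Cfsg.Lie.chevG2.group F) := by rw [hcard]; norm_num
      obtain ⟨P, hP, ⟨D⟩⟩ := H417.BlockCount.exists_SC (G := ↥(Cfsg.Lie.chevG2.group F)) 7 (by norm_num)
        (by rw [hcard]; norm_num) hdd (fun y hy => card_cent_of_exact hp7 hE hdd hy) (e := 6) (t := 1)
        (by rw [hcard]) (by norm_num)
      refine row_of_exact' (w := 6) hE (by norm_num) (by rw [hcard]) fun χ d h5 h6 h7 => ?_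
      have h8 : 12 ≤ d := Cfsg.Agent.H352.Conj.deg_of_rep hna
        (fun k ρ hρ hk => (hmin.2 (by norm_num) (by norm_num)).irr k ρ hρ hk) χ d h5 h6 h7
      have h9 := H417.BlockCount.mod_cases D (by norm_num) (by norm_num) (by norm_num) ⟨χ, h5⟩
      rw [dg_of_eq h7] at h9
      refine ⟨fun n hn => ?_, fun k hk => ?_⟩
      · have : n ≤ 2 := by nlinarith only [hn]
        interval_cases n <;> omega
      · have : k ≤ 2 := by nlinarith only [hk]
        interval_cases k <;> omega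
    · have h7 : 6 ≤ q := by omega
      refine Cfsg.Agent.H352.Conj.row_of_exact (b := q ^ 4 + q ^ 2 + 1) hE ?_
        (Cfsg.Agent.H352.Conj.deg_of_rep hna fun k ρ hρ hk => (hdeg k ρ hρ hk).2.2 hm (by omega)) ?_
      · have : 6 ≤ q ^ 2 - q + 1 := by
          rw [hodd]
          linarith only [Nat.mul_le_mul h7 (show 1 ≤ q - 1 by omega)]
        omega
      · have h1 : q ^ 2 - q + 1 ≤ q ^ 2 := by (clear * - hlt h7; omega)
        calc (q ^ 2 - q + 1) ^ 2 * (q ^ 2 - q + 1 - 1) ≤ (q ^ 2) ^ 2 * q ^ 2 :=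
              Nat.mul_le_mul (Nat.pow_le_pow_left h1 2) ((Nat.sub_le _ _).trans h1)
          _ = (q ^ 3) ^ 2 := by ring
          _ ≤ (q ^ 4) ^ 2 := Nat.pow_le_pow_left (Nat.pow_le_pow_right (by omega) (by norm_num)) 2
          _ ≤ (q ^ 4 + q ^ 2 + 1) ^ 2 := Nat.pow_le_pow_left (by omega) 2

end

/-- **the row `G₂(q)`** -/
theorem row_g2 {S : Type*} [Group S] [Finite S] (h : Cfsg.Lie.IsoChevG2 S) (_hs : IsSimpleGroup S) : Row S := by
  obtain ⟨F, _, _, h3, ⟨e⟩⟩ := h
  exact Row.of_equiv e.symm (row_G2 h3)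

end Cfsg.Agent.H759.Conj
end

-- part: H136/Conj/CC
section
/-!
# The conjugation character: CC-subgroups (helper136, S4792)

* `row_of_cc` : a CC-subgroup `C` of order `t` and `t² (t - 1) ≤ d²` for the degrees `d` of the nontrivial irreducible
  characters;
* `row_of_abelian` : `x ≠ 1`, the centralizers of the elements of prime order of `C_G(x)` are abelian;
* `row_of_minDeg` : the same for simple groups with `MinDeg G d`, `t² (t - 1) ≤ d²`, `|C_G(x)| ≤ t`.
-/

set_option autoImplicit false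

open Cfsg
open scoped ComplexConjugate

namespace Cfsg.Agent.H136.Conj

open Cfsg.Agent.Characters.Core Cfsg.Agent.H430.Conj Cfsg.Agent.SmallSimple.SelfCentSum Cfsg.Agent.H514.DP

universe u

theorem norm_sq_le {G : Type u} [Group G] [Finite G] {χ : G → ℂ} (hχ : IsIrrCharacter G χ) (h1 : χ ≠ 1) (x : G) :
    ‖χ x‖ ^ 2 + 1 ≤ Nat.card (Subgroup.centralizer ({x} : Set G)) := by
  classical
  have := finite_irr (G := G)
  have := Fintype.ofFinite (IrrCharacter G)
  rw [← sum_norm_sq x]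
  have ht : IsIrrCharacter G (1 : G → ℂ) := isIrr_one
  have hne : (⟨χ, hχ⟩ : IrrCharacter G) ≠ ⟨1, ht⟩ := fun h => h1 (congrArg Subtype.val h)
  have h2 : (∑ ψ ∈ ({⟨χ, hχ⟩, ⟨1, ht⟩} : Finset (IrrCharacter G)), ‖(ψ : G → ℂ) x‖ ^ 2 : ℝ) ≤
      ∑ ψ : IrrCharacter G, ‖(ψ : G → ℂ) x‖ ^ 2 :=
    Finset.sum_le_sum_of_subset_of_nonneg (Finset.subset_univ _) fun _ _ _ => by positivity
  rw [Finset.sum_pair hne] at h2
  simpa only [_root_.ge_iff_le, _root_.Pi.one_apply, _root_.NormOneClass.norm_one, _root_.one_pow] using h2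

/-- **Tool M, basic form.** -/
theorem row_of_cc {G : Type u} [Group G] [Finite G] {C : Subgroup G} (hC1 : C ≠ ⊥)
    (hC : ∀ c ∈ C, c ≠ 1 → Subgroup.centralizer {c} = C)
    (hd : ∀ (χ : G → ℂ) (d : ℕ), IsIrrCharacter G χ → χ ≠ 1 → χ 1 = d →
      (Nat.card C) ^ 2 * (Nat.card C - 1) ≤ d ^ 2) : Row G := by
  classical
  intro χ hχ
  obtain ⟨x, hx, hx1⟩ := C.bot_or_exists_ne_one.resolve_left hC1
  refine ⟨x, ?_⟩
  rw [hC x hx hx1]
  by_cases h1 : χ = 1
  · rw [h1]
    exact hasFix_one C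
  intro h0
  obtain ⟨d, -, hd1⟩ := isIrr_apply_one hχ
  have hdd := hd χ d hχ h1 hd1
  have := Fintype.ofFinite C
  have ht : 2 ≤ Nat.card C := by
    have : Nontrivial C := (Subgroup.nontrivial_iff_ne_bot C).2 hC1
    exact Finite.one_lt_card
  set t := Nat.card C with htd
  rw [finsum_eq_sum_of_fintype, ← Finset.add_sum_erase _ _ (Finset.mem_univ (1 : C))] at h0
  have h2 : ‖χ 1‖ ≤ ∑ c ∈ Finset.univ.erase (1 : C), ‖χ c‖ := by
    have h3 : χ 1 = - ∑ c ∈ Finset.univ.erase (1 : C), χ c := by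
      rw [OneMemClass.coe_one] at h0
      exact eq_neg_of_add_eq_zero_left h0
    rw [h3, norm_neg]
    exact norm_sum_le _ _
  have h4 : ∀ c ∈ Finset.univ.erase (1 : C), ‖χ c‖ ≤ Real.sqrt (t - 1) := by
    intro c hc
    have hc1 : (c : G) ≠ 1 := fun h => (Finset.ne_of_mem_erase hc) (Subtype.ext h)
    have h5 := norm_sq_le hχ h1 (c : G)
    rw [hC c c.2 hc1] at h5
    exact Real.le_sqrt_of_sq_le (by linarith only [h5])
  have h6 := h2.trans (Finset.sum_le_card_nsmul _ _ _ h4)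
  rw [Finset.card_erase_of_mem (Finset.mem_univ _), Finset.card_univ, ← Nat.card_eq_fintype_card, ← htd, hd1,
    Complex.norm_natCast, nsmul_eq_mul, Nat.cast_sub (by omega), Nat.cast_one] at h6
  have ht' : (2 : ℝ) ≤ t := by exact_mod_cast ht
  have h7 : (d : ℝ) ^ 2 ≤ (t - 1) ^ 2 * (t - 1) := by
    calc (d : ℝ) ^ 2 ≤ (((t : ℝ) - 1) * Real.sqrt ((t : ℝ) - 1)) ^ 2 := by gcongr
      _ = ((t : ℝ) - 1) ^ 2 * ((t : ℝ) - 1) := by rw [mul_pow, Real.sq_sqrt (by linarith only [ht'])]
  have h8 : (t : ℝ) ^ 2 * (t - 1) ≤ (d : ℝ) ^ 2 := by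
    have : (((t ^ 2 * (t - 1) : ℕ)) : ℝ) ≤ ((d ^ 2 : ℕ) : ℝ) := by exact_mod_cast hdd
    rw [Nat.cast_mul, Nat.cast_sub (by omega)] at this
    push_cast at this
    exact this
  linarith only [ht', h7, h8, _root_.sq_nonneg (↑t - 1 : ℝ)]

/-- `x ≠ 1` and the centralizers of the elements of prime order of `C_G(x)` are abelian: then `C_G(x)` is a
CC-subgroup. -/
theorem cc_of_abelian {G : Type u} [Group G] [Finite G] {x : G} (hx : x ≠ 1)
    (hC : ∀ y : G, (orderOf y).Prime → x * y = y * x → ∀ a b : G, a * y = y * a → b * y = y * b → a * b = b * a) :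
    ∀ c ∈ Subgroup.centralizer ({x} : Set G), c ≠ 1 →
      Subgroup.centralizer {c} = Subgroup.centralizer ({x} : Set G) := by
  have key : ∀ c : G, c ≠ 1 → ∃ y : G, (orderOf y).Prime ∧ ∀ a : G, a * c = c * a → a * y = y * a := by
    intro c hc
    obtain ⟨p, hp, hpc⟩ := Nat.exists_prime_and_dvd (n := orderOf c) (fun h => hc (orderOf_eq_one_iff.1 h))
    refine ⟨c ^ (orderOf c / p), ?_, fun a ha => ?_⟩
    · rw [orderOf_pow_of_dvd (Nat.div_pos (Nat.le_of_dvd (orderOf_pos c) hpc) hp.pos).ne' (Nat.div_dvd_of_dvd hpc),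
        Nat.div_div_self hpc (orderOf_pos c).ne']
      exact hp
    · exact (show Commute a c from ha).pow_right _
  obtain ⟨y, hy, hxy⟩ := key x hx
  intro c hc hc1
  rw [Subgroup.mem_centralizer_singleton_iff] at hc
  obtain ⟨z, hz, hcz⟩ := key c hc1
  have hxz : x * z = z * x := hcz x hc.symm
  ext g
  rw [Subgroup.mem_centralizer_singleton_iff, Subgroup.mem_centralizer_singleton_iff]
  constructor
  · intro hg
    exact hC z hz hxz g x (hcz g hg) hxz
  · intro hg
    exact hC y hy (hxy x rfl) g c (hxy g hg) (hxy c hc)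

theorem row_of_abelian {G : Type u} [Group G] [Finite G] {x : G} (hx : x ≠ 1)
    (hC : ∀ y : G, (orderOf y).Prime → x * y = y * x → ∀ a b : G, a * y = y * a → b * y = y * b → a * b = b * a)
    (hd : ∀ (χ : G → ℂ) (d : ℕ), IsIrrCharacter G χ → χ ≠ 1 → χ 1 = d →
      (Nat.card (Subgroup.centralizer ({x} : Set G))) ^ 2 * (Nat.card (Subgroup.centralizer ({x} : Set G)) - 1) ≤ d ^ 2) :
    Row G := by
  refine row_of_cc (C := Subgroup.centralizer ({x} : Set G)) (fun h => hx ?_) (cc_of_abelian hx hC) hd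
  have h1 : x ∈ Subgroup.centralizer ({x} : Set G) := by
    rw [Subgroup.mem_centralizer_singleton_iff]
  rw [h] at h1
  exact Subgroup.mem_bot.1 h1

/-- **The form for the exceptional groups.** -/
theorem row_of_minDeg {G : Type u} [Group G] [Finite G] [IsSimpleGroup G] (hG : ¬ (Nat.card G).Prime) {x : G}
    (hx : x ≠ 1)
    (hC : ∀ y : G, (orderOf y).Prime → x * y = y * x → ∀ a b : G, a * y = y * a → b * y = y * b → a * b = b * a)
    {t d : ℕ} (ht : Nat.card (Subgroup.centralizer ({x} : Set G)) ≤ t) (hd : MinDeg G d)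
    (h : t ^ 2 * (t - 1) ≤ d ^ 2) : Row G := by
  refine row_of_abelian hx hC fun χ n hχ h1 hn => ?_
  obtain ⟨m, hm, -, hm1⟩ := hd.le hχ fun h2 => h1 (eq_one_of_apply_one hG hχ h2)
  have e : m = n := by exact_mod_cast hm1.symm.trans hn
  subst e
  calc _ ≤ t ^ 2 * (t - 1) := Nat.mul_le_mul (Nat.pow_le_pow_left ht 2) (Nat.sub_le_sub_right ht 1)
    _ ≤ d ^ 2 := h
    _ ≤ m ^ 2 := Nat.pow_le_pow_left hm 2

end Cfsg.Agent.H136.Conj
end

-- part: H267/ConjF4/Row
section
/-!
# S4792, row `F₄(q)` (helper267)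
-/

set_option autoImplicit false

namespace Cfsg.Agent.H267.ConjF4

open Cfsg Cfsg.Lie Cfsg.Agent.H378.RegFin Cfsg.Agent.BpExc.RowsUntw Cfsg.Agent.BpExc.FamInst

universe u

theorem eval_cyc12 (q : ℤ) : (Polynomial.cyclotomic 12 ℤ).eval q = q ^ 4 - q ^ 2 + 1 := by
  have h := Polynomial.cyclotomic_expand_eq_cyclotomic Nat.prime_two (show 2 ∣ 6 by norm_num) ℤ
  rw [show 6 * 2 = 12 from rfl, Polynomial.cyclotomic_six] at h
  rw [← h, Polynomial.expand_eval]
  simp only [_root_.Polynomial.eval_add, _root_.Polynomial.eval_sub, _root_.Polynomial.eval_pow, _root_.Polynomial.eval_X, _root_.Polynomial.eval_one, _root_.add_left_inj, _root_.sub_left_inj]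
  ring

theorem z2 : ∀ z : ZMod 2, z ^ 4 - z ^ 2 + 1 ≠ 0 := by decide

theorem z3 : ∀ z : ZMod 3, z ^ 2 ≠ -1 := by decide

/-- `q ^ 4 - q ^ 2 + 1`, the order -/
theorem od_of_dvd12 {q s : ℕ} (hs : s.Prime) (hq : 1 ≤ q) (h : s ∣ q ^ 4 - q ^ 2 + 1) : orderOf ((q : ℕ) : ZMod s) = 12 := by
  have : Fact s.Prime := ⟨hs⟩
  have hle : q ^ 2 ≤ q ^ 4 := Nat.pow_le_pow_right hq (by norm_num)
  have h0 : (q : ZMod s) ^ 4 - (q : ZMod s) ^ 2 + 1 = 0 := by
    have h1 := (ZMod.natCast_eq_zero_iff _ _).2 h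
    push_cast [Nat.cast_sub hle] at h1
    exact h1
  set y : ZMod s := (q : ZMod s)
  have h6 : y ^ 6 = -1 := by linear_combination (y ^ 2 + 1) * h0
  have h12 : y ^ 12 = 1 := by linear_combination (y ^ 6 - 1) * h6
  have h2 : (2 : ZMod s) ≠ 0 := by
    intro h2
    have h3 : y ^ 6 = 1 := by linear_combination h6 - h2
    -- characteristic 2
    have hs2 : s = 2 := by
      have h4 : ((2 : ℕ) : ZMod s) = 0 := by exact_mod_cast h2
      exact (Nat.prime_dvd_prime_iff_eq hs Nat.prime_two).1 ((ZMod.natCast_eq_zero_iff _ _).1 h4)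
    subst hs2
    exact z2 y h0
  have hd : orderOf y ∣ 12 := orderOf_dvd_of_pow_eq_one h12
  have hn6 : ¬ orderOf y ∣ 6 := by
    intro h3
    have h4 := orderOf_dvd_iff_pow_eq_one.1 h3
    rw [h6] at h4
    apply h2
    linear_combination -h4
  have hn4 : ¬ orderOf y ∣ 4 := by
    intro h3
    have h4 := orderOf_dvd_iff_pow_eq_one.1 h3
    have h5 : y ^ 2 = -1 := by linear_combination h6 - y ^ 2 * h4
    have h7 : (3 : ZMod s) = 0 := by linear_combination h0 - h4 + h5
    have hs3 : s = 3 := by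
      have h4 : ((3 : ℕ) : ZMod s) = 0 := by exact_mod_cast h7
      exact (Nat.prime_dvd_prime_iff_eq hs Nat.prime_three).1 ((ZMod.natCast_eq_zero_iff _ _).1 h4)
    subst hs3
    exact z3 y h5
  have h13 : orderOf y ≤ 12 := Nat.le_of_dvd (by norm_num) hd
  interval_cases h14 : orderOf y <;> (clear * - this hd hn6 hn4; omega)

theorem row_chevF4 (F : Type u) [Field F] [Fintype F] : H430.Conj.Row ↥(chevF4.group F) := by
  classical
  obtain ⟨hsimp, hna⟩ := Cfsg.Agent.S1054.result (F := F) chevF4 (by simp)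
  set q := Nat.card F with hq
  have hqF : Fintype.card F = q := by rw [hq, Nat.card_eq_fintype_card]
  have hq2 : 2 ≤ q := by rw [← hqF]; exact Fintype.one_lt_card
  have hle : q ^ 2 ≤ q ^ 4 := Nat.pow_le_pow_right (by omega) (by norm_num)
  have h4 : 4 ≤ q ^ 2 := by nlinarith only [hq2]
  have hlt : q ^ 2 < q ^ 4 := Nat.pow_lt_pow_right (by omega) (by norm_num)
  -- a prime divisor of `q ^ 4 - q ^ 2 + 1`
  obtain ⟨s, hs, hsd⟩ := Nat.exists_prime_and_dvd (n := q ^ 4 - q ^ 2 + 1) (by omega)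
  have hcard : q ^ 4 - q ^ 2 + 1 ∣ Nat.card ↥(chevF4.group F) := by
    rw [S1062.result (F := F) hqF]
    refine Dvd.dvd.mul_left ?_ _
    have h12 : 1 ≤ q ^ 12 := Nat.one_le_pow _ _ (by omega)
    refine ⟨(q ^ 2 + 1) * (q ^ 6 - 1), ?_⟩
    have h6 : 1 ≤ q ^ 6 := Nat.one_le_pow _ _ (by omega)
    zify [h12, h6, hle]
    ring
  have hfs : Fact s.Prime := ⟨hs⟩
  obtain ⟨x, hx⟩ := exists_prime_orderOf_dvd_card' s (hsd.trans hcard)
  have key : ∀ (y : ↥(chevF4.group F)) (r : ℕ), r.Prime → r ∣ q ^ 4 - q ^ 2 + 1 → orderOf y = r →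
      (∀ a b : ↥(chevF4.group F), Commute a y → Commute b y → Commute a b) ∧
      Nat.card ↥(Subgroup.centralizer {y}) ∣ q ^ 4 - q ^ 2 + 1 := by
    intro y r hr hrd hy
    have h := cent_od f4T inv_F4 one_ne_zero (F := F) (x := y) (m := 12) hr hy
      (od_of_dvd12 hr (by omega) hrd) (by decide) (by norm_num)
    refine ⟨h.1, ?_⟩
    have h5 := h.2
    rw [eval_cyc12] at h5
    have e : (((Nat.card F : ℕ) : ℤ) ^ 4 - ((Nat.card F : ℕ) : ℤ) ^ 2 + 1).natAbs = q ^ 4 - q ^ 2 + 1 := by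
      have : (((Nat.card F : ℕ) : ℤ) ^ 4 - ((Nat.card F : ℕ) : ℤ) ^ 2 + 1) = ((q ^ 4 - q ^ 2 + 1 : ℕ) : ℤ) := by
        push_cast [Nat.cast_sub hle]
        ring
      rw [this, Int.natAbs_natCast]
    rwa [e] at h5
  have hx1 : x ≠ 1 := fun h => by
    rw [h, orderOf_one] at hx
    exact hs.one_lt.ne hx
  obtain ⟨-, hC⟩ := key x s hs hsd hx
  have hG : ¬ (Nat.card ↥(chevF4.group F)).Prime := fun hp => hna (by
    have h1 : Fact (Nat.card ↥(chevF4.group F)).Prime := ⟨hp⟩
    have h2 : IsCyclic ↥(chevF4.group F) := isCyclic_of_prime_card (p := Nat.card ↥(chevF4.group F)) rfl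
    exact IsCyclic.isMulCommutative)
  refine H136.Conj.row_of_minDeg hG hx1 ?_ (Nat.le_of_dvd (by omega) hC) (d := q ^ 4 * (q ^ 2 - 1)) ?_ ?_
  · intro y hy hxy a b ha hb
    have hyC : y ∈ Subgroup.centralizer ({x} : Set ↥(chevF4.group F)) := by
      rw [Subgroup.mem_centralizer_singleton_iff]
      exact hxy.symm
    have h1 : orderOf y ∣ Nat.card ↥(Subgroup.centralizer ({x} : Set ↥(chevF4.group F))) := by
      have h2 := orderOf_dvd_natCard (⟨y, hyC⟩ : ↥(Subgroup.centralizer ({x} : Set ↥(chevF4.group F))))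
      rwa [Subgroup.orderOf_mk] at h2
    exact (key y _ hy (h1.trans hC) rfl).1 a b ha hb
  · intro k ρ hρ hk
    have := (minDeg_F4 F).irr k ρ hρ hk
    rwa [hqF] at this
  · -- the inequality
    obtain ⟨c, hc⟩ : ∃ c, q ^ 2 = c + 1 := ⟨q ^ 2 - 1, by omega⟩
    have hc3 : 3 ≤ c := by omega
    have e4 : q ^ 4 = (c + 1) ^ 2 := by rw [← hc]; ring
    rw [e4, hc]
    have e1 : (c + 1) ^ 2 - (c + 1) + 1 = c ^ 2 + c + 1 := by
      have : (c + 1) ^ 2 = c ^ 2 + c + (c + 1) := by ring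
      omega
    rw [e1, Nat.add_sub_cancel, Nat.add_sub_cancel]
    nlinarith only [Nat.zero_le (c ^ 5), Nat.mul_le_mul hc3 (le_refl (c ^ 3))]

/-- **S4792, row `F₄(q)`** -/
theorem row_f4 {S : Type*} [Group S] [Finite S] (_hs : IsSimpleGroup S) (h : Lie.IsoF4 S) : H430.Conj.Row S := by
  obtain ⟨F, _, _, ⟨e⟩⟩ := h
  exact H430.Conj.Row.of_equiv e.symm (row_chevF4 F)

end Cfsg.Agent.H267.ConjF4
end

-- part: H724/Conj/E7Tab
section
/-!
# Row E7 of S4792: the lattice computations (helper724)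

`w` = the product of the simple reflections `0 1 2 3 1 4 3 5` of `E7` (an element of order 9 of `W(E6)`, of characteristic
polynomial `Φ_1 Φ_9`). Each `w`-orbit on the 27 roots with last coefficient 1 spans the root lattice.

* `sr_mem` : a `w`-stable subgroup of `ℤ^7` containing one of the 27 roots is everything;
* `chi_eq_one` : a character `χ` of `ℤ^7` with `χ (w x) = χ x ^ q` and `χ β = 1` for one of the 27 roots is trivial.
-/

set_option autoImplicit false

namespace Cfsg.Agent.H724.Conj.E7Tab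

open CoxeterSystem Cfsg Cfsg.Lie Cfsg.Lie.ChevalleyDatum
open Cfsg.Agent.ChevalleyStructure Cfsg.Agent.ChevalleyStructure.Elts Cfsg.Agent.ChevalleyStructure.CoxeterGeom
  Cfsg.Agent.ChevalleyStructure.CoxeterGeomTypes Cfsg.Agent.ChevalleyStructure.NPerm
  Cfsg.Agent.ChevalleyStructure.RootVec
open Cfsg.Agent.Tits.Roots Cfsg.Agent.Tits.Core Cfsg.Agent.Nodes Cfsg.Agent.Nodes.Reps Cfsg.Agent.Nodes.BNOf
  Cfsg.Agent.Nodes.RGDChev
open Cfsg.Agent.BpExc.RowsUntw
open Cfsg.Agent.H129.WData Cfsg.Agent.H378.CycTab Cfsg.Agent.H493.PGTorus Cfsg.Agent.H378.AdjE7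
  Cfsg.Agent.H378.TorDual Cfsg.Agent.H378.TorChar

/-- the partial products of the word -/
def L9 : List (Fin 7 × Mat 7) := [
    (0, ![![0, 0, 1, 0, 0, 0, 0],
      ![0, 0, 0, 0, 1, 0, 0],
      ![1, 1, 1, 2, 1, 0, 0],
      ![-1, 0, -1, -1, -1, 0, 0],
      ![1, 0, 1, 1, 1, 1, 0],
      ![-1, -1, -1, -1, -1, -1, 0],
      ![1, 1, 1, 1, 1, 1, 1]]),
    (1, ![![1, 0, 1, 0, 0, 0, 0],
      ![0, 0, 0, 0, 1, 0, 0],
      ![0, 1, 1, 2, 1, 0, 0],
      ![0, 0, -1, -1, -1, 0, 0],
      ![0, 0, 1, 1, 1, 1, 0],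
      ![0, -1, -1, -1, -1, -1, 0],
      ![0, 1, 1, 1, 1, 1, 1]]),
    (2, ![![1, 0, 1, 0, 0, 0, 0],
      ![0, 0, 0, 0, 1, 0, 0],
      ![0, 1, 1, 2, 1, 0, 0],
      ![0, -1, -1, -1, -1, 0, 0],
      ![0, 1, 1, 1, 1, 1, 0],
      ![0, 0, -1, -1, -1, -1, 0],
      ![0, 0, 1, 1, 1, 1, 1]]),
    (3, ![![1, 0, 0, 0, 0, 0, 0],
      ![0, 0, 0, 0, 1, 0, 0],
      ![0, 1, 1, 2, 1, 0, 0],
      ![0, -1, 0, -1, -1, 0, 0],
      ![0, 1, 0, 1, 1, 1, 0],
      ![0, 0, 0, -1, -1, -1, 0],
      ![0, 0, 0, 1, 1, 1, 1]]),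
    (1, ![![1, 0, 0, 0, 0, 0, 0],
      ![0, 0, 0, 1, 1, 0, 0],
      ![0, 1, 1, 1, 1, 0, 0],
      ![0, -1, 0, -1, -1, 0, 0],
      ![0, 1, 0, 1, 1, 1, 0],
      ![0, 0, 0, 0, -1, -1, 0],
      ![0, 0, 0, 0, 1, 1, 1]]),
    (4, ![![1, 0, 0, 0, 0, 0, 0],
      ![0, 1, 0, 1, 1, 0, 0],
      ![0, 0, 1, 1, 1, 0, 0],
      ![0, 0, 0, -1, -1, 0, 0],
      ![0, 0, 0, 1, 1, 1, 0],
      ![0, 0, 0, 0, -1, -1, 0],
      ![0, 0, 0, 0, 1, 1, 1]]),
    (3, ![![1, 0, 0, 0, 0, 0, 0],
      ![0, 1, 0, 1, 0, 0, 0],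
      ![0, 0, 1, 1, 0, 0, 0],
      ![0, 0, 0, -1, 0, 0, 0],
      ![0, 0, 0, 1, 1, 1, 0],
      ![0, 0, 0, 0, 0, -1, 0],
      ![0, 0, 0, 0, 0, 1, 1]]),
    (5, ![![1, 0, 0, 0, 0, 0, 0],
      ![0, 1, 0, 0, 0, 0, 0],
      ![0, 0, 1, 0, 0, 0, 0],
      ![0, 0, 0, 1, 0, 0, 0],
      ![0, 0, 0, 0, 1, 1, 0],
      ![0, 0, 0, 0, 0, -1, 0],
      ![0, 0, 0, 0, 0, 1, 1]])]

/-- the matrix of `w` -/
def Th : Mat 7 := ![![0, 0, 1, 0, 0, 0, 0],
      ![0, 0, 0, 0, 1, 0, 0],
      ![1, 1, 1, 2, 1, 0, 0],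
      ![-1, 0, -1, -1, -1, 0, 0],
      ![1, 0, 1, 1, 1, 1, 0],
      ![-1, -1, -1, -1, -1, -1, 0],
      ![1, 1, 1, 1, 1, 1, 1]]

/-- the eigenvector -/
def V9 : Fin (5 + 1) → Fin 7 → ℤ := ![![1, 1, 2, 2, 1, 0, 0],
      ![1, 0, 1, 0, 0, 0, 0],
      ![0, -1, -1, -2, -1, -1, 0],
      ![0, 0, 0, -1, -1, -1, 0],
      ![0, -1, -1, -2, -2, -1, 0],
      ![-1, -2, -2, -3, -2, -1, 0]]

/-- the functional -/
def U9 : Fin 7 → ℤ := ![0, -1, 0, 1, 0, -1, 0]

/-- the orbits of the weights -/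
def Vs : Fin 3 → Mat 7 := ![
  ![![0, 0, 0, 0, 0, 0, 1],
      ![1, 1, 1, 1, 1, 1, 1],
      ![1, 1, 2, 2, 2, 1, 1],
      ![2, 2, 3, 4, 3, 2, 1],
      ![1, 2, 3, 4, 3, 2, 1],
      ![1, 2, 2, 4, 3, 2, 1],
      ![0, 1, 1, 2, 2, 2, 1]],
  ![![0, 0, 0, 0, 1, 1, 1],
      ![1, 0, 1, 1, 1, 1, 1],
      ![1, 1, 2, 2, 1, 1, 1],
      ![1, 2, 2, 3, 2, 1, 1],
      ![1, 2, 2, 3, 3, 2, 1],
      ![1, 1, 2, 3, 3, 2, 1],
      ![1, 1, 2, 3, 2, 2, 1]],
  ![![0, 0, 1, 1, 1, 1, 1],
      ![1, 1, 1, 2, 1, 1, 1],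
      ![0, 1, 1, 1, 1, 1, 1],
      ![1, 1, 1, 2, 2, 1, 1],
      ![1, 1, 2, 2, 2, 2, 1],
      ![1, 1, 2, 3, 2, 1, 1],
      ![1, 2, 2, 3, 2, 2, 1]]]

/-- the inverse matrices -/
def Bs : Fin 3 → Mat 7 := ![
  ![![0, 0, 0, 1, -1, 0, 0],
      ![-1, 2, 0, -2, 1, 1, -1],
      ![0, 0, 0, 0, 1, -1, 0],
      ![1, -1, -1, 1, 0, 0, 0],
      ![-1, 0, 2, -1, -1, 1, 0],
      ![0, 0, -1, 1, 0, -1, 1],
      ![1, 0, 0, 0, 0, 0, 0]],
  ![![-1, 2, -1, 0, 1, -1, 0],
      ![0, 0, 0, 0, 1, -1, 0],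
      ![0, -1, 2, -1, 0, 1, -1],
      ![0, 0, -1, 1, -1, 0, 1],
      ![0, 0, 0, 0, 0, 1, -1],
      ![0, 0, 0, -1, 1, -1, 1],
      ![1, 0, 0, 1, -1, 0, 0]],
  ![![-1, 1, 0, 0, 1, 0, -1],
      ![-1, 0, 1, 0, 0, 0, 0],
      ![-1, 0, 1, -1, 1, 1, -1],
      ![1, 0, -1, 0, -1, 0, 1],
      ![0, -1, 0, 1, 0, 0, 0],
      ![1, 0, -1, 0, 0, -1, 1],
      ![0, 1, 1, 0, 0, 0, -1]]]

/-- the image of a weight under `w` -/
def nx (r : ℕ) : ℕ := ([0, 0, 0, 0, 0, 0, 0, 0, 0, 0, 0, 0, 0, 0, 0, 0, 0, 0, 0, 0, 0, 0, 0, 0, 0, 0, 0, 0,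
  0, 0, 0, 0, 0, 0, 0, 0, 0, 0, 0, 0, 0, 0, 0, 0, 0, 0, 0, 0, 0, 0, 0, 0, 0, 0, 0, 0, 0, 0, 0, 0, 0, 0, 0,
  102, 0, 63, 0, 0, 98, 0, 0, 0, 65, 0, 0, 0, 0, 105, 0, 0, 0, 0, 68, 0, 0, 0, 107, 0, 0, 82, 0, 108, 72, 0,
  0, 0, 0, 0, 111, 0, 0, 0, 113, 0, 0, 86, 0, 114, 77, 0, 0, 120, 0, 125, 116, 0, 121, 89, 117, 0, 122, 91,
  118, 92, 123, 124] : List ℕ).getD r 0

/-- the distance to the first weight of the orbit -/
def dep (r : ℕ) : ℕ := ([0, 0, 0, 0, 0, 0, 0, 0, 0, 0, 0, 0, 0, 0, 0, 0, 0, 0, 0, 0, 0, 0, 0, 0, 0, 0, 0, 0,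
  0, 0, 0, 0, 0, 0, 0, 0, 0, 0, 0, 0, 0, 0, 0, 0, 0, 0, 0, 0, 0, 0, 0, 0, 0, 0, 0, 0, 0, 0, 0, 0, 0, 0, 0, 0,
  0, 1, 0, 0, 0, 0, 0, 0, 2, 0, 0, 0, 0, 0, 0, 0, 0, 0, 1, 0, 0, 0, 7, 0, 0, 2, 0, 2, 3, 0, 0, 0, 0, 0, 8, 0,
  0, 0, 8, 0, 0, 8, 0, 6, 1, 0, 0, 7, 0, 7, 5, 0, 4, 3, 4, 0, 6, 3, 5, 4, 5, 6] : List ℕ).getD r 0

theorem chain9 : ChainOK Am L9 :=
  H129.ChainF.ok H129.ChainF.i7 H129.ChainF.m7 (H129.ChainF.c7 <| H129.ChainF.c7 <| H129.ChainF.c7 <| H129.ChainF.c7 <| H129.ChainF.c7 <| H129.ChainF.c7 <| H129.ChainF.c7 <| H129.ChainF.c7 <| H129.ChainF.nil) (by decide +kernel)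

theorem eig9 : EigOK Th c9 V9 U9 :=
  H493.EigF.ok H493.EigF.t7 H493.EigF.r6 (H493.EigF.mc H493.EigF.r7 <| H493.EigF.mc H493.EigF.r7 <| H493.EigF.mc H493.EigF.r7 <| H493.EigF.mc H493.EigF.r7 <| H493.EigF.mc H493.EigF.r7 <| H493.EigF.mc H493.EigF.r7 <| H493.EigF.m0) H493.EigF.r7 (by decide +kernel)

theorem word9 : ∀ i ∈ L9.map Prod.fst, i ≠ 6 := by decide

/-- the rows of `Vs s` are the images of the first one -/
theorem vs_succ : ∀ (s : Fin 3) (i : Fin 6) (m : Fin 7), Vs s i.succ m = ∑ j, Vs s i.castSucc j * Th j m := by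
  decide +kernel

/-- the fundamental roots are combinations of the rows of `Vs s` -/
theorem bs_vs : ∀ (s : Fin 3) (j m : Fin 7), (if j = m then (1 : ℤ) else 0) = ∑ i, Bs s j i * Vs s i m := by
  decide +kernel

theorem orb_ok : ∀ r : Fin 126, rt chevE7 r 6 = 1 → (∃ s : Fin 3, ∀ i : Fin 7, rt chevE7 r i = Vs s 0 i) ∨
    (nx r < 126 ∧ dep (nx r) < dep r ∧ rt chevE7 (nx r) 6 = 1 ∧
      ∀ i : Fin 7, rt chevE7 (nx r) i = ∑ j : Fin 7, rt chevE7 r j * Th j i) := by
  decide +kernel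

/-- the last coefficient of a root is at most 1 -/
theorem last_le : ∀ r : Fin 126, rt chevE7 r 6 ≤ 1 := by decide +kernel

theorem nroots_E7 : chevE7.nroots = 126 := by decide +kernel

variable {W : Type*} [Group W] [Finite W] (cs : CoxeterSystem CoxeterMatrix.E₇ W)

/-- the element of order 9 -/
noncomputable def w9 : W := cs.wordProd (L9.map Prod.fst)

theorem rep_sr (j : Fin 7) : rep cs e7T.isCartan (w9 cs) (sr j) = Th j := chain_rep e7T cs hA chain9 j

theorem rep_apply (x : Fin 7 → ℤ) (m : Fin 7) : rep cs e7T.isCartan (w9 cs) x m = ∑ j, x j * Th j m :=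
  rep_apply_eq e7T cs (rep_sr cs) x m

/-- the case of the first root of an orbit -/
theorem sr_mem_of_first {K : AddSubgroup (Fin 7 → ℤ)} (hK : ∀ x ∈ K, rep cs e7T.isCartan (w9 cs) x ∈ K)
    {s : Fin 3} (h : Vs s 0 ∈ K) (j : Fin 7) : (sr j : Fin 7 → ℤ) ∈ K := by
  have h1 : ∀ i : Fin 7, Vs s i ∈ K := by
    intro i
    induction i using Fin.induction with
    | zero => exact h
    | succ i ih =>
      have h2 := hK _ ih
      have h3 : rep cs e7T.isCartan (w9 cs) (Vs s i.castSucc) = Vs s i.succ := by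
        funext m
        rw [rep_apply, vs_succ]
      rwa [h3] at h2
  have h2 : (sr j : Fin 7 → ℤ) = ∑ i, Bs s j i • Vs s i := by
    funext m
    rw [Finset.sum_apply]
    have h3 := bs_vs s j m
    simp only [Pi.smul_apply, smul_eq_mul]
    rw [← h3]
    by_cases hm : j = m
    · subst hm; rw [if_pos rfl, sr_self]
    · rw [if_neg hm, sr_ne (Ne.symm hm)]
  rw [h2]
  exact sum_mem fun i _ => K.zsmul_mem (h1 i) _

theorem sr_mem_aux {K : AddSubgroup (Fin 7 → ℤ)} (hK : ∀ x ∈ K, rep cs e7T.isCartan (w9 cs) x ∈ K) (n : ℕ) :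
    ∀ r : ℕ, r < 126 → dep r = n → rt chevE7 r 6 = 1 → vec chevE7 7 r ∈ K → ∀ j : Fin 7, (sr j : Fin 7 → ℤ) ∈ K := by
  induction n using Nat.strong_induction_on with
  | _ n ih =>
    intro r hr hn h6 hrK j
    rcases orb_ok ⟨r, hr⟩ h6 with ⟨s, hs⟩ | ⟨h1, h2, h3, h4⟩
    · refine sr_mem_of_first cs hK (s := s) ?_ j
      have e : vec chevE7 7 r = Vs s 0 := funext hs
      rwa [← e]
    · refine ih (dep (nx r)) (by rw [← hn]; exact h2) (nx r) h1 rfl h3 ?_ j
      have e : rep cs e7T.isCartan (w9 cs) (vec chevE7 7 r) = vec chevE7 7 (nx r) := by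
        funext i
        rw [rep_apply]
        exact (h4 i).symm
      rw [← e]
      exact hK _ hrK

/-- **A `w`-stable subgroup containing one of the 27 roots is everything.** -/
theorem sr_mem {K : AddSubgroup (Fin 7 → ℤ)} (hK : ∀ x ∈ K, rep cs e7T.isCartan (w9 cs) x ∈ K) {b : Fin 7 → ℤ}
    (hb : IsRoot cs e7T.isCartan b) (h6 : b 6 = 1) (hbK : b ∈ K) (j : Fin 7) : (sr j : Fin 7 → ℤ) ∈ K := by
  obtain ⟨r, hr, rfl⟩ := (isRoot_iff e7T cs b).1 hb
  rw [nroots_E7] at hr
  exact sr_mem_aux cs hK _ r hr rfl h6 hbK j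

theorem last_le' {b : Fin 7 → ℤ} (hb : IsRoot cs e7T.isCartan b) : b 6 ≤ 1 := by
  obtain ⟨r, hr, rfl⟩ := (isRoot_iff e7T cs b).1 hb
  rw [nroots_E7] at hr
  exact last_le ⟨r, hr⟩

universe u

/-- **A character in the kernel of `w - q` trivial on one of the 27 roots is trivial.** -/
theorem chi_eq_one {k : Type u} [Field k] {q : ℤ} {χ : Ch 7 k}
    (hχ : χ ∈ KerOf k (rep cs e7T.isCartan (w9 cs) - q • (1 : Module.End ℤ (Fin 7 → ℤ)))) {b : Fin 7 → ℤ}
    (hb : IsRoot cs e7T.isCartan b) (h6 : b 6 = 1) (h1 : χ (Multiplicative.ofAdd b) = 1) : χ = 1 := by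
  let K : AddSubgroup (Fin 7 → ℤ) :=
    { carrier := {x | χ (Multiplicative.ofAdd x) = 1}
      zero_mem' := by
        show χ (Multiplicative.ofAdd 0) = 1
        rw [ofAdd_zero, map_one]
      add_mem' := by
        intro x y hx hy
        show χ (Multiplicative.ofAdd (x + y)) = 1
        rw [ofAdd_add, map_mul]
        have hx' : χ (Multiplicative.ofAdd x) = 1 := hx
        have hy' : χ (Multiplicative.ofAdd y) = 1 := hy
        rw [hx', hy', mul_one]
      neg_mem' := by
        intro x hx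
        show χ (Multiplicative.ofAdd (-x)) = 1
        have hx' : χ (Multiplicative.ofAdd x) = 1 := hx
        rw [ofAdd_neg, map_inv, hx', inv_one] }
  have hK : ∀ x ∈ K, rep cs e7T.isCartan (w9 cs) x ∈ K := by
    intro x hx
    have hx' : χ (Multiplicative.ofAdd x) = 1 := hx
    have h2 := (mem_kerOf k).1 hχ x
    have h3 : (rep cs e7T.isCartan (w9 cs) - q • (1 : Module.End ℤ (Fin 7 → ℤ))) x =
        rep cs e7T.isCartan (w9 cs) x - q • x := rfl
    rw [h3, ofAdd_sub, map_div, ofAdd_zsmul, map_zpow, hx', one_zpow, div_one] at h2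
    exact h2
  refine ext_sr fun i => ?_
  exact sr_mem cs hK hb h6 (show b ∈ K from h1) i

end Cfsg.Agent.H724.Conj.E7Tab
end

-- part: H724/Conj/E7Rad
section
/-!
# Row E7 of S4792: the unipotent radical of the parabolic subgroup of type E6 (helper724)

`J6` the first six fundamental roots, `LL` the group generated by the root groups of the roots with last coefficient 0,
`AA` the group generated by the root groups of the roots with last coefficient 1.

* `AA_comm` : `AA` is commutative;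
* `LL_conj`, `TT_conj` : `AA` is normalised by `LL` and by the torus;
* `exists_root_of_comm` : if `s ∈ T` commutes with `1 ≠ a ∈ AA` then `s` is trivial on one of the 27 roots;
* `exists_rp` : representatives in `LL` of the elements of `W(E6)`.
-/

set_option autoImplicit false
set_option linter.unusedSectionVars false

namespace Cfsg.Agent.H724.Conj.E7Rad

open CoxeterSystem Subgroup Cfsg Cfsg.Lie Cfsg.Lie.ChevalleyDatum
open Cfsg.Agent.ChevalleyStructure Cfsg.Agent.ChevalleyStructure.Elts Cfsg.Agent.ChevalleyStructure.CoxeterGeom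
  Cfsg.Agent.ChevalleyStructure.CoxeterGeomTypes Cfsg.Agent.ChevalleyStructure.NPerm
  Cfsg.Agent.ChevalleyStructure.RootVec
open Cfsg.Agent.Tits.Roots Cfsg.Agent.Tits.Core Cfsg.Agent.Tits.Exchange Cfsg.Agent.Nodes.Reps Cfsg.Agent.Nodes.BNOf
  Cfsg.Agent.Nodes.RGDChev Cfsg.Agent.Nodes.Bruhat Cfsg.Agent.Nodes.StabComb Cfsg.Agent.Nodes.OppDec
  Cfsg.Agent.Nodes.LeviDec Cfsg.Agent.Nodes.NormalForm
open Cfsg.Agent.KFacts.RgdField Cfsg.Agent.KFacts.RgdChevCoord Cfsg.Agent.BpExc.TorCent Cfsg.Agent.BpExc.TorChev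
open Cfsg.Agent.BpExc.Tow Cfsg.Agent.BpExc.TowChev Cfsg.Agent.BpExc.RowsUntw
open Cfsg.Agent.H378.TorDual Cfsg.Agent.H378.TorChar
open Cfsg.Agent.H724.Conj.E7Tab
open scoped commutatorElement

universe u

/-- root elements without commutator terms commute -/
theorem comm_of_nil {D : ChevalleyDatum} {l : ℕ} {M : CoxeterMatrix (Fin l)} (hp : IsType D l M) {K : Type u} [Field K]
    {r s : ℕ} (hr : r < D.nroots) (hs : s < D.nroots) (hne : s ≠ r) (hne' : s ≠ D.neg r)
    (h : D.commTerms r s = []) (t u : K) :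
    xG hp.inList s u * xG hp.inList r t = xG hp.inList r t * xG hp.inList s u := by
  have e : ⁅xG hp.inList s u, xG hp.inList r t⁆ = wordG hp.inList (D.commWord K r s (-t) (-u)) := by
    rw [← comm_xG hp hr hs hne hne', xG_inv, xG_inv, _root_.neg_neg, _root_.neg_neg]
  have e3 : D.commWord K r s (-t) (-u) = [] := by
    show (D.commTerms r s).map _ = []
    rw [h]; rfl
  rw [e3, wordG_nil] at e
  exact commutatorElement_eq_one_iff_mul_comm.1 e

/-- the first six fundamental roots -/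
def J6 : Set (Fin 7) := {i | i ≠ 6}

variable {k : Type u} [Field k] {W : Type*} [Group W] [Finite W] (cs : CoxeterSystem CoxeterMatrix.E₇ W)

variable (k) in
/-- the group generated by the root groups of type E6 -/
abbrev LL : Subgroup ↥(chevE7.group k) := RGD.Sup (XX chevE7 7 k) (RootsJ cs e7T.isCartan J6)

variable (k) in
/-- the unipotent radical -/
abbrev AA : Subgroup ↥(chevE7.group k) := RGD.Sup (XX chevE7 7 k) (NotJ cs e7T.isCartan J6)

theorem notMem_J6 {i : Fin 7} : i ∉ J6 ↔ i = 6 := by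
  show ¬ (i ≠ 6) ↔ i = 6
  exact not_not

theorem mem_NotJ {x : Fin 7 → ℤ} : x ∈ NotJ cs e7T.isCartan J6 ↔ IsRoot cs e7T.isCartan x ∧ x 6 = 1 := by
  constructor
  · rintro ⟨h1, h2, i, hi, h3⟩
    rw [notMem_J6] at hi
    subst hi
    have := last_le' cs h1
    exact ⟨h1, by omega⟩
  · rintro ⟨h1, h2⟩
    exact ⟨h1, nonneg_of_pos_apply h1 (k := 6) (by omega), 6, notMem_J6.2 rfl, by omega⟩

theorem mem_RootsJ {x : Fin 7 → ℤ} : x ∈ RootsJ cs e7T.isCartan J6 ↔ IsRoot cs e7T.isCartan x ∧ x 6 = 0 := by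
  constructor
  · rintro ⟨h1, h2⟩
    exact ⟨h1, h2 6 (notMem_J6.2 rfl)⟩
  · rintro ⟨h1, h2⟩
    exact ⟨h1, fun i hi => by rw [notMem_J6.1 hi]; exact h2⟩

/-- root elements of the 27 roots commute -/
theorem X_comm {x y : Fin 7 → ℤ} (hx : x ∈ NotJ cs e7T.isCartan J6) (hy : y ∈ NotJ cs e7T.isCartan J6)
    {a b : ↥(chevE7.group k)} (ha : a ∈ XX chevE7 7 k x) (hb : b ∈ XX chevE7 7 k y) : a * b = b * a := by
  rw [mem_NotJ] at hx hy
  obtain ⟨s, hs, rfl⟩ := (isRoot_iff e7T cs x).1 hx.1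
  obtain ⟨r, hr, rfl⟩ := (isRoot_iff e7T cs y).1 hy.1
  obtain ⟨u, hu⟩ := (LangThm.mem_XX_vec e7T hs).1 ha
  obtain ⟨t, ht⟩ := (LangThm.mem_XX_vec e7T hr).1 hb
  apply Subtype.ext
  rw [Subgroup.coe_mul, Subgroup.coe_mul, hu, ht]
  by_cases hne : s = r
  · subst hne
    rw [xG_add, xG_add, add_comm]
  have hne' : s ≠ chevE7.neg r := by
    intro h
    have h1 : vec chevE7 7 s 6 = 1 := hx.2
    rw [h, vec_neg e7T hr, Pi.neg_apply, hy.2] at h1
    omega
  refine comm_of_nil e7T hr hs hne hne' ?_ t u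
  have e2 : chevE7.commTerms r s = [] := by
    rw [List.eq_nil_iff_forall_not_mem]
    rintro ⟨v, C, i, j⟩ hv
    obtain ⟨hv1, -, -, hi, hj, hvec⟩ := commTerms_rt e7T.checked hv
    have h1 := last_le' cs (isRoot_vec e7T cs hv1)
    have h2 : vec chevE7 7 v 6 = (i : ℤ) * vec chevE7 7 r 6 + (j : ℤ) * vec chevE7 7 s 6 := hvec 6
    rw [h2, hx.2, hy.2] at h1
    omega
  exact e2

/-- **`AA` is commutative.** -/
theorem AA_comm {a b : ↥(chevE7.group k)} (ha : a ∈ AA k cs) (hb : b ∈ AA k cs) : a * b = b * a := by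
  have h1 : ∀ y ∈ NotJ cs e7T.isCartan J6, ∀ b ∈ XX chevE7 7 k y, AA k cs ≤ Subgroup.centralizer {b} := by
    intro y hy b hb
    refine RGD.Sup_le fun x hx a ha => ?_
    rw [Subgroup.mem_centralizer_singleton_iff]
    exact X_comm cs hx hy ha hb
  have h2 : AA k cs ≤ Subgroup.centralizer {a} := by
    refine RGD.Sup_le fun y hy b hb => ?_
    rw [Subgroup.mem_centralizer_singleton_iff]
    exact (Subgroup.mem_centralizer_singleton_iff.1 (h1 y hy b hb ha)).symm
  exact (Subgroup.mem_centralizer_singleton_iff.1 (h2 hb)).symm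

section Lim

variable (hk : LocFin k) (r : ℕ) [Fact r.Prime] [CharP k r]

include hk r

/-- **`AA` is normalised by `LL`.** -/
theorem LL_conj {g a : ↥(chevE7.group k)} (hg : g ∈ LL k cs) (ha : a ∈ AA k cs) : g * a * g⁻¹ ∈ AA k cs := by
  have H := tow e7T cs hk r
  have hXL := XL_eq e7T hk
  rw [LL, ← hXL, Tow.mem_Sup H] at hg
  rw [AA, ← hXL, Tow.mem_Sup H] at ha
  obtain ⟨i, hi⟩ := hg
  obtain ⟨j, hj⟩ := ha
  obtain ⟨m, him, hjm⟩ := H.dir i j
  have hi' := Tow.mono_Sup H _ him hi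
  have hj' := Tow.mono_Sup H _ hjm hj
  have h1 : g ∈ LJ cs e7T.isCartan (Tj e7T (k := k) m) (Xj e7T m) J6 := by
    have h2 : RGD.Sup (Xj e7T (k := k) m) (RootsJ cs e7T.isCartan J6) ≤ LJ cs e7T.isCartan (Tj e7T m) (Xj e7T m) J6 :=
      RGD.Sup_le fun x hx => X_le_LJ hx
    exact h2 hi'
  have h2 := (Subgroup.mem_normalizer_iff.1 (LJ_le_normalizer_VJ (H.rgd m) J6 h1) a).1 hj'
  rw [AA, ← hXL, Tow.mem_Sup H]
  exact ⟨m, h2⟩

/-- **`AA` is normalised by the torus.** -/
theorem TT_conj {t a : ↥(chevE7.group k)} (ht : t ∈ TT chevE7 k) (ha : a ∈ AA k cs) : t * a * t⁻¹ ∈ AA k cs := by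
  have H := tow e7T cs hk r
  have hXL := XL_eq e7T hk
  have hTL := TL_eq e7T hk
  have h1 := Tow.T_le_normalizer H (S := NotJ cs e7T.isCartan J6) (fun x hx => hx.1) (by rw [hTL]; exact ht)
  rw [hXL] at h1
  exact (Subgroup.mem_normalizer_iff.1 h1 a).1 ha

/-- **A torus element commuting with a nontrivial element of `AA` is trivial on one of the 27 roots.** -/
theorem exists_root_of_comm {s a : ↥(chevE7.group k)} (hs : s ∈ TT chevE7 k) (ha : a ∈ AA k cs)
    (hsa : s * a = a * s) (ha1 : a ≠ 1) :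
    ∃ b : Fin 7 → ℤ, IsRoot cs e7T.isCartan b ∧ b 6 = 1 ∧ ch e7T b s = 1 := by
  by_contra hcon
  push Not at hcon
  apply ha1
  have H := tow e7T cs hk r
  have C := coordsL e7T cs hk r
  have hXL := XL_eq e7T hk
  have hTL := TL_eq e7T hk
  rw [AA, ← hXL, Tow.mem_Sup H] at ha
  have hs' := hs
  rw [← hTL, H.mem_TL] at hs'
  obtain ⟨i, hi⟩ := hs'
  obtain ⟨j, hj⟩ := ha
  obtain ⟨m, him, hjm⟩ := H.dir i j
  have hi' := H.monoT him hi
  have hj' := Tow.mono_Sup H _ hjm hj
  obtain ⟨w, hw⟩ := exists_isLongest cs J6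
  have hPW : PW cs e7T.isCartan w = NotJ cs e7T.isCartan J6 := by
    ext x
    constructor
    · rintro ⟨h1, h2, h3⟩
      rcases mem_PosJ_or_NotJ J6 h1 h2 with h4 | h4
      · exact absurd (rep_longest_nonpos hw h4) ((h1.act w).not_pos_neg h3)
      · exact h4
    · intro h1
      exact ⟨h1.1, h1.2.1, (NotJ.act hw.1 h1).2.1⟩
  have h1 : a ∈ RGD.Sup (fun x => Xj e7T m x ⊓ Subgroup.centralizer {s}) (PW cs e7T.isCartan w) :=
    centralizer_PW (H.rgd m) w (Set.singleton_subset_iff.2 hi') (by rw [hPW]; exact hj')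
      (Subgroup.mem_centralizer_singleton_iff.2 hsa.symm)
  have h2 : RGD.Sup (fun x => Xj e7T m x ⊓ Subgroup.centralizer {s}) (PW cs e7T.isCartan w) ≤ ⊥ := by
    refine RGD.Sup_le fun x hx u hu => ?_
    rw [Subgroup.mem_bot]
    by_contra hu1
    rw [hPW, mem_NotJ] at hx
    have hux : u ∈ XX chevE7 7 k x := by
      rw [← hXL]
      exact le_XL m x hu.1
    have h3 := mem_Sx_of_centralizer C hs hx.1 hux hu1 hu.2
    exact hcon x hx.1 hx.2 h3.2
  exact (Subgroup.mem_bot.1 (h2 h1))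

/-- representatives in `LL` -/
theorem exists_rp (ω : List (Fin 7)) (hω : ∀ i ∈ ω, i ≠ 6) :
    ∃ g ∈ LL k cs, Rp cs (nsysL e7T cs hk r) (cs.wordProd ω) g := by
  induction ω with
  | nil => exact ⟨1, one_mem _, by rw [wordProd_nil]; exact rp_one⟩
  | cons i ω ih =>
    obtain ⟨g, hg, hgr⟩ := ih fun j hj => hω j (List.mem_cons_of_mem _ hj)
    have hi : i ≠ 6 := hω i List.mem_cons_self
    refine ⟨nc e7T k i * g, mul_mem ?_ hg, ?_⟩
    · have h0 := _root_.Cfsg.Agent.ChevalleyStructure.NPerm.simple_lt e7T.inList (lt_rank e7T i)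
      have hroot : (sr i : Fin 7 → ℤ) ∈ RootsJ cs e7T.isCartan J6 :=
        (mem_RootsJ cs).2 ⟨isRoot_sr cs _ i, sr_ne (Ne.symm hi)⟩
      have hx : ∀ t : k, (⟨xG e7T.inList (chevE7.simple i) t, xG_mem_group e7T.inList _ t⟩ : ↥(chevE7.group k)) ∈
          LL k cs := by
        intro t
        refine RGD.le_Sup hroot ?_
        rw [← vec_simple e7T i]
        exact (LangThm.mem_XX_vec e7T h0).2 ⟨t, rfl⟩
      have hy : ∀ t : k, (⟨xG e7T.inList (chevE7.neg (chevE7.simple i)) t, xG_mem_group e7T.inList _ t⟩ :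
          ↥(chevE7.group k)) ∈ LL k cs := by
        intro t
        refine RGD.le_Sup (z := -sr i) (RootsJ.neg hroot) ?_
        rw [← vec_simple e7T i, ← vec_neg e7T h0]
        exact (LangThm.mem_XX_vec e7T (_root_.Cfsg.Agent.ChevalleyStructure.NPerm.neg_lt e7T.inList h0)).2 ⟨t, rfl⟩
      have e : nc e7T k i = ⟨xG e7T.inList (chevE7.simple i) 1, xG_mem_group e7T.inList _ 1⟩ *
          (⟨xG e7T.inList (chevE7.neg (chevE7.simple i)) (-(1 : k)⁻¹), xG_mem_group e7T.inList _ _⟩ *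
            ⟨xG e7T.inList (chevE7.simple i) 1, xG_mem_group e7T.inList _ 1⟩) := by
        apply Subtype.ext
        show nG e7T.inList (chevE7.simple i) 1 = _
        rw [nG_def]
        rfl
      rw [e]
      exact mul_mem (hx 1) (mul_mem (hy _) (hx 1))
    · rw [wordProd_cons]
      exact (rp_simple cs (nsysL e7T cs hk r) i).mul hgr

end Lim

end Cfsg.Agent.H724.Conj.E7Rad
end

-- part: H724/Conj/E7
section
/-!
# Row E7 of S4792 (helper724)

* `exists_prime` : a prime `ℓ` with `q` of order 9 modulo `ℓ`;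
* `exists_frob` : in `E7(q)` there are `x` and a commutative subgroup `A ≠ 1` normalised by `C(x)` on which `C(x)` acts
  without fixed points;
* `row_E7` : the row.
-/

set_option autoImplicit false
set_option linter.unusedSectionVars false

namespace Cfsg.Agent.H724.Conj.E7

open CoxeterSystem Subgroup Cfsg Cfsg.Lie Cfsg.Lie.ChevalleyDatum
open Cfsg.Agent.ChevalleyStructure Cfsg.Agent.ChevalleyStructure.Elts Cfsg.Agent.ChevalleyStructure.CoxeterGeom
  Cfsg.Agent.ChevalleyStructure.CoxeterGeomTypes Cfsg.Agent.ChevalleyStructure.NPerm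
open Cfsg.Agent.Tits.Roots Cfsg.Agent.Tits.Core Cfsg.Agent.Nodes.Reps Cfsg.Agent.Nodes.BNOf
  Cfsg.Agent.Nodes.RGDChev Cfsg.Agent.Nodes.Bruhat Cfsg.Agent.Nodes.StabComb
open Cfsg.Agent.KFacts.RgdField Cfsg.Agent.KFacts.RgdChevCoord Cfsg.Agent.BpExc.TorCent Cfsg.Agent.BpExc.TorChev
open Cfsg.Agent.BpExc.Tow Cfsg.Agent.BpExc.TowChev Cfsg.Agent.BpExc.FamExt Cfsg.Agent.BpExc.FamUntw
  Cfsg.Agent.BpExc.FamInst Cfsg.Agent.BpExc.LangFr Cfsg.Agent.BpExc.FamField Cfsg.Agent.BpExc.RowsUntw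
open Cfsg.Agent.GpExc.Field (glMap emb coe_emb glMap_xG emb_injective coe_glMap)
open Cfsg.Agent.H378.TorDual Cfsg.Agent.H378.TorChar Cfsg.Agent.H378.TorFin Cfsg.Agent.H378.LatRoot
  Cfsg.Agent.H378.Regular Cfsg.Agent.H378.ExcAdj Cfsg.Agent.H378.ExcNear Cfsg.Agent.H378.RegFin
  Cfsg.Agent.H378.LatCyc Cfsg.Agent.H378.LatCodim Cfsg.Agent.H378.LatPerp Cfsg.Agent.H378.RegE7
open Cfsg.Agent.H378.CycTab Cfsg.Agent.H493.PGTorus
open Cfsg.Agent.H724.Conj.E7Tab Cfsg.Agent.H724.Conj.E7Rad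

universe u

/-- a prime `ℓ` modulo which `q` has order 9 -/
theorem exists_prime {q : ℕ} (hq : 2 ≤ q) : ∃ ℓ : ℕ, ℓ.Prime ∧ od q ℓ = 9 := by
  obtain ⟨s, hs, hs3, -, hd⟩ := exists_three (q := q ^ 3) (le_trans hq (Nat.le_self_pow (by norm_num) q))
  refine ⟨s, hs, ?_⟩
  have : Fact s.Prime := ⟨hs⟩
  have h1 : ((q : ℕ) : ZMod s) ^ 6 + ((q : ℕ) : ZMod s) ^ 3 + 1 = 0 := by
    have h2 := (ZMod.natCast_eq_zero_iff _ s).2 hd
    push_cast at h2
    rw [← h2]; ring
  have h9 : ((q : ℕ) : ZMod s) ^ 9 = 1 := by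
    have h2 : ((q : ℕ) : ZMod s) ^ 9 - 1 =
        (((q : ℕ) : ZMod s) ^ 3 - 1) * (((q : ℕ) : ZMod s) ^ 6 + ((q : ℕ) : ZMod s) ^ 3 + 1) := by ring
    rw [h1, mul_zero] at h2
    exact sub_eq_zero.1 h2
  have h3 : ((q : ℕ) : ZMod s) ^ 3 ≠ 1 := by
    intro h
    have h2 : ((3 : ℕ) : ZMod s) = 0 := by
      have h4 : ((q : ℕ) : ZMod s) ^ 6 = (((q : ℕ) : ZMod s) ^ 3) ^ 2 := by ring
      rw [h4, h] at h1
      rw [← h1]
      push_cast
      ring
    have h4 := (ZMod.natCast_eq_zero_iff 3 s).1 h2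
    exact hs3 ((Nat.prime_dvd_prime_iff_eq hs Nat.prime_three).1 h4)
  have h5 := orderOf_eq_prime_pow (x := ((q : ℕ) : ZMod s)) (p := 3) (n := 1) (by simpa only [_root_.pow_one, _root_.ne_eq] using h3) (by simpa only [_root_.Nat.reduceAdd, _root_.Nat.reducePow] using h9)
  rw [od, h5]
  norm_num

/-- **The Frobenius group.** -/
theorem exists_frob (F : Type u) [Field F] [Finite F] : ∃ (x : ↥(chevE7.group F)) (A : Subgroup ↥(chevE7.group F)),
    IsMulCommutative A ∧ A ≠ ⊥ ∧ (∀ c ∈ Subgroup.centralizer {x}, ∀ a ∈ A, c * a * c⁻¹ ∈ A) ∧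
      ∀ c ∈ Subgroup.centralizer {x}, ∀ a ∈ A, c * a = a * c → c = 1 ∨ a = 1 := by
  let cs : CoxeterSystem CoxeterMatrix.E₇ CoxeterMatrix.E₇.Group := CoxeterMatrix.E₇.toCoxeterSystem
  have hWf : Finite CoxeterMatrix.E₇.Group := finite_W e7T cs
  have : Fintype CoxeterMatrix.E₇.Group := Fintype.ofFinite _
  have hq2 : 2 ≤ Nat.card F := Finite.one_lt_card
  obtain ⟨ℓ, hℓ, hod⟩ := exists_prime hq2
  obtain ⟨k, _, _, f, r, _, _, n, hk, hka, hn0, hn⟩ := exists_closure F
  have hm1 := mod_of_od hℓ hod (by norm_num)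
  have h2 := hℓ.two_le
  have h3 := Nat.le_of_dvd (by omega) hm1
  have hℓW : ¬ ℓ ∣ Nat.card CoxeterMatrix.E₇.Group := fun h1 => by
    have := le_of_dvd_card cs e7T.isCartan hℓ h1; omega
  have hℓF := not_dvd_q hℓ hod (by norm_num)
  have hℓr : ℓ ≠ r := by
    rintro rfl
    apply hℓF
    rw [hn]
    exact dvd_pow_self _ hn0.ne'
  have hemb := emb_injective e7T.inList f
  -- the representative of `w` and Lang's theorem
  obtain ⟨g, hgL, hg0⟩ := _root_.Cfsg.Agent.H724.Conj.E7Rad.exists_rp cs hk r (L9.map Prod.fst) word9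
  have hg : Rp cs (nsysL e7T cs hk r) (w9 cs) g := hg0
  obtain ⟨z, hzL, hz⟩ := lang_fr e7T cs hn0 (phi_isFrob (D := chevE7) (k := k) r n) (phi_fr e7T cs r hk n)
    (S := RootsJ cs e7T.isCartan J6) (fun a ha => ha.1) (fun a ha => ha) hgL
  have hz' : z⁻¹ * phi chevE7 k r n z = g := hz.symm
  -- an element of order `ℓ` of the twisted torus
  have hwn : (rep cs e7T.isCartan (w9 cs)) ^ Nat.card CoxeterMatrix.E₇.Group = 1 := by
    rw [← map_pow, pow_card_eq_one', map_one]
  have hq2' : 2 ≤ r ^ n := hn ▸ hq2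
  have hod' : od (r ^ n) ℓ = 9 := hn ▸ hod
  obtain ⟨y, hy⟩ := exists_order (rep_apply cs) Nat.card_pos hwn eig9 (q := ((r ^ n : ℕ) : ℤ))
    (by exact_mod_cast hq2') hℓ (dvd9 hℓ hod')
  obtain ⟨e2, he2⟩ := twEquiv e7T cs r hk inv_E7 two_ne_zero hg (m := n)
  obtain ⟨e3⟩ := kerOf_equiv k (det_rep_ne_zero cs r hn0 e7T.isCartan (w9 cs))
  obtain ⟨t, htw, hto⟩ : ∃ t : ↥(chevE7.group k), t ∈ TwT chevE7 k r n g ∧ orderOf t = ℓ := by
    refine ⟨(e2.symm (e3.symm y)).1, (e2.symm (e3.symm y)).2, ?_⟩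
    rw [Subgroup.orderOf_coe, MulEquiv.orderOf_eq, MulEquiv.orderOf_eq]
    exact hy
  have ht := htw.1
  have htℓ : t ^ ℓ = 1 := by rw [← hto]; exact pow_orderOf_eq_one t
  have ht1 : t ≠ 1 := by
    rintro rfl
    rw [orderOf_one] at hto
    exact hℓ.one_lt.ne hto
  have hE : IsEig cs e7T.isCartan (r ^ n) ℓ (w9 cs) (tchar e7T ⟨t, ht⟩) := by
    refine ⟨(mem_TwT_iff e7T cs r hk hg ht).1 htw, ?_, tchar_pow_eq_one e7T ht htℓ⟩
    intro h1
    have h2 := tchar_injective e7T (h1.trans (map_one (tchar e7T)).symm)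
    exact ht1 (congrArg Subtype.val h2)
  have hroot : ∀ a, IsRoot cs e7T.isCartan a → ch e7T a t ≠ 1 := by
    intro a ha h1
    refine ne_one_of_codim (cs := cs) (h := e7T.isCartan) (m := 9) (by norm_num) (by decide) (by decide) hℓ hℓW
      (fun h1 => by have := Nat.le_of_dvd (by norm_num) h1; omega)
      (cyclotomic_dvd hℓ hod' (by norm_num)) hE.1 hE.2.1 hE.2.2 (fun i => ?_) ha (Units.ext ?_)
    · rw [card_perp_E7]
      norm_num
    · rw [tchar_apply e7T cs hk r ⟨t, ht⟩ ha, h1]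
      rfl
  -- the element `x`
  have hfix := conj_fix r hz' htw
  have hpow : (z * t * z⁻¹) ^ ℓ = 1 := by rw [conj_pow, htℓ]; group
  obtain ⟨x, hx⟩ := H378.RootTor.mem_of_pow e7T f r hn inv_E7 two_ne_zero hfix hpow (by
    refine (Nat.Prime.coprime_iff_not_dvd hℓ).2 fun h4 => ?_
    have h5 := Nat.le_of_dvd (by norm_num) (h4.trans (Nat.gcd_dvd_left 2 _))
    omega)
  have hCx : ∀ c ∈ Subgroup.centralizer {x}, z⁻¹ * emb e7T.inList f c * z ∈ TwT chevE7 k r n g := by
    intro c hc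
    have h4 : emb e7T.inList f c * (z * t * z⁻¹) = z * t * z⁻¹ * emb e7T.inList f c := by
      rw [← hx, ← map_mul, ← map_mul, Subgroup.mem_centralizer_singleton_iff.1 hc]
    have h5 : z⁻¹ * emb e7T.inList f c * z * t = t * (z⁻¹ * emb e7T.inList f c * z) := by
      calc z⁻¹ * emb e7T.inList f c * z * t = z⁻¹ * (emb e7T.inList f c * (z * t * z⁻¹)) * z := by group
        _ = z⁻¹ * (z * t * z⁻¹ * emb e7T.inList f c) * z := by rw [h4]
        _ = _ := by group
    refine ⟨mem_TT_of_comm e7T cs ht hℓ hℓW htℓ hroot h5 hk r, ?_⟩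
    have h6 : phi chevE7 k r n z = z * g := by rw [← hz']; group
    rw [map_mul, map_mul, map_inv, h6, phi_emb' e7T f r hn]
    group
  -- the subgroup `A`
  refine ⟨x, (AA k cs).comap (emb e7T.inList f), ⟨⟨?_⟩⟩, ?_, ?_, ?_⟩
  · rintro ⟨a, ha⟩ ⟨b, hb⟩
    exact Subtype.ext (hemb (by
      show emb e7T.inList f (a * b) = emb e7T.inList f (b * a)
      rw [map_mul, map_mul]
      exact AA_comm cs ha hb))
  · intro hbot
    have h0 := simple_lt e7T.inList (lt_rank e7T (6 : Fin 7))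
    have h4 : xc e7T (vec chevE7 7 (chevE7.simple (6 : Fin 7))) (1 : F) ∈ (AA k cs).comap (emb e7T.inList f) := by
      rw [Subgroup.mem_comap, BpExc.FamExt.emb_xc e7T f h0]
      have h5 : vec chevE7 7 (chevE7.simple (6 : Fin 7)) ∈ NotJ cs e7T.isCartan J6 := by
        rw [vec_simple e7T 6]
        exact (mem_NotJ cs).2 ⟨isRoot_sr cs _ 6, sr_self 6⟩
      exact RGD.le_Sup h5 ((LangThm.mem_XX_vec e7T h0).2 ⟨f 1, coe_xc e7T h0 (f 1)⟩)
    rw [hbot, Subgroup.mem_bot] at h4
    have h5 : xG e7T.inList (chevE7.simple (6 : Fin 7)) (1 : F) = xG e7T.inList (chevE7.simple (6 : Fin 7)) 0 := by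
      rw [← coe_xc e7T h0, h4, xG_zero]
      rfl
    exact one_ne_zero (xG_injective e7T.inList h0 h5)
  · intro c hc a ha
    rw [Subgroup.mem_comap] at ha ⊢
    have h4 := hCx c hc
    have e : emb e7T.inList f (c * a * c⁻¹) =
        z * ((z⁻¹ * emb e7T.inList f c * z) * (z⁻¹ * emb e7T.inList f a * z⁻¹⁻¹) *
          (z⁻¹ * emb e7T.inList f c * z)⁻¹) * z⁻¹ := by
      rw [map_mul, map_mul, map_inv]
      group
    rw [e]
    exact LL_conj cs hk r hzL (TT_conj cs hk r h4.1 (LL_conj cs hk r (inv_mem hzL) ha))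
  · intro c hc a ha hca
    rw [Subgroup.mem_comap] at ha
    have h4 := hCx c hc
    by_cases ha1 : a = 1
    · exact Or.inr ha1
    left
    have h5 := LL_conj cs hk r (inv_mem hzL) ha
    have h6 : z⁻¹ * emb e7T.inList f a * z⁻¹⁻¹ ≠ 1 := by
      intro h7
      apply ha1
      apply hemb
      rw [map_one]
      have e : emb e7T.inList f a = z * (z⁻¹ * emb e7T.inList f a * z⁻¹⁻¹) * z⁻¹ := by group
      rw [e, h7]
      group
    have h7 : z⁻¹ * emb e7T.inList f c * z * (z⁻¹ * emb e7T.inList f a * z⁻¹⁻¹) =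
        z⁻¹ * emb e7T.inList f a * z⁻¹⁻¹ * (z⁻¹ * emb e7T.inList f c * z) := by
      have e : emb e7T.inList f c * emb e7T.inList f a = emb e7T.inList f a * emb e7T.inList f c := by
        rw [← map_mul, hca, map_mul]
      calc z⁻¹ * emb e7T.inList f c * z * (z⁻¹ * emb e7T.inList f a * z⁻¹⁻¹) =
          z⁻¹ * (emb e7T.inList f c * emb e7T.inList f a) * z := by group
        _ = z⁻¹ * (emb e7T.inList f a * emb e7T.inList f c) * z := by rw [e]
        _ = _ := by group
    obtain ⟨b, hb, hb6, hbs⟩ := exists_root_of_comm cs hk r h4.1 h5 h7 h6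
    have h8 : tchar e7T ⟨z⁻¹ * emb e7T.inList f c * z, h4.1⟩ = 1 := by
      refine E7Tab.chi_eq_one cs (q := ((r ^ n : ℕ) : ℤ)) ((mem_TwT_iff e7T cs r hk hg h4.1).1 h4) hb hb6
        (Units.ext ?_)
      rw [tchar_apply e7T cs hk r ⟨_, h4.1⟩ hb, hbs]
      rfl
    have h9 := tchar_injective e7T (h8.trans (map_one (tchar e7T)).symm)
    have h10 : z⁻¹ * emb e7T.inList f c * z = 1 := congrArg Subtype.val h9
    apply hemb
    rw [map_one]
    have e : emb e7T.inList f c = z * (z⁻¹ * emb e7T.inList f c * z) * z⁻¹ := by group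
    rw [e, h10]
    group

/-- **Row E7 of S4792.** -/
theorem row_E7 {S : Type*} [Group S] [Finite S] (hs : IsSimpleGroup S) (h : Lie.IsoE7 S) :
    Cfsg.Agent.H430.Conj.Row S := by
  obtain ⟨F, _, _, ⟨e⟩⟩ := h
  have : Finite ↥(chevE7.group F) := Finite.of_equiv _ e.toEquiv
  have : Nontrivial ↥(chevE7.group F) := e.symm.toEquiv.nontrivial
  have : IsSimpleGroup ↥(chevE7.group F) := IsSimpleGroup.isSimpleGroup_of_surjective e.toMonoidHom e.surjective
  obtain ⟨x, A, h1, h2, h3, h4⟩ := exists_frob F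
  exact (Cfsg.Agent.H430.Conj.row_of_frob x A h1 h2 h3 h4).of_equiv e.symm

end Cfsg.Agent.H724.Conj.E7
end

private theorem dce_d01fc267e08e : _root_.True := by
  try have : _root_.True := by simp only [_root_.Cfsg.Agent.H724.Conj.E7Rad.LL.eq_1]
  try have : _root_.True := by simp only [_root_.Cfsg.Agent.H917.CJ.uniHom.congr_simp]
  try have : _root_.True := by simp only [_root_.Cfsg.Agent.H917.CJ.uni.eq_1]
  try have : _root_.True := by simp only [_root_.Cfsg.Agent.H917.CJ.tor.eq_1]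
  try have : _root_.True := by simp only [_root_.Cfsg.Agent.H724.Conj.E7Rad.AA.eq_1]
  exact _root_.True.intro
end

-- part: H127/An/Tools
section
prune_inst 0x300000000000000000800000000000018000002
set_option linter.all false
open scoped Cfsg.Agent.FastGrp

-- part: H127/An/Key
section
/-!
# Fixed vectors in representations of symmetric groups (S4792, alternating groups): definitions

* `KeyLemma` : the statement of the key lemma of section 10 of `tools/plans/S4792.md`.
* `Good α` : every representation `V ≠ 0` of `Perm α` has a nonzero vector fixed by the centralizer in `A_α` of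
  some `x ∈ A_α`.
-/

set_option autoImplicit false

namespace Cfsg.Agent.H127.An

open Equiv

/-- **The key lemma** (to be proved): `p ≥ 5` prime, `V ≠ 0` a representation of `S_p` in which no `p`-cycle has a
nonzero fixed vector.  Then there is a nonzero vector on which the stabiliser of a point acts trivially or by the
sign. -/
def KeyLemma : Prop :=
  ∀ (p : ℕ), p.Prime → 5 ≤ p → ∀ (V : Type) [AddCommGroup V] [Module ℂ V] [FiniteDimensional ℂ V] [Nontrivial V]
    (ρ : Representation ℂ (Perm (Fin p)) V),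
    (∀ c : Perm (Fin p), c.IsCycle → c.support = Finset.univ → ∀ v, ρ c v = v → v = 0) →
    ∃ (a : Fin p) (v : V), v ≠ 0 ∧ ((∀ g : Perm (Fin p), g a = a → ρ g v = v) ∨
      ∀ g : Perm (Fin p), g a = a → ρ g v = ((Perm.sign g : ℤ) : ℂ) • v)

/-- every representation `V ≠ 0` of `Perm α` has a nonzero vector fixed by `C(x) ∩ A_α` for some `x ∈ A_α` -/
def Good (α : Type) [Fintype α] [DecidableEq α] : Prop :=
  ∀ (V : Type) [AddCommGroup V] [Module ℂ V] [FiniteDimensional ℂ V] [Nontrivial V]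
    (ρ : Representation ℂ (Perm α) V), ∃ x ∈ alternatingGroup α, ∃ v : V, v ≠ 0 ∧
      ∀ g ∈ alternatingGroup α, Commute g x → ρ g v = v

end Cfsg.Agent.H127.An
end

-- part: H127/An/Tools
section
/-!
# Tools for representations of symmetric groups (S4792, alternating groups)
-/

set_option autoImplicit false
set_option linter.unusedSectionVars false

namespace Cfsg.Agent.H127.An

open Equiv

section Cyc

variable {α : Type} [Fintype α] [DecidableEq α]

/-- `c` is a cycle on `s`, the identity outside, `|s| = p` -/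
structure Cyc (p : ℕ) (s : Finset α) (c : Perm α) : Prop where
  card : s.card = p
  on : c.IsCycleOn (s : Set α)
  supp : c.support ⊆ s

theorem exists_cyc (s : Finset α) : ∃ c, Cyc s.card s c := by
  obtain ⟨c, h1, h2⟩ := s.exists_cycleOn
  exact ⟨c, rfl, h1, h2⟩

variable {p : ℕ} {s : Finset α} {c : Perm α}

theorem Cyc.fix (h : Cyc p s c) {x : α} (hx : x ∉ s) : c x = x := by
  by_contra hcon
  exact hx (h.supp (Perm.mem_support.2 hcon))

theorem Cyc.mem_iff (h : Cyc p s c) {x : α} : c x ∈ s ↔ x ∈ s := by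
  have := h.on.apply_mem_iff (x := x)
  exact_mod_cast this

theorem Cyc.pow_fix (h : Cyc p s c) {x : α} (hx : x ∉ s) (n : ℕ) : (c ^ n) x = x := by
  induction n with
  | zero => rfl
  | succ n ih => rw [pow_succ, Perm.mul_apply, h.fix hx, ih]

theorem Cyc.pow_eq_one (h : Cyc p s c) : c ^ p = 1 := by
  ext x
  rw [Perm.one_apply]
  by_cases hx : x ∈ s
  · exact (h.on.pow_apply_eq hx).2 (by rw [h.card])
  · exact h.pow_fix hx p

theorem Cyc.exists_pow (h : Cyc p s c) {x y : α} (hx : x ∈ s) (hy : y ∈ s) : ∃ n < p, (c ^ n) x = y := by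
  obtain ⟨n, hn, h1⟩ := h.on.exists_pow_eq hx hy
  exact ⟨n, by rwa [← h.card], h1⟩

theorem Cyc.sign (h : Cyc p s c) (hp : Odd p) : Perm.sign c = 1 := by
  have h1 : Perm.sign c ^ p = 1 := by rw [← map_pow, h.pow_eq_one, map_one]
  rcases Int.units_eq_one_or (Perm.sign c) with h2 | h2
  · exact h2
  · rw [h2, hp.neg_one_pow] at h1
    exact absurd h1 (by decide)

theorem Cyc.conj (h : Cyc p s c) (g : Perm α) : Cyc p (s.map g.toEmbedding) (g * c * g⁻¹) where
  card := by rw [Finset.card_map, h.card]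
  on := by
    have := h.on.conj (g := g)
    rw [Finset.coe_map]
    exact this
  supp := by
    intro x hx
    rw [Finset.mem_map]
    refine ⟨g⁻¹ x, ?_, by simp⟩
    by_contra hcon
    rw [Perm.mem_support] at hx
    apply hx
    rw [Perm.mul_apply, Perm.mul_apply, h.fix hcon]
    simp

/-- a commuting permutation which maps a point of `s` into `s` agrees with a power of `c` on `s` -/
theorem Cyc.commute (h : Cyc p s c) {g : Perm α} (hg : Commute g c) {x : α} (hx : x ∈ s) (hgx : g x ∈ s) :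
    ∃ n < p, ∀ y ∈ s, g y = (c ^ n) y := by
  obtain ⟨n, hn, h1⟩ := h.exists_pow hx hgx
  refine ⟨n, hn, fun y hy => ?_⟩
  obtain ⟨m, -, rfl⟩ := h.exists_pow hx hy
  have h2 : g * c ^ m = c ^ m * g := (hg.pow_right m).eq
  calc g ((c ^ m) x) = (g * c ^ m) x := rfl
    _ = (c ^ m) (g x) := by rw [h2]; rfl
    _ = (c ^ m * c ^ n) x := by rw [← h1]; rfl
    _ = (c ^ n * c ^ m) x := by rw [← pow_add, ← pow_add, add_comm]
    _ = _ := rfl

/-- the support is preserved by a commuting permutation if `2 ≤ p` -/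
theorem Cyc.commute_mem (h : Cyc p s c) (hp : 2 ≤ p) {g : Perm α} (hg : Commute g c) {x : α} :
    g x ∈ s ↔ x ∈ s := by
  have h1 : ∀ y, y ∈ s ↔ c y ≠ y := by
    intro y
    refine ⟨fun hy h0 => ?_, fun hy => h.supp (Perm.mem_support.2 hy)⟩
    have h2 := (h.on.pow_apply_eq hy (n := 1)).1 (by rwa [pow_one])
    rw [h.card] at h2
    have := Nat.le_of_dvd one_pos h2
    omega
  have h2 : c (g x) = g (c x) := by
    have := congrArg (fun t : Perm α => t x) hg.eq
    exact this.symm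
  rw [h1, h1, h2]
  exact not_congr g.injective.eq_iff

end Cyc

section Four

variable {α : Type} [Fintype α] [DecidableEq α]

theorem exists_perm4 {x₀ x₁ x₂ x₃ y₀ y₁ y₂ y₃ : α} (h01 : x₀ ≠ x₁) (h02 : x₀ ≠ x₂) (h03 : x₀ ≠ x₃) (h12 : x₁ ≠ x₂)
    (h13 : x₁ ≠ x₃) (h23 : x₂ ≠ x₃) (k01 : y₀ ≠ y₁) (k02 : y₀ ≠ y₂) (k03 : y₀ ≠ y₃) (k12 : y₁ ≠ y₂)
    (k13 : y₁ ≠ y₃) (k23 : y₂ ≠ y₃) : ∃ g : Perm α, g x₀ = y₀ ∧ g x₁ = y₁ ∧ g x₂ = y₂ ∧ g x₃ = y₃ := by
  have hinj : ∀ {z₀ z₁ z₂ z₃ : α}, z₀ ≠ z₁ → z₀ ≠ z₂ → z₀ ≠ z₃ → z₁ ≠ z₂ → z₁ ≠ z₃ → z₂ ≠ z₃ →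
      Function.Injective ![z₀, z₁, z₂, z₃] := by
    intro z₀ z₁ z₂ z₃ e1 e2 e3 e4 e5 e6 a b hab
    fin_cases a <;> fin_cases b <;> simp_all
  have := Perm.isMultiplyPretransitive α 4
  obtain ⟨g, hg⟩ := this.exists_smul_eq ⟨_, hinj h01 h02 h03 h12 h13 h23⟩ ⟨_, hinj k01 k02 k03 k12 k13 k23⟩
  refine ⟨g, ?_, ?_, ?_, ?_⟩
  · exact DFunLike.congr_fun hg 0
  · exact DFunLike.congr_fun hg 1
  · exact DFunLike.congr_fun hg 2
  · exact DFunLike.congr_fun hg 3

theorem exists_perm2 {x₀ x₁ y₀ y₁ : α} (h01 : x₀ ≠ x₁) (k01 : y₀ ≠ y₁) : ∃ g : Perm α, g x₀ = y₀ ∧ g x₁ = y₁ := by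
  have hinj : ∀ {z₀ z₁ : α}, z₀ ≠ z₁ → Function.Injective ![z₀, z₁] := by
    intro z₀ z₁ e1 a b hab
    fin_cases a <;> fin_cases b <;> simp_all
  have := Perm.isMultiplyPretransitive α 2
  obtain ⟨g, hg⟩ := this.exists_smul_eq ⟨_, hinj h01⟩ ⟨_, hinj k01⟩
  exact ⟨g, DFunLike.congr_fun hg 0, DFunLike.congr_fun hg 1⟩

end Four

section Fn

/-- a vector fixed by the stabiliser of a point gives an equivariant function -/
theorem exists_equiv_fn {G X V : Type} [Group G] [MulAction G X] [AddCommGroup V] [Module ℂ V]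
    (ρ : Representation ℂ G V) (x0 : X) (v : V) (hv : ∀ g : G, g • x0 = x0 → ρ g v = v) :
    ∃ w : X → V, w x0 = v ∧ (∀ g x, ρ g (w x) = w (g • x)) ∧ ∀ x, (∀ g : G, g • x0 ≠ x) → w x = 0 := by
  classical
  let w : X → V := fun x => if h : ∃ g : G, g • x0 = x then ρ h.choose v else 0
  have hw : ∀ g : G, w (g • x0) = ρ g v := by
    intro g
    have h : ∃ h : G, h • x0 = g • x0 := ⟨g, rfl⟩
    have h1 : w (g • x0) = ρ h.choose v := dif_pos h
    rw [h1]
    have h2 : (g⁻¹ * h.choose) • x0 = x0 := by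
      rw [mul_smul, h.choose_spec, inv_smul_smul]
    have h3 := hv _ h2
    calc ρ h.choose v = ρ (g * (g⁻¹ * h.choose)) v := by rw [mul_inv_cancel_left]
      _ = ρ g (ρ (g⁻¹ * h.choose) v) := by rw [map_mul, Module.End.mul_apply]
      _ = ρ g v := by rw [h3]
  have hw0 : ∀ x, (∀ g : G, g • x0 ≠ x) → w x = 0 := fun x hx => dif_neg (by
    rintro ⟨g, hg⟩
    exact hx g hg)
  refine ⟨w, ?_, ?_, hw0⟩
  · have := hw 1
    rwa [one_smul, map_one, Module.End.one_apply] at this
  · intro g x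
    by_cases h : ∃ h : G, h • x0 = x
    · obtain ⟨h, rfl⟩ := h
      rw [hw, smul_smul, hw, map_mul, Module.End.mul_apply]
    · have h1 : ∀ h : G, h • x0 ≠ x := fun h' h'' => h ⟨h', h''⟩
      rw [hw0 x h1, map_zero, hw0]
      intro k hk
      apply h1 (g⁻¹ * k)
      rw [mul_smul, hk, inv_smul_smul]

end Fn

section Sgn

variable {α : Type} [Fintype α] [DecidableEq α] {V : Type} [AddCommGroup V] [Module ℂ V]

/-- the sign as a complex number -/
def sg (g : Perm α) : ℂ := ((Perm.sign g : ℤ) : ℂ)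

theorem sg_mul (g h : Perm α) : sg (g * h) = sg g * sg h := by
  simp only [sg, Perm.sign_mul, Units.val_mul, Int.cast_mul]

theorem sg_one : sg (1 : Perm α) = 1 := by simp [sg]

theorem sg_even {g : Perm α} (h : Perm.sign g = 1) : sg g = 1 := by simp [sg, h]

theorem sg_mul_self (g : Perm α) : sg g * sg g = 1 := by
  rcases Int.units_eq_one_or (Perm.sign g) with h | h <;> simp [sg, h]

/-- twist by the sign -/
def sgnTwist (ρ : Representation ℂ (Perm α) V) : Representation ℂ (Perm α) V where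
  toFun g := sg g • ρ g
  map_one' := by rw [sg_one, map_one, one_smul]
  map_mul' g h := by rw [sg_mul, map_mul, smul_mul_smul_comm]

theorem sgnTwist_apply (ρ : Representation ℂ (Perm α) V) (g : Perm α) (v : V) : sgnTwist ρ g v = sg g • ρ g v := rfl

theorem sgnTwist_even (ρ : Representation ℂ (Perm α) V) {g : Perm α} (hg : Perm.sign g = 1) (v : V) :
    sgnTwist ρ g v = ρ g v := by
  rw [sgnTwist_apply, sg_even hg, one_smul]

end Sgn

section Key

/-- the key lemma for a general set -/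
theorem key_type (hkey : KeyLemma) {α : Type} [Fintype α] [DecidableEq α] (hp : (Fintype.card α).Prime)
    (h5 : 5 ≤ Fintype.card α) {V : Type} [AddCommGroup V] [Module ℂ V] [FiniteDimensional ℂ V] [Nontrivial V]
    (ρ : Representation ℂ (Perm α) V)
    (hc : ∀ c : Perm α, Cyc (Fintype.card α) Finset.univ c → ∀ v, ρ c v = v → v = 0) :
    ∃ (a : α) (v : V), v ≠ 0 ∧ ((∀ g : Perm α, g a = a → ρ g v = v) ∨
      ∀ g : Perm α, g a = a → ρ g v = sg g • v) := by
  let e : α ≃ Fin (Fintype.card α) := Fintype.equivFin α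
  let Φ : Perm (Fin (Fintype.card α)) ≃* Perm α := e.symm.permCongrHom
  have hΦ : ∀ (g : Perm (Fin (Fintype.card α))) (x : α), Φ g x = e.symm (g (e x)) := fun g x => rfl
  have hΦs : ∀ (g : Perm α) (i : Fin (Fintype.card α)), Φ.symm g i = e (g (e.symm i)) := fun g x => rfl
  obtain ⟨a, v, hv, h⟩ := hkey (Fintype.card α) hp h5 V (ρ.comp Φ.toMonoidHom) (by
    intro c hcyc hsup v hv
    refine hc (Φ c) ⟨Finset.card_univ, ?_, Finset.subset_univ _⟩ v hv
    have h1 := hcyc.isCycleOn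
    have h2 : {x | c x ≠ x} = Set.univ := by
      ext x
      simp only [Set.mem_ofPred_eq, Set.mem_univ, iff_true]
      rw [← Perm.mem_support, hsup]
      exact Finset.mem_univ x
    rw [h2] at h1
    rw [Finset.coe_univ]
    refine ⟨(Equiv.bijective _).bijOn_univ, fun x _ y _ => ?_⟩
    obtain ⟨k, hk⟩ := h1.2 (Set.mem_univ (e x)) (Set.mem_univ (e y))
    refine ⟨k, ?_⟩
    rw [← map_zpow, hΦ, hk, Equiv.symm_apply_apply])
  refine ⟨e.symm a, v, hv, ?_⟩
  have hfix : ∀ g : Perm α, g (e.symm a) = e.symm a → Φ.symm g a = a := by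
    intro g hg
    rw [hΦs, hg, Equiv.apply_symm_apply]
  have hρ : ∀ g : Perm α, (ρ.comp Φ.toMonoidHom) (Φ.symm g) = ρ g := fun g => by
    show ρ (Φ (Φ.symm g)) = ρ g
    rw [MulEquiv.apply_symm_apply]
  rcases h with h | h
  · left
    intro g hg
    have := h _ (hfix g hg)
    rwa [hρ] at this
  · right
    intro g hg
    have := h _ (hfix g hg)
    rw [hρ] at this
    rw [this, sg]
    congr 3
    exact Perm.sign_permCongr e g

end Key

end Cfsg.Agent.H127.An
end

private theorem dce_9a5d2fcf858f : _root_.True := by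
  try have : _root_.True := by simp only [_root_.Cfsg.Agent.H127.An.sg.eq_1]
  exact _root_.True.intro
end

-- part: H430/Conj/AsmAlt_mg
section
prune_inst 0xd42013000c0000000000008021200220180004200000800008a00c000100000009808000010021055200000100040000000000800000000000840000000000000000100420000011020010000008010000300000000000000000800000000000018000000
set_option linter.all false
open scoped Cfsg.Agent.FastGrp

-- part: H127/An/Step
section
/-!
# The inductive steps (S4792, alternating groups)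
-/

set_option autoImplicit false
set_option linter.unusedSectionVars false

namespace Cfsg.Agent.H127.An

open Equiv

section Basic

variable {α : Type} [Fintype α] [DecidableEq α] {p : ℕ} {s : Finset α} {c : Perm α}

theorem Cyc.ofSubtype {q : α → Prop} [DecidablePred q] [Fintype {x // q x}] {s' : Finset {x // q x}} {c : Perm {x // q x}}
    (h : Cyc p s' c) : Cyc p (s'.map (Function.Embedding.subtype q)) (Perm.ofSubtype c) where
  card := by rw [Finset.card_map, h.card]
  on := by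
    have happ : ∀ (n : ℤ) (x : {x // q x}), ((Perm.ofSubtype c) ^ n) (x : α) = ((c ^ n) x : {x // q x}) := by
      intro n x
      rw [← map_zpow]
      exact Perm.ofSubtype_apply_coe (c ^ n) x
    have happ1 : ∀ x : {x // q x}, Perm.ofSubtype c (x : α) = (c x : {x // q x}) := Perm.ofSubtype_apply_coe c
    rw [Finset.coe_map]
    refine ⟨⟨?_, (Perm.ofSubtype c).injective.injOn, ?_⟩, ?_⟩
    · rintro _ ⟨x, hx, rfl⟩
      refine ⟨c x, h.mem_iff.2 hx, (happ1 x).symm⟩
    · rintro _ ⟨x, hx, rfl⟩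
      refine ⟨(c⁻¹ x : {x // q x}), ⟨c⁻¹ x, ?_, rfl⟩, ?_⟩
      · rw [Finset.mem_coe, ← h.mem_iff]
        simpa using hx
      · rw [happ1]
        simp
    · rintro _ ⟨x, hx, rfl⟩ _ ⟨y, hy, rfl⟩
      obtain ⟨k, hk⟩ := h.on.2 hx hy
      refine ⟨k, ?_⟩
      show ((Perm.ofSubtype c) ^ k) (x : α) = y
      rw [happ k x, hk]
  supp := by
    intro x hx
    rw [Perm.mem_support] at hx
    by_cases hq : q x
    · refine Finset.mem_map.2 ⟨⟨x, hq⟩, h.supp (Perm.mem_support.2 fun h0 => hx ?_), rfl⟩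
      have := Perm.ofSubtype_apply_coe c (⟨x, hq⟩ : {x // q x})
      rw [h0] at this
      exact this
    · exact absurd (Perm.ofSubtype_apply_of_not_mem c hq) hx

/-- a permutation which fixes everything outside `q` comes from `Perm {x // q x}` -/
theorem exists_ofSubtype {q : α → Prop} [DecidablePred q] {g : Perm α} (h : ∀ x, ¬ q x → g x = x) :
    ∃ g' : Perm {x // q x}, Perm.ofSubtype g' = g := by
  have h1 : ∀ x, q (g x) ↔ q x := by
    intro x
    constructor
    · intro hx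
      by_contra hcon
      rw [h x hcon] at hx
      exact hcon hx
    · intro hx
      by_contra hcon
      have h2 := h _ hcon
      have h3 := g.injective h2
      rw [h3] at hcon
      exact hcon hx
  refine ⟨g.subtypePerm h1, Perm.ofSubtype_subtypePerm h1 fun x hx => ?_⟩
  by_contra hcon
  exact hx (h x hcon)

/-- a permutation supported outside `s` commutes with `c` -/
theorem Cyc.comm_of_fix (h : Cyc p s c) {g : Perm α} (hg : ∀ x ∈ s, g x = x) : Commute g c := by
  show g * c = c * g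
  ext x
  rw [Perm.mul_apply, Perm.mul_apply]
  by_cases hx : x ∈ s
  · rw [hg x hx, hg _ (h.mem_iff.2 hx)]
  · rw [h.fix hx]
    by_cases hgx : g x ∈ s
    · exfalso
      have h1 := hg _ hgx
      have h2 := g.injective h1
      rw [h2] at hgx
      exact hx hgx
    · rw [h.fix hgx]

theorem sign_of_mem {g : Perm α} (hg : g ∈ alternatingGroup α) : Perm.sign g = 1 := Perm.mem_alternatingGroup.1 hg

/-- decomposition of a permutation commuting with the cycle `c` -/
theorem Cyc.decomp (h : Cyc p s c) (hp : Odd p) (hp2 : 2 ≤ p) {g : Perm α} (hg : Commute g c) :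
    ∃ (n : ℕ) (g1 : Perm α), g = c ^ n * g1 ∧ (∀ x ∈ s, g1 x = x) ∧ Perm.sign g1 = Perm.sign g ∧ Commute g1 c := by
  obtain ⟨x, hx⟩ : s.Nonempty := by rw [← Finset.card_pos, h.card]; omega
  obtain ⟨n, -, hn⟩ := h.commute hg hx ((h.commute_mem hp2 hg).2 hx)
  have hc1 : Commute (c ^ n)⁻¹ c := ((Commute.refl c).pow_left n).inv_left
  refine ⟨n, (c ^ n)⁻¹ * g, by rw [mul_inv_cancel_left], fun y hy => ?_, ?_, hc1.mul_left hg⟩
  · rw [Perm.mul_apply, hn y hy]
    simp
  · rw [map_mul, map_inv, map_pow, h.sign hp, one_pow, inv_one, one_mul]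

end Basic

section Fix

variable {α : Type} [Fintype α] [DecidableEq α] {V : Type} [AddCommGroup V] [Module ℂ V]

/-- the fixed space of `c` -/
def fixS (ρ : Representation ℂ (Perm α) V) (c : Perm α) : Submodule ℂ V := LinearMap.ker (ρ c - 1)

theorem mem_fixS {ρ : Representation ℂ (Perm α) V} {c : Perm α} {v : V} : v ∈ fixS ρ c ↔ ρ c v = v := by
  rw [fixS, LinearMap.mem_ker, LinearMap.sub_apply, Module.End.one_apply, sub_eq_zero]

/-- a group commuting with `c` acts on the fixed space -/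
def fixRep (ρ : Representation ℂ (Perm α) V) (c : Perm α) {H : Type} [Group H] (f : H →* Perm α)
    (hf : ∀ h, Commute (f h) c) : Representation ℂ H (fixS ρ c) where
  toFun h := (ρ (f h)).restrict (p := fixS ρ c) (q := fixS ρ c) (fun v hv => by
    rw [mem_fixS] at hv ⊢
    rw [← Module.End.mul_apply, ← map_mul, ← (hf h).eq, map_mul, Module.End.mul_apply, hv])
  map_one' := by
    apply LinearMap.ext
    intro v
    apply Subtype.ext
    show ρ (f 1) v = v
    rw [map_one, map_one, Module.End.one_apply]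
  map_mul' g h := by
    apply LinearMap.ext
    intro v
    apply Subtype.ext
    show ρ (f (g * h)) v = ρ (f g) (ρ (f h) v)
    rw [map_mul, map_mul, Module.End.mul_apply]

theorem pow_fix {ρ : Representation ℂ (Perm α) V} {c : Perm α} {v : V} (h : ρ c v = v) (n : ℕ) : ρ (c ^ n) v = v := by
  induction n with
  | zero => rw [pow_zero, map_one, Module.End.one_apply]
  | succ n ih => rw [pow_succ, map_mul, Module.End.mul_apply, h, ih]

/-- **Lemma A'**: a vector fixed by the `p`-cycle `c` and by the centralizer of `y` in the alternating group of the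
complement -/
theorem stepA' {p : ℕ} {s : Finset α} {c : Perm α} (hp : p.Prime) (hp2 : p ≠ 2) (hc : Cyc p s c)
    (hm : Fintype.card {x : α // x ∉ s} < p) (ρ : Representation ℂ (Perm α) V) {v : V} (hv0 : v ≠ 0)
    (hv : ρ c v = v) {y : Perm {x : α // x ∉ s}} (hy : y ∈ alternatingGroup {x : α // x ∉ s})
    (hw : ∀ g ∈ alternatingGroup {x : α // x ∉ s}, Commute g y → ρ (Perm.ofSubtype g) v = v) :
    ∃ x ∈ alternatingGroup α, ∃ v : V, v ≠ 0 ∧ ∀ g ∈ alternatingGroup α, Commute g x → ρ g v = v := by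
  have hodd : Odd p := hp.odd_of_ne_two hp2
  have hof : ∀ (h : Perm {x : α // x ∉ s}) (x : α), x ∈ s → Perm.ofSubtype h x = x := fun h x hx =>
    Perm.ofSubtype_apply_of_not_mem h (not_not.2 hx)
  have hcomm : ∀ h : Perm {x : α // x ∉ s}, Commute (Perm.ofSubtype h) c := fun h => hc.comm_of_fix (hof h)
  have hys : Perm.sign (Perm.ofSubtype y : Perm α) = 1 := by rw [Perm.sign_ofSubtype]; exact sign_of_mem hy
  refine ⟨c * Perm.ofSubtype y, ?_, v, hv0, ?_⟩
  · rw [Perm.mem_alternatingGroup, map_mul, hc.sign hodd, hys, one_mul]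
  intro g hg hgx
  -- `g` commutes with `c`
  set N := (Fintype.card {x : α // x ∉ s}).factorial with hN
  have hyN : y ^ N = 1 := by
    have := pow_card_eq_one (G := Perm {x : α // x ∉ s}) (x := y)
    rwa [Fintype.card_perm] at this
  have hxN : (c * Perm.ofSubtype y) ^ N = c ^ N := by
    rw [((hcomm y).symm).mul_pow, ← map_pow, hyN, map_one, mul_one]
  have hgN : Commute g (c ^ N) := by rw [← hxN]; exact hgx.pow_right N
  have hgc : Commute g c := by
    have hcop : N.Coprime (orderOf c) := by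
      have h1 : orderOf c ∣ p := orderOf_dvd_of_pow_eq_one hc.pow_eq_one
      refine Nat.Coprime.coprime_dvd_right h1 ?_
      rw [Nat.coprime_comm, hp.coprime_iff_not_dvd, hN, hp.dvd_factorial]
      omega
    obtain ⟨k, hk⟩ := exists_pow_eq_self_of_coprime hcop
    rw [← hk]
    exact hgN.pow_right k
  obtain ⟨n, g1, rfl, hg1, hsg, hg1c⟩ := hc.decomp hodd hp.two_le hgc
  obtain ⟨g', rfl⟩ := exists_ofSubtype (q := fun x => x ∉ s) (g := g1) (fun x hx => hg1 x (not_not.1 hx))
  have hg'e : g' ∈ alternatingGroup {x : α // x ∉ s} := by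
    rw [Perm.mem_alternatingGroup, ← Perm.sign_ofSubtype, hsg]
    exact sign_of_mem hg
  have hg1x : Commute (Perm.ofSubtype g' : Perm α) (Perm.ofSubtype y) := by
    have e1 : (Perm.ofSubtype g' : Perm α) = (c ^ n)⁻¹ * (c ^ n * Perm.ofSubtype g') := by rw [inv_mul_cancel_left]
    have e2 : (Perm.ofSubtype y : Perm α) = c⁻¹ * (c * Perm.ofSubtype y) := by rw [inv_mul_cancel_left]
    have e3 : Commute (Perm.ofSubtype g' : Perm α) (c * Perm.ofSubtype y) := by
      rw [e1]
      refine Commute.mul_left ?_ hgx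
      refine Commute.inv_left (Commute.mul_right ((Commute.refl c).pow_left n) ?_)
      exact ((hcomm y).symm).pow_left n
    rw [e2]
    exact Commute.mul_right hg1c.inv_right e3
  have hg'y : Commute g' y := by
    have := hg1x.eq
    rw [← map_mul, ← map_mul] at this
    exact Perm.ofSubtype_injective this
  rw [map_mul, Module.End.mul_apply, hw g' hg'e hg'y, pow_fix hv]

/-- **Lemma A**: a fixed vector of the `p`-cycle `c` and a good complement -/
theorem stepA {p : ℕ} {s : Finset α} {c : Perm α} (hp : p.Prime) (hp2 : p ≠ 2) (hc : Cyc p s c)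
    (hm : Fintype.card {x : α // x ∉ s} < p) (hG : Good {x : α // x ∉ s}) [FiniteDimensional ℂ V]
    (ρ : Representation ℂ (Perm α) V) {v : V} (hv0 : v ≠ 0) (hv : ρ c v = v) :
    ∃ x ∈ alternatingGroup α, ∃ v : V, v ≠ 0 ∧ ∀ g ∈ alternatingGroup α, Commute g x → ρ g v = v := by
  have hof : ∀ (h : Perm {x : α // x ∉ s}) (x : α), x ∈ s → Perm.ofSubtype h x = x := fun h x hx =>
    Perm.ofSubtype_apply_of_not_mem h (not_not.2 hx)
  have hcomm : ∀ h : Perm {x : α // x ∉ s}, Commute (Perm.ofSubtype h) c := fun h => hc.comm_of_fix (hof h)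
  have hnt : Nontrivial (fixS ρ c) :=
    ⟨⟨⟨v, mem_fixS.2 hv⟩, 0, fun h => hv0 (congrArg Subtype.val h)⟩⟩
  obtain ⟨y, hy, w, hw0, hw⟩ := hG (fixS ρ c) (fixRep ρ c Perm.ofSubtype hcomm)
  exact stepA' hp hp2 hc hm ρ (v := w) (fun h => hw0 (Subtype.ext h)) (mem_fixS.1 w.2) hy fun g hg hgy =>
    congrArg Subtype.val (hw g hg hgy)

/-- an equivariant function on the points -/
theorem stepB (hcard : 5 ≤ Fintype.card α) (ρ : Representation ℂ (Perm α) V) {a : α} {v : V} (hv0 : v ≠ 0)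
    (hv : ∀ g : Perm α, g a = a → ρ g v = v) :
    ∃ x ∈ alternatingGroup α, ∃ v : V, v ≠ 0 ∧ ∀ g ∈ alternatingGroup α, Commute g x → ρ g v = v := by
  obtain ⟨w, hwa, hw, -⟩ := exists_equiv_fn ρ a v hv
  obtain ⟨s, hs, hsum⟩ : ∃ s : Finset α, s.card = 3 ∧ ∑ t ∈ s, w t ≠ 0 := by
    by_contra hcon
    push Not at hcon
    have h3 : ∀ i j k : α, i ≠ j → i ≠ k → j ≠ k → w i + w j + w k = 0 := by
      intro i j k hij hik hjk
      have := hcon {i, j, k} (Finset.card_eq_three.2 ⟨i, j, k, hij, hik, hjk, rfl⟩)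
      rw [Finset.sum_insert (by simp [hij, hik]), Finset.sum_insert (by simp [hjk]), Finset.sum_singleton] at this
      rw [← this]
      abel
    have h4 : ∀ k l : α, w k = w l := by
      intro k l
      rcases eq_or_ne k l with rfl | hkl
      · rfl
      obtain ⟨i, hi⟩ : ∃ i, i ∉ ({k, l} : Finset α) := by
        by_contra hcon
        push Not at hcon
        have := Finset.card_le_card (fun x _ => hcon x : (Finset.univ : Finset α) ⊆ {k, l})
        rw [Finset.card_univ] at this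
        have := Finset.card_le_two (a := k) (b := l)
        omega
      obtain ⟨j, hj⟩ : ∃ j, j ∉ ({k, l, i} : Finset α) := by
        by_contra hcon
        push Not at hcon
        have := Finset.card_le_card (fun x _ => hcon x : (Finset.univ : Finset α) ⊆ {k, l, i})
        rw [Finset.card_univ] at this
        have := Finset.card_le_three (a := k) (b := l) (c := i)
        omega
      simp only [Finset.mem_insert, Finset.mem_singleton, not_or] at hi hj
      have e1 := h3 i j k (Ne.symm hj.2.2) hi.1 hj.1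
      have e2 := h3 i j l (Ne.symm hj.2.2) hi.2 hj.2.1
      have e3 := e1.trans e2.symm
      exact add_left_cancel e3
    obtain ⟨b, hb⟩ : ∃ b, b ≠ a := by
      have : Nontrivial α := Fintype.one_lt_card_iff_nontrivial.1 (by omega)
      exact exists_ne a
    obtain ⟨d, hd⟩ : ∃ j, j ∉ ({a, b} : Finset α) := by
      by_contra hcon
      push Not at hcon
      have := Finset.card_le_card (fun x _ => hcon x : (Finset.univ : Finset α) ⊆ {a, b})
      rw [Finset.card_univ] at this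
      have := Finset.card_le_two (a := a) (b := b)
      omega
    simp only [Finset.mem_insert, Finset.mem_singleton, not_or] at hd
    have e1 := h3 a b d (Ne.symm hb) (Ne.symm hd.1) (Ne.symm hd.2)
    rw [h4 b a, h4 d a, hwa] at e1
    apply hv0
    have e2 : (3 : ℂ) • v = 0 := by
      rw [← e1]
      module
    exact (smul_eq_zero.1 e2).resolve_left (by norm_num)
  obtain ⟨x, hx⟩ := exists_cyc s
  rw [hs] at hx
  refine ⟨x, Perm.mem_alternatingGroup.2 (hx.sign (by decide)), _, hsum, fun g _ hgx => ?_⟩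
  rw [map_sum]
  have h1 : ∀ t ∈ s, ρ g (w t) = w (g t) := fun t _ => hw g t
  rw [Finset.sum_congr rfl h1]
  refine Finset.sum_bij (fun y _ => g y) (fun y hy => (hx.commute_mem (by norm_num) hgx).2 hy)
    (fun y _ z _ h => g.injective h) (fun y hy => ⟨g⁻¹ y, ?_, by simp⟩) (fun y _ => rfl)
  rw [← hx.commute_mem (by norm_num) hgx]
  simpa using hy

/-- the conclusion is invariant under the twist by the sign -/
theorem of_sgnTwist (ρ : Representation ℂ (Perm α) V)
    (h : ∃ x ∈ alternatingGroup α, ∃ v : V, v ≠ 0 ∧ ∀ g ∈ alternatingGroup α, Commute g x → sgnTwist ρ g v = v) :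
    ∃ x ∈ alternatingGroup α, ∃ v : V, v ≠ 0 ∧ ∀ g ∈ alternatingGroup α, Commute g x → ρ g v = v := by
  obtain ⟨x, hx, v, hv, h⟩ := h
  refine ⟨x, hx, v, hv, fun g hg hgx => ?_⟩
  have := h g hg hgx
  rwa [sgnTwist_even ρ (sign_of_mem hg)] at this

/-- the case `n = p` without fixed vectors of the `p`-cycles -/
theorem stepP (hkey : KeyLemma) (hp : (Fintype.card α).Prime) (h5 : 5 ≤ Fintype.card α) [FiniteDimensional ℂ V]
    [Nontrivial V] (ρ : Representation ℂ (Perm α) V)
    (hc : ∀ c : Perm α, Cyc (Fintype.card α) Finset.univ c → ∀ v, ρ c v = v → v = 0) :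
    ∃ x ∈ alternatingGroup α, ∃ v : V, v ≠ 0 ∧ ∀ g ∈ alternatingGroup α, Commute g x → ρ g v = v := by
  obtain ⟨a, v, hv0, h | h⟩ := key_type hkey hp h5 ρ hc
  · exact stepB h5 ρ hv0 h
  · refine of_sgnTwist ρ (stepB h5 (sgnTwist ρ) hv0 (a := a) fun g hg => ?_)
    rw [sgnTwist_apply, h g hg, smul_smul, sg_mul_self, one_smul]

end Fix

end Cfsg.Agent.H127.An
end

-- part: H127/An/Three
section
/-!
# Three-cycles and the small degrees (S4792, alternating groups)
-/

set_option autoImplicit false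
set_option linter.unusedSectionVars false

namespace Cfsg.Agent.H127.An

open Equiv

section Via

variable {α β : Type} [Fintype α] [DecidableEq α] [Fintype β] [DecidableEq β] {p : ℕ}

theorem Cyc.via {s' : Finset β} {c : Perm β} (h : Cyc p s' c) (f : β ↪ α) :
    Cyc p (s'.map f) (Perm.viaEmbeddingHom f c) where
  card := by rw [Finset.card_map, h.card]
  on := by
    have happ : ∀ (n : ℤ) (x : β), ((Perm.viaEmbeddingHom f c) ^ n) (f x) = f ((c ^ n) x) := by
      intro n x
      rw [← map_zpow]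
      exact Perm.viaEmbedding_apply (c ^ n) f x
    have happ1 : ∀ x : β, Perm.viaEmbeddingHom f c (f x) = f (c x) := Perm.viaEmbedding_apply c f
    rw [Finset.coe_map]
    refine ⟨⟨?_, (Perm.viaEmbeddingHom f c).injective.injOn, ?_⟩, ?_⟩
    · rintro _ ⟨x, hx, rfl⟩
      refine ⟨c x, h.mem_iff.2 hx, (happ1 x).symm⟩
    · rintro _ ⟨x, hx, rfl⟩
      refine ⟨f (c⁻¹ x), ⟨c⁻¹ x, ?_, rfl⟩, ?_⟩
      · rw [Finset.mem_coe, ← h.mem_iff]
        simpa using hx
      · rw [happ1]
        simp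
    · rintro _ ⟨x, hx, rfl⟩ _ ⟨y, hy, rfl⟩
      obtain ⟨k, hk⟩ := h.on.2 hx hy
      refine ⟨k, ?_⟩
      rw [happ k x, hk]
  supp := by
    intro x hx
    rw [Perm.mem_support] at hx
    by_cases hq : x ∈ Set.range f
    · obtain ⟨y, rfl⟩ := hq
      refine Finset.mem_map.2 ⟨y, h.supp (Perm.mem_support.2 fun h0 => hx ?_), rfl⟩
      have := Perm.viaEmbedding_apply c f y
      rw [h0] at this
      exact this
    · exact absurd (Perm.viaEmbedding_apply_of_notMem c f x hq) hx

theorem via_swap (f : β ↪ α) (i j : β) : Perm.viaEmbeddingHom f (swap i j) = swap (f i) (f j) := by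
  ext x
  by_cases hq : x ∈ Set.range f
  · obtain ⟨y, rfl⟩ := hq
    rw [Perm.viaEmbeddingHom_apply, Perm.viaEmbedding_apply]
    rcases eq_or_ne y i with rfl | hi
    · rw [swap_apply_left, swap_apply_left]
    rcases eq_or_ne y j with rfl | hj
    · rw [swap_apply_right, swap_apply_right]
    rw [swap_apply_of_ne_of_ne hi hj, swap_apply_of_ne_of_ne (f.injective.ne hi) (f.injective.ne hj)]
  · rw [Perm.viaEmbeddingHom_apply, Perm.viaEmbedding_apply_of_notMem _ f x hq, swap_apply_of_ne_of_ne]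
    · rintro rfl; exact hq ⟨i, rfl⟩
    · rintro rfl; exact hq ⟨j, rfl⟩

theorem cyc_of_isCycle {c : Perm α} (h : c.IsCycle) : Cyc c.support.card c.support c where
  card := rfl
  on := by
    rw [Perm.coe_support_eq_set_support]
    exact h.isCycleOn
  supp := Finset.Subset.refl _

end Via

section Four

variable {V : Type} [AddCommGroup V] [Module ℂ V]

/-- the double transpositions of four points -/
def dt (i : Fin 3) : Perm (Fin 4) := ![swap (0 : Fin 4) 1 * swap (2 : Fin 4) 3, swap (0 : Fin 4) 2 * swap (1 : Fin 4) 3, swap (0 : Fin 4) 3 * swap (1 : Fin 4) 2] i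

/-- a three-cycle -/
def d3 : Perm (Fin 4) := swap (1 : Fin 4) 2 * swap (1 : Fin 4) 3

theorem dt_sq : ∀ i, dt i * dt i = 1 := by decide
theorem dt_mul : ∀ i, dt i * dt (i + 1) = dt (i + 2) := by decide
theorem dt_comm : ∀ i j, dt i * dt j = dt j * dt i := by decide
theorem d3_pow : d3 * d3 * d3 = 1 := by decide
theorem d3_cases : (∀ i, dt i * d3 = d3 * dt (i + 1)) ∨ (∀ i, dt i * d3 = d3 * dt (i + 2)) := by decide

/-- if the three-cycles have no fixed vector then the double transpositions act trivially -/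
theorem dt_trivial (ρ : Representation ℂ (Perm (Fin 4)) V) (h : ∀ v, ρ d3 v = v → v = 0) (i : Fin 3) :
    ρ (dt i) = 1 := by
  -- there is no common eigenvector with the eigenvalue `1` for `dt j`, `-1` for the others
  have key : ∀ (j : Fin 3) (u : V), ρ (dt j) u = u → ρ (dt (j + 1)) u = -u → ρ (dt (j + 2)) u = -u → u = 0 := by
    intro j u h0 h1 h2
    have hS := h (u + ρ d3 u + ρ d3 (ρ d3 u)) (by
      rw [map_add, map_add]
      have e : ρ d3 (ρ d3 (ρ d3 u)) = u := by
        rw [← Module.End.mul_apply, ← Module.End.mul_apply, ← map_mul, ← map_mul, d3_pow, map_one,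
          Module.End.one_apply]
      rw [e]
      abel)
    have h1' : ρ (dt j) (ρ d3 u) = - ρ d3 u := by
      rw [← Module.End.mul_apply, ← map_mul]
      rcases d3_cases with hd | hd
      · rw [hd j, map_mul, Module.End.mul_apply, h1, map_neg]
      · rw [hd j, map_mul, Module.End.mul_apply, h2, map_neg]
    have h2' : ρ (dt j) (ρ d3 (ρ d3 u)) = - ρ d3 (ρ d3 u) := by
      rw [← Module.End.mul_apply, ← map_mul]
      rcases d3_cases with hd | hd
      · rw [hd j, map_mul, Module.End.mul_apply, ← Module.End.mul_apply (ρ (dt (j + 1))), ← map_mul, hd (j + 1),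
          map_mul, Module.End.mul_apply]
        have : j + 1 + 1 = j + 2 := by rw [add_assoc]; rfl
        rw [this, h2, map_neg, map_neg]
      · rw [hd j, map_mul, Module.End.mul_apply, ← Module.End.mul_apply (ρ (dt (j + 2))), ← map_mul, hd (j + 2),
          map_mul, Module.End.mul_apply]
        have : j + 2 + 2 = j + 1 := by rw [add_assoc]; rfl
        rw [this, h1, map_neg, map_neg]
    have h3 := congrArg (ρ (dt j)) hS
    rw [map_add, map_add, map_zero, h0, h1', h2'] at h3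
    have h4 : (2 : ℂ) • u = 0 := by
      have : (2 : ℂ) • u = (u + ρ d3 u + ρ d3 (ρ d3 u)) + (u + -ρ d3 u + -ρ d3 (ρ d3 u)) := by module
      rw [this, hS, h3, add_zero]
    exact (smul_eq_zero.1 h4).resolve_left two_ne_zero
  -- there is no common eigenvector with eigenvalue `-1` for `dt i` and `ε` for `dt (i + 1)`
  have key2 : ∀ (u : V), ρ (dt i) u = -u → u = 0 := by
    intro u hu
    have hsq : ρ (dt (i + 1)) (ρ (dt (i + 1)) u) = u := by
      rw [← Module.End.mul_apply, ← map_mul, dt_sq, map_one, Module.End.one_apply]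
    have hcm : ρ (dt i) (ρ (dt (i + 1)) u) = -ρ (dt (i + 1)) u := by
      rw [← Module.End.mul_apply, ← map_mul, dt_comm, map_mul, Module.End.mul_apply, hu, map_neg]
    have hthird : ∀ x, ρ (dt (i + 2)) x = ρ (dt i) (ρ (dt (i + 1)) x) := by
      intro x
      rw [← dt_mul, map_mul, Module.End.mul_apply]
    have i3 : i + 1 + 1 = i + 2 := by rw [add_assoc]; rfl
    have i4 : i + 1 + 2 = i := by rw [add_assoc, show (1 : Fin 3) + 2 = 0 from rfl, add_zero]
    have i5 : i + 2 + 1 = i := by rw [add_assoc, show (2 : Fin 3) + 1 = 0 from rfl, add_zero]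
    have i6 : i + 2 + 2 = i + 1 := by rw [add_assoc]; rfl
    have e1 : u + ρ (dt (i + 1)) u = 0 := by
      refine key (i + 1) _ ?_ ?_ ?_
      · rw [map_add, hsq, add_comm]
      · rw [i3, hthird, map_add, hsq, map_add, hcm, hu]
        abel
      · rw [i4, map_add, hu, hcm]
        abel
    have e2 : u - ρ (dt (i + 1)) u = 0 := by
      refine key (i + 2) _ ?_ ?_ ?_
      · rw [hthird, map_sub, hsq, map_sub, hcm, hu]
        abel
      · rw [i5, map_sub, hu, hcm]
        abel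
      · rw [i6, map_sub, hsq]
        abel
    have h4 : (2 : ℂ) • u = 0 := by
      have : (2 : ℂ) • u = (u + ρ (dt (i + 1)) u) + (u - ρ (dt (i + 1)) u) := by module
      rw [this, e1, e2, add_zero]
    exact (smul_eq_zero.1 h4).resolve_left two_ne_zero
  apply LinearMap.ext
  intro v
  rw [Module.End.one_apply, ← sub_eq_zero]
  apply key2
  rw [map_sub, ← Module.End.mul_apply, ← map_mul, dt_sq, map_one, Module.End.one_apply]
  abel

theorem cyc_d3 : ∃ s, Cyc 3 s d3 := by
  have h : d3.IsThreeCycle := Perm.isThreeCycle_swap_mul_swap_same (by decide) (by decide) (by decide)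
  have h1 := cyc_of_isCycle h.isCycle
  rw [h.card_support] at h1
  exact ⟨_, h1⟩

end Four

section General

variable {α : Type} [Fintype α] [DecidableEq α] {V : Type} [AddCommGroup V] [Module ℂ V]

/-- in degree at least five some three-cycle has a nonzero fixed vector -/
theorem exists_three (h5 : 5 ≤ Fintype.card α) [Nontrivial V] (ρ : Representation ℂ (Perm α) V) :
    ∃ (s : Finset α) (d : Perm α), Cyc 3 s d ∧ ∃ v : V, v ≠ 0 ∧ ρ d v = v := by
  by_contra hcon
  push Not at hcon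
  have hno : ∀ (s : Finset α) (c : Perm α), Cyc 3 s c → ∀ v, ρ c v = v → v = 0 := by
    intro s c hc v hv
    by_contra hv0
    exact hcon s c hc v hv0 hv
  have hdt : ∀ f : Fin 4 ↪ α, ρ (swap (f 0) (f 1) * swap (f 2) (f 3)) = 1 := by
    intro f
    obtain ⟨s, hs⟩ := cyc_d3
    have h := dt_trivial (ρ.comp (Perm.viaEmbeddingHom f)) (fun v hv => hno _ _ (hs.via f) v hv) 0
    change ρ (Perm.viaEmbeddingHom f (swap 0 1 * swap 2 3)) = 1 at h
    rwa [map_mul, via_swap, via_swap] at h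
  obtain ⟨F⟩ : Nonempty (Fin 5 ↪ α) := Function.Embedding.nonempty_of_card_le (by rwa [Fintype.card_fin])
  have hF : ∀ {i j : Fin 5}, i ≠ j → F i ≠ F j := fun h => F.injective.ne h
  let f1 : Fin 4 ↪ Fin 5 := ⟨![0, 1, 3, 4], by decide⟩
  let f2 : Fin 4 ↪ Fin 5 := ⟨![3, 4, 0, 2], by decide⟩
  have h1 : ρ (swap (F 0) (F 1) * swap (F 3) (F 4)) = 1 := hdt (f1.trans F)
  have h2 : ρ (swap (F 3) (F 4) * swap (F 0) (F 2)) = 1 := hdt (f2.trans F)
  have h3 : swap (F 0) (F 1) * swap (F 3) (F 4) * (swap (F 3) (F 4) * swap (F 0) (F 2)) =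
      swap (F 0) (F 1) * swap (F 0) (F 2) := by
    rw [mul_assoc, ← mul_assoc (swap (F 3) (F 4)), swap_mul_self, one_mul]
  have h4 : ρ (swap (F 0) (F 1) * swap (F 0) (F 2)) = 1 := by rw [← h3, map_mul, h1, h2, one_mul]
  have h5 : (swap (F 0) (F 1) * swap (F 0) (F 2)).IsThreeCycle :=
    Perm.isThreeCycle_swap_mul_swap_same (hF (by decide)) (hF (by decide)) (hF (by decide))
  have h6 := cyc_of_isCycle h5.isCycle
  rw [h5.card_support] at h6
  obtain ⟨v, hv⟩ := exists_ne (0 : V)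
  exact hv (hno _ _ h6 v (by rw [h4, Module.End.one_apply]))

end General

section Good

theorem Good.congr {α β : Type} [Fintype α] [DecidableEq α] [Fintype β] [DecidableEq β] (e : α ≃ β) (h : Good α) :
    Good β := by
  intro V _ _ _ _ ρ
  let Φ : Perm α ≃* Perm β := e.permCongrHom
  have hs : ∀ g : Perm α, Perm.sign (Φ g) = Perm.sign g := fun g => Perm.sign_permCongr e g
  obtain ⟨x, hx, v, hv, h1⟩ := h V (ρ.comp Φ.toMonoidHom)
  refine ⟨Φ x, ?_, v, hv, fun g hg hgx => ?_⟩
  · rw [Perm.mem_alternatingGroup, hs]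
    exact sign_of_mem hx
  · have e1 : Φ (Φ.symm g) = g := Φ.apply_symm_apply g
    have h2 := h1 (Φ.symm g) (by rw [Perm.mem_alternatingGroup, ← hs, e1]; exact sign_of_mem hg) (by
      apply Φ.injective
      rw [map_mul, map_mul, e1]
      exact hgx)
    change ρ (Φ (Φ.symm g)) v = v at h2
    rwa [e1] at h2

theorem good_of_trivial {α : Type} [Fintype α] [DecidableEq α] (h : ∀ g : Perm α, Perm.sign g = 1 → g = 1) :
    Good α := by
  intro V _ _ _ _ ρ
  obtain ⟨v, hv⟩ := exists_ne (0 : V)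
  refine ⟨1, one_mem _, v, hv, fun g hg _ => ?_⟩
  rw [h g (sign_of_mem hg), map_one, Module.End.one_apply]

theorem good_small {α : Type} [Fintype α] [DecidableEq α] (h : Fintype.card α ≤ 2) : Good α := by
  have h0 : ∀ n : ℕ, n ≤ 2 → Good (Fin n) := by
    intro n hn
    interval_cases n
    · exact good_of_trivial (by decide)
    · exact good_of_trivial (by decide)
    · exact good_of_trivial (by decide)
  exact (h0 _ h).congr (Fintype.equivFin α).symm

theorem dt_cent : ∀ g : Perm (Fin 4), Perm.sign g = 1 → g * dt 0 = dt 0 * g →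
    g = 1 ∨ g = dt 0 ∨ g = dt 1 ∨ g = dt 2 := by (set_option synthInstance.maxSize 9000 in open scoped Cfsg.Agent.Lib.FastPerm in decide +kernel)

theorem good_four : Good (Fin 4) := by
  intro V _ _ _ _ ρ
  by_cases h : ∃ v, v ≠ 0 ∧ ρ d3 v = v
  · obtain ⟨v, hv, h1⟩ := h
    obtain ⟨s, hs⟩ := cyc_d3
    have hcard : Fintype.card {x : Fin 4 // x ∉ s} = 1 := by
      rw [Fintype.card_subtype_compl, Fintype.card_coe, hs.card, Fintype.card_fin]
    exact stepA Nat.prime_three (by norm_num) hs (by omega) (good_small (by omega)) ρ hv h1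
  · have h1 := dt_trivial ρ (fun v hv => by
      by_contra hv0
      exact h ⟨v, hv0, hv⟩)
    obtain ⟨v, hv⟩ := exists_ne (0 : V)
    refine ⟨dt 0, Perm.mem_alternatingGroup.2 (by decide), v, hv, fun g hg hgx => ?_⟩
    rcases dt_cent g (sign_of_mem hg) hgx with rfl | rfl | rfl | rfl
    · rw [map_one, Module.End.one_apply]
    · rw [h1, Module.End.one_apply]
    · rw [h1, Module.End.one_apply]
    · rw [h1, Module.End.one_apply]

end Good

end Cfsg.Agent.H127.An
end

-- part: H127/An/StepM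
section
/-!
# The case `n = p + 3` (S4792, alternating groups)
-/

set_option autoImplicit false
set_option linter.unusedSectionVars false

namespace Cfsg.Agent.H127.An

open Equiv

section Basic

variable {α : Type} [Fintype α] [DecidableEq α] {p : ℕ} {s : Finset α} {c : Perm α}

theorem Cyc.ne (h : Cyc p s c) (hp : 2 ≤ p) {x : α} (hx : x ∈ s) : c x ≠ x := by
  intro h0
  have h2 := (h.on.pow_apply_eq hx (n := 1)).1 (by rwa [pow_one])
  rw [h.card] at h2
  have := Nat.le_of_dvd one_pos h2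
  omega

theorem Cyc.support_eq (h : Cyc p s c) (hp : 2 ≤ p) : c.support = s := by
  apply Finset.Subset.antisymm h.supp
  intro x hx
  rw [Perm.mem_support]
  exact h.ne hp hx

theorem Cyc.isCycle (h : Cyc p s c) (hp : 2 ≤ p) : c.IsCycle := by
  rw [Perm.isCycle_iff_exists_isCycleOn]
  refine ⟨s, ?_, h.on, fun x hx => h.supp (Perm.mem_support.2 hx)⟩
  rw [Finset.nontrivial_coe, ← Finset.one_lt_card_iff_nontrivial, h.card]
  omega

theorem Cyc.sign_even (h : Cyc p s c) (hp : 2 ≤ p) (he : Even p) : Perm.sign c = -1 := by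
  rw [(h.isCycle hp).sign, h.support_eq hp, h.card, he.neg_one_pow]

/-- an even permutation moving only the points of the three-cycle `d` is a power of `d` -/
theorem Cyc.eq_pow (h : Cyc 3 s c) {g : Perm α} (hg : ∀ x, x ∉ s → g x = x) (hs : Perm.sign g = 1) :
    ∃ n : ℕ, g = c ^ n := by
  obtain ⟨x, hx⟩ : s.Nonempty := by rw [← Finset.card_pos, h.card]; omega
  have hgx : g x ∈ s := by
    by_contra hcon
    have h1 := g.injective (hg _ hcon)
    rw [h1] at hcon
    exact hcon hx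
  obtain ⟨n, -, hn⟩ := h.exists_pow hx hgx
  refine ⟨n, ?_⟩
  set g1 : Perm α := (c ^ n)⁻¹ * g with hg1
  have h1 : g1 x = x := by
    rw [hg1, Perm.mul_apply, ← hn]
    simp
  have h2 : ∀ y, y ∉ s → g1 y = y := by
    intro y hy
    rw [hg1, Perm.mul_apply, hg y hy, Perm.inv_eq_iff_eq, h.pow_fix hy]
  have h3 : Perm.sign g1 = 1 := by
    rw [hg1, map_mul, map_inv, map_pow, h.sign (by decide), hs, one_pow, inv_one, one_mul]
  have h4 : g1.support ⊆ s.erase x := by
    intro y hy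
    rw [Perm.mem_support] at hy
    rw [Finset.mem_erase]
    refine ⟨?_, ?_⟩
    · rintro rfl; exact hy h1
    · by_contra hcon; exact hy (h2 y hcon)
  have h5 : g1.support.card ≤ 2 := by
    refine (Finset.card_le_card h4).trans ?_
    rw [Finset.card_erase_of_mem hx, h.card]
  have h6 : g1 = 1 := by
    rcases Nat.lt_or_ge g1.support.card 2 with h7 | h7
    · exact Perm.card_support_le_one.1 (by omega)
    · have h8 := Perm.card_support_eq_two.1 (le_antisymm h5 h7)
      rw [h8.sign_eq] at h3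
      exact absurd h3 (by decide)
  rw [hg1] at h6
  rw [← mul_one (c ^ n), ← h6, mul_inv_cancel_left]

end Basic

section StepM

variable {α : Type} [Fintype α] [DecidableEq α] {V : Type} [AddCommGroup V] [Module ℂ V]

/-- the permutation `x = d z₁ z₂` -/
theorem exists_x {p : ℕ} (h5 : 5 ≤ p) (hodd : Odd p) {t : Finset α} (hα : Fintype.card α = p + 3) {d : Perm α}
    (hd : Cyc 3 t d) {a : α} (ha : a ∉ t) :
    ∃ x : Perm α, Perm.sign x = 1 ∧ (∀ y, x y = y ↔ y = a) ∧ (∀ y ∈ t, x y = d y) ∧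
      ∀ y, (x ^ 3) y = y ↔ y ∈ t ∨ y = a := by
  -- the complement of `t ∪ {a}`
  set r : Finset α := (insert a t)ᶜ with hr
  have hrc : r.card = p - 1 := by
    rw [hr, Finset.card_compl, Finset.card_insert_of_notMem ha, hd.card, hα]
    omega
  have hmr : ∀ y, y ∈ r ↔ y ≠ a ∧ y ∉ t := by
    intro y
    rw [hr, Finset.mem_compl, Finset.mem_insert, not_or]
  obtain ⟨u, hur, huc⟩ := Finset.exists_subset_card_eq (s := r) (n := 2) (by omega)
  set u' : Finset α := r \ u with hu'
  have hu'c : u'.card = p - 3 := by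
    rw [hu', Finset.card_sdiff_of_subset hur, hrc, huc]
    omega
  have hp3 : Even (p - 3) := by
    obtain ⟨k, hk⟩ := hodd
    exact ⟨k - 1, by omega⟩
  have hp3' : 2 ≤ p - 3 := by omega
  obtain ⟨z1, hz1⟩ := exists_cyc u
  obtain ⟨z2, hz2⟩ := exists_cyc u'
  rw [huc] at hz1
  rw [hu'c] at hz2
  have htu : ∀ y ∈ t, y ∉ u := fun y hy hyu => ((hmr y).1 (hur hyu)).2 hy
  have htu' : ∀ y ∈ t, y ∉ u' := fun y hy hyu => ((hmr y).1 (Finset.mem_sdiff.1 hyu).1).2 hy
  have huu' : ∀ y ∈ u, y ∉ u' := fun y hy hyu => (Finset.mem_sdiff.1 hyu).2 hy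
  have hau : a ∉ u := fun h => ((hmr a).1 (hur h)).1 rfl
  have hau' : a ∉ u' := fun h => ((hmr a).1 (Finset.mem_sdiff.1 h).1).1 rfl
  have hcov : ∀ y, y = a ∨ y ∈ t ∨ y ∈ u ∨ y ∈ u' := by
    intro y
    by_cases h1 : y = a
    · exact Or.inl h1
    by_cases h2 : y ∈ t
    · exact Or.inr (Or.inl h2)
    by_cases h3 : y ∈ u
    · exact Or.inr (Or.inr (Or.inl h3))
    · exact Or.inr (Or.inr (Or.inr (Finset.mem_sdiff.2 ⟨(hmr y).2 ⟨h1, h2⟩, h3⟩)))
  set x : Perm α := d * (z1 * z2) with hx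
  -- powers of `x`
  have hcm1 : Commute z1 z2 := (hz1.comm_of_fix (g := z2) fun y hy => hz2.fix (huu' y hy)).symm
  have hcm2 : Commute (z1 * z2) d := hd.comm_of_fix fun y hy => by
    rw [Perm.mul_apply, hz2.fix (htu' y hy), hz1.fix (htu y hy)]
  have hpow : ∀ n : ℕ, x ^ n = d ^ n * (z1 ^ n * z2 ^ n) := by
    intro n
    rw [hx, (hcm2.symm).mul_pow, hcm1.mul_pow]
  have hz1u : ∀ (n : ℕ) (y : α), y ∈ u → (z1 ^ n) y ∈ u := by
    intro n y hy
    induction n with
    | zero => exact hy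
    | succ n ih => rw [pow_succ', Perm.mul_apply]; exact hz1.mem_iff.2 ih
  have hz2u : ∀ (n : ℕ) (y : α), y ∈ u' → (z2 ^ n) y ∈ u' := by
    intro n y hy
    induction n with
    | zero => exact hy
    | succ n ih => rw [pow_succ', Perm.mul_apply]; exact hz2.mem_iff.2 ih
  have ha' : ∀ n : ℕ, (x ^ n) a = a := by
    intro n
    rw [hpow, Perm.mul_apply, Perm.mul_apply, hz2.pow_fix hau', hz1.pow_fix hau, hd.pow_fix ha]
  have ht' : ∀ (n : ℕ) (y : α), y ∈ t → (x ^ n) y = (d ^ n) y := by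
    intro n y hy
    rw [hpow, Perm.mul_apply, Perm.mul_apply, hz2.pow_fix (htu' y hy), hz1.pow_fix (htu y hy)]
  have hu1 : ∀ (n : ℕ) (y : α), y ∈ u → (x ^ n) y = (z1 ^ n) y := by
    intro n y hy
    rw [hpow, Perm.mul_apply, Perm.mul_apply, hz2.pow_fix (huu' y hy), hd.pow_fix]
    intro h
    exact htu _ h (hz1u n y hy)
  have hu2 : ∀ (n : ℕ) (y : α), y ∈ u' → (x ^ n) y = (z2 ^ n) y := by
    intro n y hy
    rw [hpow, Perm.mul_apply, Perm.mul_apply, hz1.pow_fix, hd.pow_fix]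
    · intro h
      exact htu' _ h (hz2u n y hy)
    · intro h
      exact huu' _ h (hz2u n y hy)
  refine ⟨x, ?_, fun y => ?_, fun y hy => ?_, fun y => ?_⟩
  · rw [hx, map_mul, map_mul, hd.sign (by decide), hz1.sign_even le_rfl (by decide), hz2.sign_even hp3' hp3]
    decide
  · constructor
    · intro h
      have h1 : (x ^ 1) y = y := by rwa [pow_one]
      rcases hcov y with hy | hy | hy | hy
      · exact hy
      · rw [ht' 1 y hy, pow_one] at h1
        exact absurd h1 (hd.ne (by norm_num) hy)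
      · rw [hu1 1 y hy, pow_one] at h1
        exact absurd h1 (hz1.ne le_rfl hy)
      · rw [hu2 1 y hy, pow_one] at h1
        exact absurd h1 (hz2.ne hp3' hy)
    · rintro rfl
      have := ha' 1
      rwa [pow_one] at this
  · have := ht' 1 y hy
    rwa [pow_one, pow_one] at this
  · constructor
    · intro h
      rcases hcov y with hy | hy | hy | hy
      · exact Or.inr hy
      · exact Or.inl hy
      · rw [hu1 3 y hy, hz1.on.pow_apply_eq hy, huc] at h
        exact absurd h (by norm_num)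
      · rw [hu2 3 y hy, hz2.on.pow_apply_eq hy, hu'c] at h
        exfalso
        have := Nat.le_of_dvd (by norm_num) h
        obtain ⟨k, hk⟩ := hp3
        have h23 : p - 3 = 2 := by omega
        rw [h23] at h
        omega
    · rintro (hy | rfl)
      · rw [ht' 3 y hy, hd.pow_eq_one, Perm.one_apply]
      · exact ha' 3

/-- **Case `n = p + 3`** -/
theorem stepM (hkey : KeyLemma) {p : ℕ} (hp : p.Prime) (h5 : 5 ≤ p) (hα : Fintype.card α = p + 3)
    [FiniteDimensional ℂ V] [Nontrivial V] (ρ : Representation ℂ (Perm α) V) :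
    ∃ x ∈ alternatingGroup α, ∃ v : V, v ≠ 0 ∧ ∀ g ∈ alternatingGroup α, Commute g x → ρ g v = v := by
  have hodd : Odd p := hp.odd_of_ne_two (by omega)
  by_cases hcase : ∃ (s : Finset α) (c : Perm α) (v : V), Cyc p s c ∧ v ≠ 0 ∧ ρ c v = v ∧
      ∀ g ∈ alternatingGroup {x : α // x ∉ s}, ρ (Perm.ofSubtype g) v = v
  · obtain ⟨s, c, v, hc, hv0, hv, hg⟩ := hcase
    have hcard : Fintype.card {x : α // x ∉ s} = 3 := by
      rw [Fintype.card_subtype_compl, Fintype.card_coe, hc.card, hα, Nat.add_sub_cancel_left]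
    exact stepA' hp (by omega) hc (by omega) ρ hv0 hv (one_mem _) fun g hg' _ => hg g hg'
  obtain ⟨t, d, hd, v0, hv00, hv0⟩ := exists_three (α := α) (by omega) ρ
  -- the representation on the fixed space of `d`
  have hof : ∀ (h : Perm {x : α // x ∉ t}) (x : α), x ∈ t → Perm.ofSubtype h x = x := fun h x hx =>
    Perm.ofSubtype_apply_of_not_mem h (not_not.2 hx)
  have hcomm : ∀ h : Perm {x : α // x ∉ t}, Commute (Perm.ofSubtype h) d := fun h => hd.comm_of_fix (hof h)
  have hnt : Nontrivial (fixS ρ d) :=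
    ⟨⟨⟨v0, mem_fixS.2 hv0⟩, 0, fun h => hv00 (congrArg Subtype.val h)⟩⟩
  have hcard : Fintype.card {x : α // x ∉ t} = p := by
    rw [Fintype.card_subtype_compl, Fintype.card_coe, hd.card, hα, Nat.add_sub_cancel]
  obtain ⟨a, y, hy0, hy⟩ := key_type hkey (α := {x : α // x ∉ t}) (by rw [hcard]; exact hp) (by rw [hcard]; exact h5)
    (fixRep ρ d Perm.ofSubtype hcomm) (by
      intro c hc v hv
      rw [hcard] at hc
      by_contra hv0
      apply hcase
      refine ⟨_, _, (v : V), hc.ofSubtype, fun h => hv0 (Subtype.ext h), congrArg Subtype.val hv, fun g hg => ?_⟩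
      have hgfix : ∀ x, x ∉ t → Perm.ofSubtype g x = x := by
        intro x hx
        refine Perm.ofSubtype_apply_of_not_mem g ?_
        rw [not_not]
        exact Finset.mem_map.2 ⟨⟨x, hx⟩, Finset.mem_univ _, rfl⟩
      obtain ⟨n, hn⟩ := hd.eq_pow (g := Perm.ofSubtype g) hgfix (by rw [Perm.sign_ofSubtype]; exact sign_of_mem hg)
      rw [hn, pow_fix (mem_fixS.1 v.2)])
  obtain ⟨x, hxs, hx1, hxt, hx3⟩ := exists_x h5 hodd hα hd a.2
  refine ⟨x, Perm.mem_alternatingGroup.2 hxs, y, fun h => hy0 (Subtype.ext h), fun g hg hgx => ?_⟩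
  have hxg : ∀ (n : ℕ) (z : α), (x ^ n) (g z) = g ((x ^ n) z) := by
    intro n z
    have := congrArg (fun f : Perm α => f z) (hgx.pow_right n).eq
    exact this.symm
  have hga : g a = a := by
    rw [← hx1]
    have := hxg 1 a
    rw [pow_one, (hx1 a).2 rfl] at this
    exact this
  have hgt : ∀ z, z ∈ t → g z ∈ t := by
    intro z hz
    have h1 : (x ^ 3) (g z) = g z := by rw [hxg, (hx3 z).2 (Or.inl hz)]
    rcases (hx3 _).1 h1 with h2 | h2
    · exact h2
    · exfalso
      have h3 : z = a := g.injective (h2.trans hga.symm)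
      rw [h3] at hz
      exact a.2 hz
  -- on `t` the permutation `g` is a power of `d`
  obtain ⟨z0, hz0⟩ : t.Nonempty := by rw [← Finset.card_pos, hd.card]; omega
  obtain ⟨n, -, hn⟩ := hd.exists_pow hz0 (hgt z0 hz0)
  have hdt : ∀ (m : ℕ) (z : α), z ∈ t → (d ^ m) z ∈ t := by
    intro m z hz
    induction m with
    | zero => exact hz
    | succ m ih => rw [pow_succ', Perm.mul_apply]; exact hd.mem_iff.2 ih
  have hxd : ∀ (m : ℕ) (z : α), z ∈ t → (x ^ m) z = (d ^ m) z := by
    intro m z hz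
    induction m with
    | zero => rfl
    | succ m ih =>
      rw [pow_succ', pow_succ', Perm.mul_apply, Perm.mul_apply, ih, hxt _ (hdt m z hz)]
  have hgd : ∀ z ∈ t, g z = (d ^ n) z := by
    intro z hz
    obtain ⟨m, -, rfl⟩ := hd.exists_pow hz0 hz
    rw [← hxd m z0 hz0, ← hxg, ← hn, hxd m z0 hz0, hxd m _ (hdt n z0 hz0), ← Perm.mul_apply, ← Perm.mul_apply,
      ← pow_add, ← pow_add, add_comm]
  obtain ⟨g', hg'⟩ := exists_ofSubtype (q := fun x => x ∉ t) (g := (d ^ n)⁻¹ * g) (fun z hz => by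
    rw [not_not] at hz
    rw [Perm.mul_apply, Perm.inv_eq_iff_eq]
    exact hgd z hz)
  have hg'a : g' a = a := by
    apply Subtype.ext
    have h1 := Perm.ofSubtype_apply_coe g' a
    rw [← h1, hg', Perm.mul_apply, hga, Perm.inv_eq_iff_eq, hd.pow_fix a.2]
  have hg's : Perm.sign g' = 1 := by
    rw [← Perm.sign_ofSubtype, hg', map_mul, map_inv, map_pow, hd.sign (by decide), sign_of_mem hg, one_pow, inv_one,
      one_mul]
  have hfix : ρ (Perm.ofSubtype g') y = (y : V) := by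
    rcases hy with h | h
    · exact congrArg Subtype.val (h g' hg'a)
    · have h1 := h g' hg'a
      rw [sg_even hg's, one_smul] at h1
      exact congrArg Subtype.val h1
  have e : g = d ^ n * Perm.ofSubtype g' := by rw [hg', mul_inv_cancel_left]
  rw [e, map_mul, Module.End.mul_apply, hfix, pow_fix (mem_fixS.1 y.2)]

end StepM

end Cfsg.Agent.H127.An
end

-- part: H127/An/Rel
section
/-!
# The relation lemma (S4792, alternating groups)

`rel` : in a representation `V ≠ 0` of `S_{p+1}`, `p ≥ 5` prime, some `p`-cycle has a nonzero fixed vector.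
-/

set_option autoImplicit false
set_option linter.unusedSectionVars false

namespace Cfsg.Agent.H127.An

open Equiv

variable {α : Type} [Fintype α] [DecidableEq α] {V : Type} [AddCommGroup V] [Module ℂ V]

/-- the relations of the function `w` -/
theorem rel_fn {p : ℕ} (h5 : 5 ≤ p) (hα : Fintype.card α = p + 1) (ρ : Representation ℂ (Perm α) V)
    (hno : ∀ (s : Finset α) (c : Perm α), Cyc p s c → ∀ v, ρ c v = v → v = 0)
    (w : α × α → V) (hw : ∀ (g : Perm α) (x : α × α), ρ g (w x) = w (g • x)) (hw0 : ∀ i, w (i, i) = 0)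
    {ε : ℂ} (hε : ε * ε = 1) (hsym : ∀ i j, w (j, i) = ε • w (i, j)) : w = 0 := by
  have hw' : ∀ (g : Perm α) (i j : α), ρ g (w (i, j)) = w (g i, g j) := fun g i j => hw g (i, j)
  -- row sums
  have hsum : ∀ i, ∑ j, w (i, j) = 0 := by
    intro i
    obtain ⟨c, hc⟩ := exists_cyc (Finset.univ.erase i)
    have hcard : (Finset.univ.erase i).card = p := by
      rw [Finset.card_erase_of_mem (Finset.mem_univ i), Finset.card_univ, hα, Nat.add_sub_cancel]
    rw [hcard] at hc
    refine hno _ c hc _ ?_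
    rw [map_sum]
    have hi : c i = i := hc.fix (by simp only [_root_.Finset.mem_erase, _root_.ne_eq, _root_.not_true_eq_false, _root_.Finset.mem_univ, _root_.and_true, _root_.not_false_eq_true])
    calc ∑ j, ρ c (w (i, j)) = ∑ j, w (i, c j) := Finset.sum_congr rfl fun j _ => by rw [hw', hi]
      _ = ∑ j, w (i, j) := Equiv.sum_comp c fun j => w (i, j)
  -- the sum over a cycle
  have hcyc : ∀ (s : Finset α) (c : Perm α), Cyc p s c → ∑ y ∈ s, w (y, c y) = 0 := by
    intro s c hc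
    refine hno s c hc _ ?_
    rw [map_sum]
    have h1 : ∀ y ∈ s, ρ c (w (y, c y)) = w (c y, c (c y)) := fun y _ => hw' c _ _
    rw [Finset.sum_congr rfl h1]
    refine Finset.sum_bij (fun y _ => c y) (fun y hy => hc.mem_iff.2 hy) (fun y _ z _ h => c.injective h)
      (fun y hy => ⟨c⁻¹ y, ?_, ?_⟩) (fun y _ => rfl)
    · rw [← hc.mem_iff]
      simpa using hy
    · simp
  -- the basic relation
  have hrel : ∀ i k l j : α, i ≠ k → i ≠ l → i ≠ j → k ≠ l → k ≠ j → l ≠ j →
      w (i, k) + w (k, l) + w (l, j) = w (i, l) + w (l, k) + w (k, j) := by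
    intro i k l j hik hil hij hkl hkj hlj
    -- a `p`-cycle `i → k → l → j`
    obtain ⟨c, s, hc, h1, h2, h3, his, hks, hls⟩ : ∃ (c : Perm α) (s : Finset α), Cyc p s c ∧ c i = k ∧ c k = l ∧
        c l = j ∧ i ∈ s ∧ k ∈ s ∧ l ∈ s := by
      obtain ⟨s0, hs0⟩ : ∃ s0 : Finset α, s0.card = p := by
        obtain ⟨s0, -, hs0⟩ := Finset.exists_subset_card_eq (s := (Finset.univ : Finset α)) (n := p) (by
          rw [Finset.card_univ, hα]; omega)
        exact ⟨s0, hs0⟩
      obtain ⟨c0, hc0⟩ := exists_cyc s0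
      rw [hs0] at hc0
      obtain ⟨x0, hx0⟩ : s0.Nonempty := by rw [← Finset.card_pos, hs0]; omega
      have hmem : ∀ n : ℕ, (c0 ^ n) x0 ∈ s0 := by
        intro n
        induction n with
        | zero => exact hx0
        | succ n ih => rw [pow_succ', Perm.mul_apply]; exact hc0.mem_iff.2 ih
      have hne : ∀ m n : ℕ, m < n → n < p → (c0 ^ m) x0 ≠ (c0 ^ n) x0 := by
        intro m n hmn hnp h
        have e1 : (c0 ^ (n - m)) x0 = x0 := by
          have : (c0 ^ m) ((c0 ^ (n - m)) x0) = (c0 ^ m) x0 := by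
            rw [← Perm.mul_apply, ← pow_add, Nat.add_sub_cancel' hmn.le, h]
          exact (c0 ^ m).injective this
        have e2 := (hc0.on.pow_apply_eq hx0).1 e1
        rw [hs0] at e2
        have := Nat.le_of_dvd (by omega) e2
        omega
      obtain ⟨g, g0, g1, g2, g3⟩ := exists_perm4 (hne 0 1 (by omega) (by omega)) (hne 0 2 (by omega) (by omega))
        (hne 0 3 (by omega) (by omega)) (hne 1 2 (by omega) (by omega)) (hne 1 3 (by omega) (by omega))
        (hne 2 3 (by omega) (by omega)) hik hil hij hkl hkj hlj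
      have hconj : ∀ n : ℕ, (g * c0 * g⁻¹) (g ((c0 ^ n) x0)) = g ((c0 ^ (n + 1)) x0) := by
        intro n
        have e : g⁻¹ (g ((c0 ^ n) x0)) = (c0 ^ n) x0 := by simp
        rw [Perm.mul_apply, Perm.mul_apply, e, pow_succ', Perm.mul_apply]
      have hgm : ∀ n : ℕ, g ((c0 ^ n) x0) ∈ s0.map g.toEmbedding := fun n => Finset.mem_map_of_mem _ (hmem n)
      refine ⟨g * c0 * g⁻¹, s0.map g.toEmbedding, hc0.conj g, ?_, ?_, ?_, ?_, ?_, ?_⟩
      · rw [← g0, hconj 0, g1]
      · rw [← g1, hconj 1, g2]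
      · rw [← g2, hconj 2, g3]
      · rw [← g0]; exact hgm 0
      · rw [← g1]; exact hgm 1
      · rw [← g2]; exact hgm 2
    set t : Perm α := swap k l with ht
    have hc' : Cyc p s (t * c * t⁻¹) := by
      have := hc.conj t
      have e : s.map t.toEmbedding = s := by
        apply Finset.eq_of_subset_of_card_le
        · intro x hx
          obtain ⟨y, hy, rfl⟩ := Finset.mem_map.1 hx
          show swap k l y ∈ s
          rcases eq_or_ne y k with rfl | hyk
          · rw [swap_apply_left]; exact hls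
          rcases eq_or_ne y l with rfl | hyl
          · rw [swap_apply_right]; exact hks
          rw [swap_apply_of_ne_of_ne hyk hyl]; exact hy
        · rw [Finset.card_map]
      rwa [e] at this
    have hti : t⁻¹ = t := by rw [ht, swap_inv]
    have htk : t k = l := swap_apply_left k l
    have htl : t l = k := swap_apply_right k l
    have hto : ∀ y, y ≠ k → y ≠ l → t y = y := fun y h1 h2 => swap_apply_of_ne_of_ne h1 h2
    have hc'a : ∀ y, (t * c * t⁻¹) y = t (c (t y)) := fun y => by rw [hti]; rfl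
    have e1 : (t * c * t⁻¹) i = l := by rw [hc'a, hto i hik hil, h1, htk]
    have e2 : (t * c * t⁻¹) l = k := by rw [hc'a, htl, h2, htl]
    have e3 : (t * c * t⁻¹) k = j := by rw [hc'a, htk, h3, hto j hkj.symm hlj.symm]
    have e4 : ∀ y, y ≠ i → y ≠ k → y ≠ l → (t * c * t⁻¹) y = c y := by
      intro y hi hk hl
      rw [hc'a, hto y hk hl]
      apply hto
      · intro h; exact hi (c.injective (h.trans h1.symm))
      · intro h; exact hk (c.injective (h.trans h2.symm))
    have s1 := hcyc s c hc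
    have s2 := hcyc s _ hc'
    have key : ∀ f : α → V, ∑ y ∈ s, f y = f i + f k + f l + ∑ y ∈ ((s.erase i).erase k).erase l, f y := by
      intro f
      have m1 : k ∈ s.erase i := Finset.mem_erase.2 ⟨hik.symm, hks⟩
      have m2 : l ∈ (s.erase i).erase k := Finset.mem_erase.2 ⟨hkl.symm, Finset.mem_erase.2 ⟨hil.symm, hls⟩⟩
      rw [← Finset.add_sum_erase s f his, ← Finset.add_sum_erase _ f m1, ← Finset.add_sum_erase _ f m2]
      abel
    rw [key] at s1 s2
    have s3 : ∑ y ∈ ((s.erase i).erase k).erase l, w (y, (t * c * t⁻¹) y) =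
        ∑ y ∈ ((s.erase i).erase k).erase l, w (y, c y) := by
      refine Finset.sum_congr rfl fun y hy => ?_
      simp only [Finset.mem_erase] at hy
      rw [e4 y hy.2.2.1 hy.2.1 hy.1]
    rw [s3, e1, e2, e3] at s2
    rw [h1, h2, h3] at s1
    rw [← sub_eq_zero]
    have s4 := s1.trans s2.symm
    rw [← sub_eq_zero] at s4
    rw [← s4]
    abel
  -- summation
  have hp0 : ((p : ℂ) - ε) ≠ 0 := by
    intro h
    have h1 : (p : ℂ) = ε := sub_eq_zero.1 h
    rw [← h1] at hε
    have h2 : p * p = 1 := by exact_mod_cast hε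
    nlinarith only [h5, h2]
  have hp1 : ((p : ℂ) - 1 + ε) ≠ 0 := by
    intro h
    have h1 : ε = 1 - (p : ℂ) := by linear_combination h
    rw [h1] at hε
    have h2 : ((p : ℂ) * p) = ((2 * p : ℕ) : ℂ) := by push_cast; linear_combination hε
    have h3 : p * p = 2 * p := by exact_mod_cast h2
    nlinarith only [h5, h3]
  have heq : ∀ i k j : α, i ≠ k → i ≠ j → k ≠ j → w (i, k) = w (k, j) := by
    intro i k j hik hij hkj
    set Fn : α → V := fun l => w (i, k) + (1 - ε) • w (k, l) + w (l, j) - w (i, l) - w (k, j) with hF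
    have hF0 : ∀ l, l ≠ i → l ≠ k → l ≠ j → Fn l = 0 := by
      intro l hi hk hj
      have := hrel i k l j hik hi.symm hij hk.symm hkj hj
      rw [hsym k l] at this
      simp only [hF]
      have h2 : w (i, k) + w (k, l) + w (l, j) - (w (i, l) + ε • w (k, l) + w (k, j)) = 0 := by
        rw [this, sub_self]
      rw [← h2]
      module
    have hcol : ∑ l, w (l, j) = 0 := by
      have : ∀ l, w (l, j) = ε • w (j, l) := fun l => hsym j l
      rw [Finset.sum_congr rfl fun l _ => this l, ← Finset.smul_sum, hsum, smul_zero]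
    have hS1 : ∑ l, Fn l = ((p : ℂ) + 1) • (w (i, k) - w (k, j)) := by
      simp only [hF, Finset.sum_sub_distrib, Finset.sum_add_distrib, ← Finset.smul_sum, hsum, hcol, Finset.sum_const,
        Finset.card_univ, hα, smul_zero, add_zero, sub_zero]
      rw [← Nat.cast_smul_eq_nsmul ℂ, ← Nat.cast_smul_eq_nsmul ℂ]
      push_cast
      module
    have hS2 : ∑ l, Fn l = Fn i + Fn k + Fn j := by
      have m1 : k ∈ Finset.univ.erase i := Finset.mem_erase.2 ⟨hik.symm, Finset.mem_univ _⟩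
      have m2 : j ∈ (Finset.univ.erase i).erase k :=
        Finset.mem_erase.2 ⟨hkj.symm, Finset.mem_erase.2 ⟨hij.symm, Finset.mem_univ _⟩⟩
      rw [← Finset.add_sum_erase _ Fn (Finset.mem_univ i), ← Finset.add_sum_erase _ Fn m1,
        ← Finset.add_sum_erase _ Fn m2, Finset.sum_eq_zero, add_zero, add_assoc]
      intro l hl
      simp only [Finset.mem_erase] at hl
      exact hF0 l hl.2.2.1 hl.2.1 hl.1
    have h1 : Fn i = w (i, k) + (1 - ε) • (ε • w (i, k)) + w (i, j) - w (k, j) := by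
      simp only [hF]
      rw [hsym i k, hw0, sub_zero]
    have h2 : Fn k = 0 := by
      simp only [hF]
      rw [hw0, smul_zero, add_zero]
      abel
    have h3 : Fn j = w (i, k) + (1 - ε) • w (k, j) - w (i, j) - w (k, j) := by
      simp only [hF]
      rw [hw0, add_zero]
    rw [hS1, h1, h2, h3] at hS2
    have h4 : ((p : ℂ) - ε) • (w (i, k) - w (k, j)) = 0 := by
      have h5 : ((p : ℂ) + 1) • (w (i, k) - w (k, j)) - (w (i, k) + (1 - ε) • (ε • w (i, k)) + w (i, j) - w (k, j) + 0 +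
        (w (i, k) + (1 - ε) • w (k, j) - w (i, j) - w (k, j))) = 0 := by rw [hS2, sub_self]
      rw [← h5]
      have h6 : (1 - ε) • (ε • w (i, k)) = ε • w (i, k) - (ε * ε) • w (i, k) := by
        rw [smul_smul, ← sub_smul]
        congr 1
        ring
      rw [h6, hε]
      module
    exact sub_eq_zero.1 ((smul_eq_zero.1 h4).resolve_left hp0)
  -- conclusion
  funext ⟨i, k⟩
  rcases eq_or_ne i k with rfl | hik
  · exact hw0 i
  have h1 := hsum k
  have m1 : i ∈ Finset.univ.erase k := Finset.mem_erase.2 ⟨hik, Finset.mem_univ _⟩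
  rw [← Finset.add_sum_erase _ _ (Finset.mem_univ k), ← Finset.add_sum_erase _ _ m1, hw0, zero_add, hsym i k,
    Finset.sum_congr rfl (g := fun _ => w (i, k)) ?_, Finset.sum_const] at h1
  · have hc : ((Finset.univ.erase k).erase i).card = p - 1 := by
      rw [Finset.card_erase_of_mem m1, Finset.card_erase_of_mem (Finset.mem_univ k), Finset.card_univ, hα,
        Nat.add_sub_cancel]
    rw [hc, ← Nat.cast_smul_eq_nsmul ℂ, ← add_smul] at h1
    have h2 := (smul_eq_zero.1 h1).resolve_left ?_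
    · exact h2
    · intro h
      apply hp1
      rw [← h, Nat.cast_sub (by omega)]
      push_cast
      ring
  · intro j hj
    simp only [Finset.mem_erase, Finset.mem_univ, and_true] at hj
    exact (heq i k j hik hj.1.symm hj.2.symm).symm

/-- the case of a vector fixed by the stabiliser of two points -/
theorem rel_core {p : ℕ} (h5 : 5 ≤ p) (hα : Fintype.card α = p + 1) (ρ : Representation ℂ (Perm α) V)
    (hno : ∀ (s : Finset α) (c : Perm α), Cyc p s c → ∀ v, ρ c v = v → v = 0) {a b : α} (hab : a ≠ b) (v : V)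
    (hv : ∀ g : Perm α, g a = a → g b = b → ρ g v = v) : v = 0 := by
  by_contra hv0
  set t : Perm α := swap a b with ht
  have hta : t a = b := swap_apply_left a b
  have htb : t b = a := swap_apply_right a b
  have htt : t * t = 1 := swap_mul_self a b
  obtain ⟨ε, hε, hne⟩ : ∃ ε : ℂ, ε * ε = 1 ∧ v + ε • ρ t v ≠ 0 := by
    by_contra hcon
    push Not at hcon
    have h1 := hcon 1 (by norm_num)
    have h2 := hcon (-1) (by norm_num)
    apply hv0
    have h3 : (2 : ℂ) • v = 0 := by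
      have : (2 : ℂ) • v = (v + (1 : ℂ) • ρ t v) + (v + (-1 : ℂ) • ρ t v) := by module
      rw [this, h1, h2, add_zero]
    exact (smul_eq_zero.1 h3).resolve_left two_ne_zero
  set u : V := v + ε • ρ t v with hu
  have htu : ρ t u = ε • u := by
    rw [hu, map_add, map_smul, ← Module.End.mul_apply, ← map_mul, htt, map_one, Module.End.one_apply, smul_add,
      smul_smul, hε, one_smul, add_comm]
  have hufix : ∀ g : Perm α, g • (a, b) = (a, b) → ρ g u = u := by
    intro g hg
    have hga : g a = a := congrArg Prod.fst hg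
    have hgb : g b = b := congrArg Prod.snd hg
    rw [hu, map_add, map_smul, hv g hga hgb]
    congr 2
    have h1 : g * t = t * (t * g * t) := by
      rw [← mul_assoc, ← mul_assoc, htt, one_mul]
    rw [← Module.End.mul_apply, ← map_mul, h1, map_mul, Module.End.mul_apply, hv]
    · simp only [Perm.mul_apply, hta, hgb, htb]
    · simp only [Perm.mul_apply, htb, hga, hta]
  obtain ⟨w, hwx, hw, hw0⟩ := exists_equiv_fn ρ (a, b) u hufix
  have hzero : w = 0 := by
    refine rel_fn h5 hα ρ hno w hw (fun i => hw0 _ fun g hg => ?_) hε ?_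
    · have h1 : g a = i := congrArg Prod.fst hg
      have h2 : g b = i := congrArg Prod.snd hg
      exact hab (g.injective (h1.trans h2.symm))
    · intro i j
      rcases eq_or_ne i j with rfl | hij
      · have h0 : w (i, i) = 0 := by
          refine hw0 _ fun g hg => ?_
          have h1 : g a = i := congrArg Prod.fst hg
          have h2 : g b = i := congrArg Prod.snd hg
          exact hab (g.injective (h1.trans h2.symm))
        rw [h0, smul_zero]
      · obtain ⟨g, hga, hgb⟩ := exists_perm2 hab hij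
        have e1 : w (i, j) = ρ g u := by
          rw [← hwx, hw]
          congr 1
          exact (Prod.ext hga hgb).symm
        have e2 : w (j, i) = ρ g (ρ t u) := by
          rw [← hwx, hw, hw]
          congr 1
          refine (Prod.ext ?_ ?_).symm
          · show g (t a) = j
            rw [hta, hgb]
          · show g (t b) = i
            rw [htb, hga]
        rw [e2, htu, map_smul, e1]
  apply hne
  rw [← hwx, hzero]
  rfl

/-- **The relation lemma.** -/
theorem rel (hkey : KeyLemma) {p : ℕ} (hp : p.Prime) (h5 : 5 ≤ p) (hα : Fintype.card α = p + 1)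
    [FiniteDimensional ℂ V] [Nontrivial V] (ρ : Representation ℂ (Perm α) V) :
    ∃ (s : Finset α) (c : Perm α), Cyc p s c ∧ ∃ v : V, v ≠ 0 ∧ ρ c v = v := by
  by_contra hcon
  push Not at hcon
  have hno : ∀ (s : Finset α) (c : Perm α), Cyc p s c → ∀ v, ρ c v = v → v = 0 := by
    intro s c hc v hv
    by_contra hv0
    exact hcon s c hc v hv0 hv
  have hodd : Odd p := hp.odd_of_ne_two (by omega)
  have : Nonempty α := by rw [← Fintype.card_pos_iff, hα]; omega
  obtain ⟨a⟩ := this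
  have hβ : Fintype.card {x : α // x ≠ a} = p := by
    rw [Fintype.card_subtype_compl, Fintype.card_subtype_eq, hα, Nat.add_sub_cancel]
  obtain ⟨b, v, hv, h⟩ := key_type hkey (α := {x : α // x ≠ a}) (by rw [hβ]; exact hp) (by rw [hβ]; exact h5)
    (ρ.comp (Perm.ofSubtype : Perm {x : α // x ≠ a} →* Perm α)) (by
      intro c hc v hv
      rw [hβ] at hc
      refine hno (Finset.univ.erase a) (Perm.ofSubtype c) ⟨?_, ?_, ?_⟩ v hv
      · rw [Finset.card_erase_of_mem (Finset.mem_univ a), Finset.card_univ, hα, Nat.add_sub_cancel]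
      · have hmem : ∀ x : α, x ∈ ((Finset.univ.erase a : Finset α) : Set α) ↔ x ≠ a := by
          intro x
          simp only [_root_.Finset.coe_erase, _root_.Finset.coe_univ, _root_.Set.mem_sdiff, _root_.Set.mem_univ, _root_.Set.mem_singleton_iff, _root_.true_and, _root_.ne_eq]
        have happ : ∀ (n : ℤ) (x : α) (hx : x ≠ a), ((Perm.ofSubtype c) ^ n) x = ((c ^ n) ⟨x, hx⟩ : {x : α // x ≠ a}) := by
          intro n x hx
          rw [← map_zpow]
          exact Perm.ofSubtype_apply_of_mem (p := fun x => x ≠ a) (c ^ n) hx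
        refine ⟨⟨fun x hx => ?_, (Perm.ofSubtype c).injective.injOn, fun y hy => ?_⟩, fun x hx y hy => ?_⟩
        · rw [hmem] at hx ⊢
          have := happ 1 x hx
          rw [zpow_one, zpow_one] at this
          rw [this]
          exact (c ⟨x, hx⟩).2
        · rw [hmem] at hy
          refine ⟨(c⁻¹ ⟨y, hy⟩ : {x : α // x ≠ a}), (hmem _).2 (c⁻¹ ⟨y, hy⟩).2, ?_⟩
          have := happ 1 _ (c⁻¹ ⟨y, hy⟩).2
          rw [zpow_one, zpow_one] at this
          rw [this]
          simp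
        · rw [hmem] at hx hy
          obtain ⟨k, hk⟩ := hc.on.2 (show (⟨x, hx⟩ : {x : α // x ≠ a}) ∈ _ by simp only [_root_.ne_eq, _root_.Finset.coe_univ, _root_.Set.mem_univ])
            (show (⟨y, hy⟩ : {x : α // x ≠ a}) ∈ _ by simp only [_root_.ne_eq, _root_.Finset.coe_univ, _root_.Set.mem_univ])
          refine ⟨k, ?_⟩
          rw [happ k x hx, hk]
      · intro x hx
        rw [Finset.mem_erase]
        refine ⟨?_, Finset.mem_univ _⟩
        rintro rfl
        rw [Perm.mem_support] at hx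
        exact hx (Perm.ofSubtype_apply_of_not_mem c (by simp)))
  have hab : a ≠ (b : α) := b.2.symm
  -- permutations fixing `a` come from the subtype
  have hlift : ∀ g : Perm α, g a = a → g b = b → ∃ g' : Perm {x : α // x ≠ a}, g' b = b ∧ Perm.ofSubtype g' = g := by
    intro g hga hgb
    have h1 : ∀ x, x ≠ a ↔ g x ≠ a := by
      intro x
      rw [not_iff_not]
      constructor
      · rintro rfl; exact hga
      · intro h; exact g.injective (h.trans hga.symm)
    refine ⟨g.subtypePerm (fun x => (h1 x).symm), Subtype.ext hgb, ?_⟩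
    refine Perm.ofSubtype_subtypePerm _ fun x hx => ?_
    rintro rfl
    exact hx hga
  rcases h with h | h
  · exact hv (rel_core h5 hα ρ hno hab v fun g hga hgb => by
      obtain ⟨g', hg', rfl⟩ := hlift g hga hgb
      exact h g' hg')
  · refine hv (rel_core h5 hα (sgnTwist ρ) (fun s c hc v hv => hno s c hc v ?_) hab v fun g hga hgb => ?_)
    · rwa [sgnTwist_even ρ (hc.sign hodd)] at hv
    · obtain ⟨g', hg', rfl⟩ := hlift g hga hgb
      have := h g' hg'
      have h2 : sg (Perm.ofSubtype g' : Perm α) = sg g' := by rw [sg, sg, Perm.sign_ofSubtype]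
      rw [sgnTwist_apply, h2]
      change sg g' • (ρ.comp (Perm.ofSubtype : Perm {x : α // x ≠ a} →* Perm α)) g' v = v
      rw [this, smul_smul, sg_mul_self, one_smul]

end Cfsg.Agent.H127.An
end

-- part: H127/An/Ind
section
/-!
# `Good α` implies the row of the alternating group (S4792)
-/

set_option autoImplicit false

namespace Cfsg.Agent.H127.An

open Equiv Cfsg.Agent.H430.Conj

variable {α : Type} [Fintype α] [DecidableEq α] {V : Type} [AddCommGroup V] [Module ℂ V]

/-- the induced module -/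
def Ind (ρ : Representation ℂ (alternatingGroup α) V) : Submodule ℂ (Perm α → V) where
  carrier := {f | ∀ (h : alternatingGroup α) (g : Perm α), f (h * g) = ρ h (f g)}
  add_mem' {a b} ha hb h g := by
    rw [Pi.add_apply, Pi.add_apply, ha, hb, map_add]
  zero_mem' h g := by
    rw [Pi.zero_apply, Pi.zero_apply, map_zero]
  smul_mem' c a ha h g := by
    rw [Pi.smul_apply, Pi.smul_apply, ha, map_smul]

/-- the induced representation -/
def indRep (ρ : Representation ℂ (alternatingGroup α) V) : Representation ℂ (Perm α) (Ind ρ) where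
  toFun g :=
    { toFun := fun f => ⟨fun x => f.1 (x * g), fun h x => by
          show f.1 (h * x * g) = ρ h (f.1 (x * g))
          rw [mul_assoc]; exact f.2 h (x * g)⟩
      map_add' := fun _ _ => rfl
      map_smul' := fun _ _ => rfl }
  map_one' := by
    apply LinearMap.ext
    intro f
    apply Subtype.ext
    funext x
    show f.1 (x * 1) = f.1 x
    rw [mul_one]
  map_mul' g h := by
    apply LinearMap.ext
    intro f
    apply Subtype.ext
    funext x
    show f.1 (x * (g * h)) = f.1 (x * g * h)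
    rw [mul_assoc]

theorem indRep_apply (ρ : Representation ℂ (alternatingGroup α) V) (g : Perm α) (f : Ind ρ) (x : Perm α) :
    (indRep ρ g f).1 x = f.1 (x * g) := rfl

theorem row_of_good (hG : Good α) : Row (alternatingGroup α) := by
  classical
  rintro χ ⟨n, ρ, hirr, rfl⟩
  have hnt : Nontrivial (Fin n → ℂ) := by
    by_contra hcon
    rw [not_nontrivial_iff_subsingleton] at hcon
    have h1 : Nontrivial (Subrepresentation ρ) := hirr.toNontrivial
    obtain ⟨a, b, hab⟩ := h1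
    apply hab
    ext v
    have hv : v = 0 := Subsingleton.elim _ _
    rw [hv]
    exact ⟨fun _ => Submodule.zero_mem _, fun _ => Submodule.zero_mem _⟩
  obtain ⟨v, hv⟩ := exists_ne (0 : Fin n → ℂ)
  have hInd : Nontrivial (Ind ρ) := by
    let f : Perm α → (Fin n → ℂ) := fun g => if h : g ∈ alternatingGroup α then ρ ⟨g, h⟩ v else 0
    have hf : f ∈ Ind ρ := by
      intro h g
      by_cases hg : g ∈ alternatingGroup α
      · have h1 : (h : Perm α) * g ∈ alternatingGroup α := mul_mem h.2 hg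
        simp only [f, dif_pos hg, dif_pos h1]
        rw [← Module.End.mul_apply, ← map_mul]
        rfl
      · have h1 : (h : Perm α) * g ∉ alternatingGroup α := fun h2 => hg ((Subgroup.mul_mem_cancel_left _ h.2).1 h2)
        simp only [f, dif_neg hg, dif_neg h1, map_zero]
    refine ⟨⟨⟨f, hf⟩, 0, fun h => hv ?_⟩⟩
    have h1 : f 1 = 0 := congrFun (congrArg Subtype.val h) 1
    simp only [f, dif_pos (one_mem (alternatingGroup α))] at h1
    have h2 : (⟨1, one_mem _⟩ : alternatingGroup α) = 1 := rfl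
    rwa [h2, map_one, Module.End.one_apply] at h1
  obtain ⟨x, hx, f, hf, hfix⟩ := hG (Ind ρ) (indRep ρ)
  obtain ⟨y, hy⟩ : ∃ y, f.1 y ≠ 0 := by
    by_contra hcon
    push Not at hcon
    exact hf (Subtype.ext (funext hcon))
  have hyx : y * x * y⁻¹ ∈ alternatingGroup α := (inferInstance : (alternatingGroup α).Normal).conj_mem x hx y
  refine ⟨⟨y * x * y⁻¹, hyx⟩, hasFix_of_vector ρ _ (f.1 y) hy fun c hc => ?_⟩
  have hc1 : (c : Perm α) * (y * x * y⁻¹) = y * x * y⁻¹ * c :=
    congrArg Subtype.val (Subgroup.mem_centralizer_singleton_iff.1 hc)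
  have hc2 : y⁻¹ * c * y ∈ alternatingGroup α := by
    have := (inferInstance : (alternatingGroup α).Normal).conj_mem c c.2 y⁻¹
    rwa [inv_inv] at this
  have h1 : Commute (y⁻¹ * c * y) x := by
    show y⁻¹ * c * y * x = x * (y⁻¹ * c * y)
    have h2 : y⁻¹ * ((c : Perm α) * (y * x * y⁻¹)) * y = y⁻¹ * (y * x * y⁻¹ * c) * y := by rw [hc1]
    calc y⁻¹ * c * y * x = y⁻¹ * ((c : Perm α) * (y * x * y⁻¹)) * y := by group
      _ = y⁻¹ * (y * x * y⁻¹ * c) * y := h2
      _ = _ := by group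
  have h3 := congrFun (congrArg Subtype.val (hfix _ hc2 h1)) y
  rw [indRep_apply] at h3
  rw [← f.2 c y, ← h3]
  group

end Cfsg.Agent.H127.An
end

-- part: H127/An/Main
section
/-!
# The row of the alternating groups (S4792), from the key lemma
-/

set_option autoImplicit false
set_option linter.unusedSectionVars false

namespace Cfsg.Agent.H127.An

open Equiv

/-- Bertrand's postulate in the form needed here -/
theorem exists_prime {n : ℕ} (h : 5 ≤ n) : ∃ p, p.Prime ∧ 5 ≤ p ∧ p ≤ n ∧ n < 2 * p := by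
  rcases Nat.eq_or_lt_of_le h with rfl | h6
  · exact ⟨5, by norm_num, le_rfl, le_rfl, by norm_num⟩
  obtain ⟨p, hp, h1, h2⟩ := Nat.exists_prime_lt_and_le_two_mul (n / 2) (by omega)
  refine ⟨p, hp, ?_, by omega, by omega⟩
  have h3 : 3 < p := by omega
  by_contra hcon
  have h4 : p = 4 := by omega
  rw [h4] at hp
  exact absurd hp (by norm_num)

/-- some `p`-cycle has a fixed vector if `p < n` -/
theorem exists_cyc_fix (hkey : KeyLemma) {p : ℕ} (hp : p.Prime) (h5 : 5 ≤ p) {α : Type} [Fintype α] [DecidableEq α]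
    (hα : p < Fintype.card α) {V : Type} [AddCommGroup V] [Module ℂ V] [FiniteDimensional ℂ V] [Nontrivial V]
    (ρ : Representation ℂ (Perm α) V) : ∃ (s : Finset α) (c : Perm α), Cyc p s c ∧ ∃ v : V, v ≠ 0 ∧ ρ c v = v := by
  obtain ⟨r, -, hr⟩ := Finset.exists_subset_card_eq (s := (Finset.univ : Finset α)) (n := p + 1) (by
    rw [Finset.card_univ]; exact hα)
  obtain ⟨s, c, hc, v, hv0, hv⟩ := rel hkey (α := {x : α // x ∈ r}) hp h5 (by rw [Fintype.card_coe, hr])
    (ρ.comp Perm.ofSubtype)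
  exact ⟨_, _, hc.ofSubtype, v, hv0, hv⟩

theorem good_all (hkey : KeyLemma) (n : ℕ) : ∀ (α : Type) [Fintype α] [DecidableEq α], Fintype.card α = n → n ≠ 3 →
    Good α := by
  induction n using Nat.strong_induction_on with
  | _ n ih =>
    intro α _ _ hα hn3
    rcases Nat.lt_or_ge 2 n with h2 | h2
    swap
    · exact good_small (by omega)
    rcases Nat.lt_or_ge n 5 with h5 | h5
    · have h4 : n = 4 := by omega
      subst h4
      exact good_four.congr (Fintype.equivFinOfCardEq hα).symm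
    obtain ⟨p, hp, hp5, hpn, hn2⟩ := exists_prime h5
    intro V _ _ _ _ ρ
    have hcardc : ∀ (s : Finset α), s.card = p → Fintype.card {x : α // x ∉ s} = n - p := by
      intro s hs
      rw [Fintype.card_subtype_compl, Fintype.card_coe, hs, hα]
    rcases Nat.eq_or_lt_of_le hpn with h | h
    · -- `n = p`
      by_cases hc : ∃ (c : Perm α) (v : V), Cyc (Fintype.card α) Finset.univ c ∧ v ≠ 0 ∧ ρ c v = v
      · obtain ⟨c, v, hc, hv0, hv⟩ := hc
        rw [hα, ← h] at hc
        have h1 := hcardc _ hc.card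
        exact stepA hp (by omega) hc (by omega) (good_small (by omega)) ρ hv0 hv
      · refine stepP hkey (by rw [hα, ← h]; exact hp) (by omega) ρ fun c hc' v hv => ?_
        by_contra hv0
        exact hc ⟨c, v, hc', hv0, hv⟩
    · rcases eq_or_ne (n - p) 3 with h3 | h3
      · exact stepM hkey hp hp5 (by omega) ρ
      · obtain ⟨s, c, hc, v, hv0, hv⟩ := exists_cyc_fix hkey hp hp5 (by rw [hα]; exact h) ρ
        have h1 := hcardc _ hc.card
        exact stepA hp (by omega) hc (by omega) (ih (n - p) (by omega) _ h1 h3) ρ hv0 hv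

/-- **the row of the alternating groups, from the key lemma** -/
theorem row_alt_of_key (hkey : KeyLemma) {S : Type*} [Group S] [Finite S] (h : Cfsg.IsAlternating S) :
    Cfsg.Agent.H430.Conj.Row S := by
  obtain ⟨n, hn, ⟨e⟩⟩ := h
  have h1 : Good (Fin n) := good_all hkey n (Fin n) (Fintype.card_fin n) (by omega)
  exact Cfsg.Agent.H430.Conj.Row.of_equiv e.symm (row_of_good h1)

end Cfsg.Agent.H127.An
end

-- part: H937/Conj/AltKey
section
/-!
# Representations of `S_p` without vectors fixed by a `p`-cycle (helper937)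

`key` : `p ≥ 5` prime, `V ≠ 0` a complex representation of `Perm α`, `|α| = p`, in which no element of order `p` fixes a
nonzero vector. Then the stabiliser of a point acts on some nonzero vector trivially or by the sign.
-/

set_option autoImplicit false
set_option linter.unusedSectionVars false

namespace Cfsg.Agent.H937.AltKey

open Finset Cfsg Cfsg.Agent.H614 Cfsg.Agent.H704 Cfsg.Agent.Characters.Core
open scoped ComplexConjugate

universe u v

/-! ### the value at a `p`-cycle -/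

section value

variable {m : ℕ}

theorem abs_vac (γ : Fin m → ℕ) : |vac γ| ≤ 1 := by
  unfold vac
  by_cases h : ∃ σ : Equiv.Perm (Fin m), γ = fun i => ((σ i : Fin m) : ℕ)
  · obtain ⟨σ, hσ⟩ := h
    rw [Finset.sum_eq_single σ, if_pos hσ]
    · have h1 := sg_mul_self σ
      have h2 : |sg σ| * |sg σ| = 1 := by rw [← abs_mul, h1, abs_one]
      nlinarith only [h2]
    · intro τ _ hτ
      rw [if_neg]
      intro h1
      apply hτ
      ext i
      have h2 := congrFun (h1.symm.trans hσ) i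
      exact h2
    · intro h
      exact absurd (Finset.mem_univ σ) h
  · rw [not_exists] at h
    rw [Finset.sum_eq_zero fun σ _ => if_neg (h σ), abs_zero]
    exact zero_le_one

theorem exists_of_vac {γ : Fin m → ℕ} (h : vac γ ≠ 0) :
    ∃ σ : Equiv.Perm (Fin m), γ = fun i => ((σ i : Fin m) : ℕ) := by
  by_contra hne
  rw [not_exists] at hne
  exact h (Finset.sum_eq_zero fun σ _ => if_neg (hne σ))

theorem abs_F_single {r : ℕ} (hr : 0 < r) {β : Fin m → ℕ} (hβ : Function.Injective β) : |F [r] β| ≤ 1 := by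
  rw [F_cons]
  by_cases h : ∃ j, (if r ≤ β j then F [] (dn β j r) else 0) ≠ 0
  · obtain ⟨j, hj⟩ := h
    rw [Finset.sum_eq_single j]
    · split_ifs
      · exact abs_vac _
      · rw [abs_zero]; exact zero_le_one
    · intro k _ hkj
      by_contra hk
      have key : ∀ k, (if r ≤ β k then F [] (dn β k r) else 0) ≠ 0 → r ≤ β k ∧ ∃ σ : Equiv.Perm (Fin m),
          dn β k r = fun i => ((σ i : Fin m) : ℕ) := by
        intro k h
        by_cases h1 : r ≤ β k
        · rw [if_pos h1] at h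
          exact ⟨h1, exists_of_vac h⟩
        · rw [if_neg h1] at h
          exact absurd rfl h
      obtain ⟨h1, σ, hσ⟩ := key j hj
      obtain ⟨h2, τ, hτ⟩ := key k hk
      have h3 : β j = τ j := by rw [← congrFun hτ j, dn_ne β r (Ne.symm hkj)]
      obtain ⟨i, hi⟩ := σ.surjective (τ j)
      have h4 : dn β j r i = β j := by
        rw [congrFun hσ i, hi, h3]
      by_cases hij : i = j
      · subst hij
        rw [dn_self] at h4
        omega
      · rw [dn_ne β r hij] at h4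
        exact hij (hβ h4)
    · intro h
      exact absurd (Finset.mem_univ j) h
  · rw [not_exists] at h
    rw [Finset.sum_eq_zero fun j _ => not_not.1 (h j), abs_zero]
    exact zero_le_one

end value

section

variable {α : Type u} [Fintype α] [DecidableEq α] {p : ℕ}

theorem ty_of_order (hp : p.Prime) (hα : Fintype.card α = p) {c : Equiv.Perm α} (hc : orderOf c = p) :
    ty c = ([p] : List ℕ) := by
  have h1 : c.IsCycle := Equiv.Perm.isCycle_of_prime_order'' (by rw [hα]; exact hp) (by rw [hc, hα])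
  have h2 : c.cycleType = {p} := by
    rw [h1.cycleType, ← h1.orderOf, hc]
  rw [ty_eq, h2, hα]
  simp

/-- the value at a `p`-cycle is an integer of absolute value at most `1` -/
theorem exists_value (hp : p.Prime) (hα : Fintype.card α = p) {χ : Equiv.Perm α → ℂ}
    (hχ : IsIrrCharacter (Equiv.Perm α) χ) :
    ∃ k : ℤ, |k| ≤ 1 ∧ ∀ c : Equiv.Perm α, orderOf c = p → χ c = k := by
  obtain ⟨β, hβ, -, rfl⟩ := irr_eq (m := Fintype.card α) le_rfl hχ
  refine ⟨F [p] β, abs_F_single hp.pos hβ.injective, fun c hc => ?_⟩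
  rw [ch_apply, ty_of_order hp hα hc, FM_coe]

/-! ### representations without fixed vectors -/

/-- the sum of the powers of an element without fixed vectors -/
theorem sum_pow_eq_zero {G : Type*} [Group G] {V : Type*} [AddCommGroup V] [Module ℂ V] (ρ : Representation ℂ G V)
    {c : G} (hc : orderOf c = p) (h : ∀ v, ρ c v = v → v = 0) : ∑ k ∈ range p, ρ (c ^ k) = 0 := by
  ext v
  apply h
  rw [LinearMap.sum_apply, map_sum]
  have h1 : ∀ k, ρ c (ρ (c ^ k) v) = ρ (c ^ (k + 1)) v := fun k => by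
    rw [pow_succ', map_mul]; rfl
  rw [Finset.sum_congr rfl fun k _ => h1 k]
  have h2 := Finset.sum_range_succ' (fun k => ρ (c ^ k) v) p
  have h3 := Finset.sum_range_succ (fun k => ρ (c ^ k) v) p
  rw [h2, ← hc, pow_orderOf_eq_one, pow_zero, hc] at h3
  exact add_right_cancel h3

/-- **The degree of an irreducible character without vectors fixed by a `p`-cycle.** -/
theorem degree_eq (hp : p.Prime) (hα : Fintype.card α = p) {V : Type*} [AddCommGroup V] [Module ℂ V]
    [FiniteDimensional ℂ V] (ρ : Representation ℂ (Equiv.Perm α) V) (hirr : IsIrrCharacter _ ρ.character)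
    (h : ∀ c : Equiv.Perm α, orderOf c = p → ∀ v, ρ c v = v → v = 0) :
    ρ.character 1 = ((p - 1 : ℕ) : ℂ) ∧ ∀ c : Equiv.Perm α, orderOf c = p → ρ.character c = -1 := by
  obtain ⟨k, hk, hval⟩ := exists_value hp hα hirr
  have := Fact.mk hp
  obtain ⟨c, hc⟩ : ∃ c : Equiv.Perm α, orderOf c = p := by
    apply exists_prime_orderOf_dvd_card
    rw [Fintype.card_perm, hα]
    exact Nat.dvd_factorial hp.pos le_rfl
  have h1 := sum_pow_eq_zero ρ hc (h c hc)
  have h2 : ∑ i ∈ range p, ρ.character (c ^ i) = 0 := by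
    have h3 := congrArg (LinearMap.trace ℂ V) h1
    rw [map_sum, map_zero] at h3
    exact h3
  obtain ⟨s, rfl⟩ : ∃ s, p = s + 1 := ⟨p - 1, by have := hp.pos; omega⟩
  rw [Finset.sum_range_succ', pow_zero] at h2
  have h3 : ∀ i ∈ range s, ρ.character (c ^ (i + 1)) = k := by
    intro i hi
    apply hval
    have h4 : ¬ (s + 1) ∣ (i + 1) := Nat.not_dvd_of_pos_of_lt (Nat.succ_pos i) (by rw [Finset.mem_range] at hi; omega)
    have h5 := Nat.Coprime.orderOf_pow (y := c) (m := i + 1) (by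
      rw [hc]
      exact (hp.coprime_iff_not_dvd.2 h4))
    rw [h5, hc]
  rw [Finset.sum_congr rfl h3, Finset.sum_const, Finset.card_range, nsmul_eq_mul] at h2
  obtain ⟨d, hd, hd1⟩ := isIrr_apply_one hirr
  rw [hd1] at h2
  have h6 : (s : ℤ) * k + d = 0 := by exact_mod_cast h2
  have h7 : k = -1 := by
    rw [abs_le] at hk
    have : k < 0 := by
      by_contra h8
      push Not at h8
      have h9 : (0 : ℤ) ≤ s * k := mul_nonneg (Int.natCast_nonneg s) h8
      have : (0 : ℤ) < d := by exact_mod_cast hd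
      omega
    omega
  subst h7
  have h8 : d = s := by
    have : (s : ℤ) * (-1) = -s := by ring
    rw [this] at h6
    omega
  refine ⟨by rw [hd1, h8, Nat.add_sub_cancel], fun c hc => ?_⟩
  rw [hval c hc]
  simp

end

/-! ### vectors -/

/-- a linear constituent gives a vector -/
theorem exists_vec {H : Type*} [Group H] [Finite H] {V : Type*} [AddCommGroup V] [Module ℂ V] [FiniteDimensional ℂ V]
    (ρ : Representation ℂ H V) (l : H →* ℂˣ) [Fintype H] (h : classInner ρ.character (fun x => (l x : ℂ)) ≠ 0) :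
    ∃ v : V, v ≠ 0 ∧ ∀ g, ρ g v = (l g : ℂ) • v := by
  let E : V →ₗ[ℂ] V := ∑ x : H, ((l x⁻¹ : ℂˣ) : ℂ) • ρ x
  have h1 : LinearMap.trace ℂ V E ≠ 0 := by
    intro h0
    apply h
    rw [classInner_def]
    have h2 : ∑ x, ρ.character x * conj ((l x : ℂˣ) : ℂ) = LinearMap.trace ℂ V E := by
      simp only [E, map_sum, map_smul, smul_eq_mul]
      refine Finset.sum_congr rfl fun x _ => ?_
      rw [Cfsg.Agent.SmallSimple.PrimeDual.conj_hom_apply, mul_comm]
      rfl
    rw [h2, h0, mul_zero]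
  have h2 : E ≠ 0 := fun h0 => h1 (by rw [h0, map_zero])
  obtain ⟨w, hw⟩ : ∃ w, E w ≠ 0 := by
    by_contra hne
    push Not at hne
    exact h2 (LinearMap.ext hne)
  refine ⟨E w, hw, fun g => ?_⟩
  simp only [E, LinearMap.sum_apply, LinearMap.smul_apply, map_sum, map_smul, Finset.smul_sum, smul_smul]
  refine Fintype.sum_equiv (Equiv.mulLeft g) _ _ fun x => ?_
  have h3 : l g * l (g * x)⁻¹ = l x⁻¹ := by
    rw [mul_inv_rev, map_mul, mul_comm (l x⁻¹), ← mul_assoc, ← map_mul, mul_inv_cancel, map_one, one_mul]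
  rw [Equiv.coe_mulLeft, ← Units.val_mul, h3, map_mul]
  rfl

section

variable {α : Type u} [Fintype α] [DecidableEq α] {p : ℕ}

/-- a vector fixed by the even permutations of the stabiliser -/
theorem of_even {V : Type*} [AddCommGroup V] [Module ℂ V] (ρ : Representation ℂ (Equiv.Perm α) V) {a b c : α}
    (hb : b ≠ a) (hc : c ≠ a) (hbc : b ≠ c) {v : V} (hv : v ≠ 0)
    (h : ∀ g : Equiv.Perm α, g a = a → Equiv.Perm.sign g = 1 → ρ g v = v) :
    ∃ v : V, v ≠ 0 ∧ ((∀ g : Equiv.Perm α, g a = a → ρ g v = v) ∨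
      (∀ g : Equiv.Perm α, g a = a → ρ g v = ((Equiv.Perm.sign g : ℤ) : ℂ) • v)) := by
  obtain ⟨t, ht⟩ : ∃ t : Equiv.Perm α, t = Equiv.swap b c := ⟨_, rfl⟩
  have hta : t a = a := by rw [ht]; exact Equiv.swap_apply_of_ne_of_ne hb.symm hc.symm
  have htt : t * t = 1 := by rw [ht]; exact Equiv.swap_mul_self b c
  have hts : Equiv.Perm.sign t = -1 := by rw [ht]; exact Equiv.Perm.sign_swap hbc
  have hodd : ∀ g : Equiv.Perm α, g a = a → Equiv.Perm.sign g ≠ 1 → ρ g v = ρ t v := by
    intro g hg hs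
    have h1 : (Equiv.Perm.sign g) = -1 := (Int.units_eq_one_or _).resolve_left hs
    have h2 : t⁻¹ = t := inv_eq_of_mul_eq_one_left htt
    have h3 := h (t * g) (by rw [Equiv.Perm.mul_apply, hg, hta]) (by rw [Equiv.Perm.sign_mul, h1, hts]; rfl)
    calc ρ g v = ρ (t * (t * g)) v := by rw [← mul_assoc, htt, one_mul]
      _ = ρ t (ρ (t * g) v) := by rw [map_mul]; rfl
      _ = ρ t v := by rw [h3]
  by_cases h1 : ρ t v = -v
  · refine ⟨v, hv, Or.inr fun g hg => ?_⟩
    by_cases hs : Equiv.Perm.sign g = 1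
    · rw [h g hg hs, hs]; simp
    · rw [hodd g hg hs, h1, (Int.units_eq_one_or _).resolve_left hs]; simp
  · refine ⟨v + ρ t v, fun h0 => h1 (eq_neg_of_add_eq_zero_right h0), Or.inl fun g hg => ?_⟩
    have h2 : ρ g (ρ t v) = ρ (g * t) v := by rw [map_mul]; rfl
    have h3 : (g * t) a = a := by rw [Equiv.Perm.mul_apply, hta, hg]
    rw [map_add, h2]
    by_cases hs : Equiv.Perm.sign g = 1
    · rw [h g hg hs, hodd (g * t) h3 (by rw [Equiv.Perm.sign_mul, hs, hts]; decide)]
    · rw [hodd g hg hs, h (g * t) h3 (by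
        rw [Equiv.Perm.sign_mul, (Int.units_eq_one_or _).resolve_left hs, hts]; rfl), add_comm]

/-- the linear characters of a symmetric group are trivial on the even permutations -/
theorem linear_even {β : Type*} [Fintype β] [DecidableEq β] (l : Equiv.Perm β →* ℂˣ) {g : Equiv.Perm β}
    (hg : Equiv.Perm.sign g = 1) : l g = 1 := by
  by_cases hβ : ∃ x y : β, x ≠ y
  · obtain ⟨x, y, hxy⟩ := hβ
    set ε := l (Equiv.swap x y) with hε
    have h1 : ∀ a b : β, a ≠ b → l (Equiv.swap a b) = ε := by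
      intro a b hab
      obtain ⟨c, hc⟩ := isConj_iff.1 (Equiv.Perm.isConj_swap hxy hab)
      rw [← hc, map_mul, map_mul, map_inv, mul_comm (l c), mul_inv_cancel_right]
    have h2 : ε * ε = 1 := by rw [hε, ← map_mul, Equiv.swap_mul_self, map_one]
    have h3 : ∀ g : Equiv.Perm β, (l g = 1 ∧ Equiv.Perm.sign g = 1) ∨ (l g = ε ∧ Equiv.Perm.sign g = -1) := by
      intro g
      induction g using Equiv.Perm.swap_induction_on with
      | one => left; exact ⟨map_one _, map_one _⟩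
      | swap_mul f a b hab ih =>
        rw [map_mul, h1 a b hab, Equiv.Perm.sign_mul, Equiv.Perm.sign_swap hab]
        rcases ih with ⟨h4, h5⟩ | ⟨h4, h5⟩
        · right; rw [h4, h5]; exact ⟨mul_one _, rfl⟩
        · left; rw [h4, h5]; exact ⟨h2, rfl⟩
    rcases h3 g with h | h
    · exact h.1
    · rw [hg] at h
      exact absurd h.2 (by decide)
  · push Not at hβ
    have : g = 1 := Equiv.ext fun x => hβ _ _
    rw [this, map_one]

/-- **a linear constituent on the stabiliser of a point**, `p ≥ 7` -/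
theorem exists_linear (hp : p.Prime) (hp7 : 7 ≤ p) (hα : Fintype.card α = p) {χ : Equiv.Perm α → ℂ}
    (hχ : IsCharacter _ χ) (h1 : χ 1 = ((p - 1 : ℕ) : ℂ)) (a : α) :
    ∃ l : Equiv.Perm {x // x ≠ a} →* ℂˣ,
      classInner (fun g : Equiv.Perm {x // x ≠ a} => χ (Equiv.Perm.ofSubtype g)) (fun g => (l g : ℂ)) ≠ 0 := by
  classical
  have := finite_irr (G := Equiv.Perm {x // x ≠ a})
  have := Fintype.ofFinite (IrrCharacter (Equiv.Perm {x // x ≠ a}))
  obtain ⟨n, hn⟩ := exists_nat_comb (isCharacter_comp (Equiv.Perm.ofSubtype (p := fun x => x ≠ a)) hχ)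
  have hcard : Fintype.card {x // x ≠ a} = p - 1 := by
    rw [Fintype.card_subtype_compl, Fintype.card_subtype_eq, hα]
  choose d hd hdeg using fun ψ : IrrCharacter (Equiv.Perm {x // x ≠ a}) => isDeg_of_irr' ψ.2
  have h2 : p - 1 = ∑ ψ, n ψ * d ψ := by
    have h3 := congrFun hn 1
    rw [Finset.sum_apply] at h3
    change χ (Equiv.Perm.ofSubtype 1) = _ at h3
    rw [map_one, h1] at h3
    have h4 : ∑ ψ : IrrCharacter (Equiv.Perm {x // x ≠ a}), (n ψ • (ψ : Equiv.Perm {x // x ≠ a} → ℂ)) 1 =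
        ((∑ ψ, n ψ * d ψ : ℕ) : ℂ) := by
      push_cast
      refine Finset.sum_congr rfl fun ψ _ => ?_
      rw [Pi.smul_apply, hd, nsmul_eq_mul]
    rw [h4] at h3
    exact_mod_cast h3
  have h3 : ∃ ψ, n ψ ≠ 0 ∧ d ψ = 1 := by
    by_contra hne
    push Not at hne
    have h4 : ∀ ψ, n ψ ≠ 0 → d ψ = p - 2 := by
      intro ψ hψ
      have h5 : d ψ ≤ p - 1 := by
        rw [h2]
        calc d ψ ≤ n ψ * d ψ := Nat.le_mul_of_pos_left _ (Nat.pos_of_ne_zero hψ)
          _ ≤ ∑ ψ, n ψ * d ψ := Finset.single_le_sum (f := fun ψ => n ψ * d ψ) (fun _ _ => Nat.zero_le _)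
            (Finset.mem_univ ψ)
      have h6 := hne ψ hψ
      have h7 := hdeg ψ
      rw [hcard] at h7
      by_cases hp11 : 10 ≤ p
      · rcases low_degree (by omega) h7 with h | h | h
        · exact absurd h h6
        · omega
        · exfalso
          have : (p - 1) * 7 ≤ (p - 1) * (p - 1 - 3) + (p-1) := by
            have : 6 ≤ p - 1 - 3 := by omega
            nlinarith only [this]
          omega
      · have hp' : p = 7 := by
          interval_cases p
          · rfl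
          · exact absurd hp (by norm_num)
          · exact absurd hp (by norm_num)
        subst hp'
        have h8 := deg6 h7
        simp only [List.mem_cons, List.not_mem_nil, or_false] at h8
        omega
    have h5 : p - 1 = (p - 2) * ∑ ψ, n ψ := by
      rw [h2, Finset.mul_sum]
      refine Finset.sum_congr rfl fun ψ _ => ?_
      by_cases hψ : n ψ = 0
      · rw [hψ, zero_mul, mul_zero]
      · rw [h4 ψ hψ, mul_comm]
    have h6 : (p - 2) ∣ (p - 2) + 1 := ⟨∑ ψ, n ψ, by rw [← h5]; omega⟩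
    have h7 := (Nat.dvd_add_right (dvd_refl (p - 2))).1 h6
    have := Nat.le_of_dvd one_pos h7
    omega
  obtain ⟨ψ, hψ, hψ1⟩ := h3
  obtain ⟨l, hl⟩ := Cfsg.Agent.Characters.Linear.exists_hom_of_isIrrCharacter ψ.2 (by rw [hd, hψ1, Nat.cast_one])
  refine ⟨l, ?_⟩
  rw [← hl]
  have h4 : (fun g : Equiv.Perm {x // x ≠ a} => χ (Equiv.Perm.ofSubtype g)) =
      ∑ ψ : IrrCharacter (Equiv.Perm {x // x ≠ a}), n ψ • (ψ : Equiv.Perm {x // x ≠ a} → ℂ) := hn
  rw [h4, classInner_sum_nsmul_irr]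
  exact_mod_cast hψ

/-- the even permutations of the stabiliser fix a vector, `p ≥ 7` -/
theorem even_seven (hp : p.Prime) (hp7 : 7 ≤ p) (hα : Fintype.card α = p) {V : Type*} [AddCommGroup V] [Module ℂ V]
    [FiniteDimensional ℂ V] (ρ : Representation ℂ (Equiv.Perm α) V) (h1 : ρ.character 1 = ((p - 1 : ℕ) : ℂ)) (a : α) :
    ∃ v : V, v ≠ 0 ∧ ∀ g : Equiv.Perm α, g a = a → Equiv.Perm.sign g = 1 → ρ g v = v := by
  obtain ⟨l, hl⟩ := exists_linear hp hp7 hα (isCharacter_of_rep ρ) h1 a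
  obtain ⟨v, hv, hv1⟩ := exists_vec (ρ.comp (Equiv.Perm.ofSubtype (p := fun x => x ≠ a))) l hl
  refine ⟨v, hv, fun g hg hs => ?_⟩
  have h2 : ∀ x, g x ≠ a ↔ x ≠ a := fun x => by
    rw [not_iff_not]
    constructor
    · intro h; exact g.injective (h.trans hg.symm)
    · rintro rfl; exact hg
  have h3 : Equiv.Perm.ofSubtype (Equiv.Perm.subtypePerm g h2) = g :=
    Equiv.Perm.ofSubtype_subtypePerm (p := fun x => x ≠ a) h2 (fun x hx hxa => hx (by rw [hxa]; exact hg))
  have h4 := hv1 (Equiv.Perm.subtypePerm g h2)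
  rw [linear_even l (by rw [← Equiv.Perm.sign_ofSubtype, h3, hs]), Units.val_one, one_smul] at h4
  change ρ (Equiv.Perm.ofSubtype (Equiv.Perm.subtypePerm g h2)) v = v at h4
  rwa [h3] at h4

end

/-! ### `p = 5` -/

section five

/-- `(1 2)(3 4)` -/
def z5 : Equiv.Perm (Fin 5) := Equiv.swap (1 : Fin 5) 2 * Equiv.swap (3 : Fin 5) 4
/-- `(1 2 3)` -/
def y5 : Equiv.Perm (Fin 5) := Equiv.swap (1 : Fin 5) 2 * Equiv.swap (2 : Fin 5) 3

theorem cls_z : ∀ g : Equiv.Perm (Fin 5), g ≠ 1 → g * g = 1 → Equiv.Perm.sign g = 1 → ∃ x, x * z5 * x⁻¹ = g := by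
  (set_option synthInstance.maxSize 9000 in open scoped Cfsg.Agent.Lib.FastPerm in decide +kernel)

theorem cls_y : ∀ g : Equiv.Perm (Fin 5), g ≠ 1 → g * g * g = 1 → ∃ x, x * y5 * x⁻¹ = g := by
  (set_option synthInstance.maxSize 9000 in open scoped Cfsg.Agent.Lib.FastPerm in decide +kernel)

theorem even_zero : ∀ g : Equiv.Perm (Fin 5), g 0 = 0 ∧ Equiv.Perm.sign g = 1 ∧ g ≠ 1 ∧ g * g ≠ 1 → g * g * g = 1 := by
  (set_option synthInstance.maxSize 9000 in open scoped Cfsg.Agent.Lib.FastPerm in decide +kernel)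

theorem cnt_z : (univ.filter fun g : Equiv.Perm (Fin 5) => g ≠ 1 ∧ g * g = 1 ∧ Equiv.Perm.sign g = 1).card = 15 := by
  (set_option synthInstance.maxSize 9000 in open scoped Cfsg.Agent.Lib.FastPerm in decide +kernel)

theorem cnt_y : (univ.filter fun g : Equiv.Perm (Fin 5) => g ≠ 1 ∧ g * g * g = 1).card = 20 := by
  (set_option synthInstance.maxSize 9000 in open scoped Cfsg.Agent.Lib.FastPerm in decide +kernel)

/-- the even permutations of the stabiliser fix a vector, `p = 5` -/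
theorem even_five {V : Type*} [AddCommGroup V] [Module ℂ V] [FiniteDimensional ℂ V]
    (ρ : Representation ℂ (Equiv.Perm (Fin 5)) V) (hirr : IsIrrCharacter _ ρ.character) (h1 : ρ.character 1 = 4) :
    ∃ v : V, v ≠ 0 ∧ ∀ g : Equiv.Perm (Fin 5), g 0 = 0 → Equiv.Perm.sign g = 1 → ρ g v = v := by
  by_contra hne
  push Not at hne
  have hcl := isIrr_isClassFunction hirr
  obtain ⟨β, -, -, hβ⟩ := irr_eq (α := Fin 5) (m := 5) (by simp) hirr
  obtain ⟨b, hb⟩ : ∃ b : ℤ, ρ.character z5 = b := ⟨_, by rw [hβ, ch_apply]⟩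
  obtain ⟨c, hc⟩ : ∃ c : ℤ, ρ.character y5 = c := ⟨_, by rw [hβ, ch_apply]⟩
  have hz : ∀ g : Equiv.Perm (Fin 5), g ≠ 1 → g * g = 1 → Equiv.Perm.sign g = 1 → ρ.character g = b := by
    intro g h1 h2 h3
    obtain ⟨x, hx⟩ := cls_z g h1 h2 h3
    rw [← hx, hcl, hb]
  have hy : ∀ g : Equiv.Perm (Fin 5), g ≠ 1 → g * g * g = 1 → ρ.character g = c := by
    intro g h1 h2
    obtain ⟨x, hx⟩ := cls_y g h1 h2
    rw [← hx, hcl, hc]
  -- the sum over the even permutations fixing `0`
  have hsum : ∑ g ∈ univ.filter (fun g : Equiv.Perm (Fin 5) => g 0 = 0 ∧ Equiv.Perm.sign g = 1), ρ.character g = 0 := by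
    have h2 : ∑ g ∈ univ.filter (fun g : Equiv.Perm (Fin 5) => g 0 = 0 ∧ Equiv.Perm.sign g = 1), ρ g = 0 := by
      ext v
      by_contra hv
      obtain ⟨g, hg, hs, hgv⟩ := hne _ hv
      apply hgv
      rw [LinearMap.sum_apply, map_sum]
      refine Finset.sum_bij' (fun x _ => g * x) (fun x _ => g⁻¹ * x) ?_ ?_ ?_ ?_ ?_
      · intro x hx
        rw [Finset.mem_filter] at hx ⊢
        refine ⟨Finset.mem_univ _, ?_, ?_⟩
        · rw [Equiv.Perm.mul_apply, hx.2.1, hg]
        · rw [Equiv.Perm.sign_mul, hs, hx.2.2, mul_one]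
      · intro x hx
        rw [Finset.mem_filter] at hx ⊢
        refine ⟨Finset.mem_univ _, ?_, ?_⟩
        · rw [Equiv.Perm.mul_apply, hx.2.1, Equiv.Perm.inv_eq_iff_eq, hg]
        · rw [Equiv.Perm.sign_mul, Equiv.Perm.sign_inv, hs, hx.2.2, mul_one]
      · intro x _; exact inv_mul_cancel_left _ _
      · intro x _; exact mul_inv_cancel_left _ _
      · intro x _
        rw [map_mul]
        rfl
    have h3 := congrArg (LinearMap.trace ℂ V) h2
    rw [map_sum, map_zero] at h3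
    exact h3
  have e1 : (4 : ℂ) + 3 * b + 8 * c = 0 := by
    have h2 : ∀ g ∈ univ.filter (fun g : Equiv.Perm (Fin 5) => g 0 = 0 ∧ Equiv.Perm.sign g = 1), ρ.character g =
        (if g = 1 then 4 else 0) + ((if g ≠ 1 ∧ g * g = 1 then (b : ℂ) else 0) +
          if g ≠ 1 ∧ g * g ≠ 1 then (c : ℂ) else 0) := by
      intro g hg
      obtain ⟨h3, h4⟩ := (Finset.mem_filter.1 hg).2
      by_cases h5 : g = 1
      · rw [h5, h1]; simp
      · by_cases h6 : g * g = 1
        · rw [hz g h5 h6 h4, if_neg h5, if_pos ⟨h5, h6⟩, if_neg (fun h => h.2 h6)]; ring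
        · rw [hy g h5 (even_zero g ⟨h3, h4, h5, h6⟩), if_neg h5, if_neg (fun h => h6 h.2), if_pos ⟨h5, h6⟩]; ring
    rw [Finset.sum_congr rfl h2, Finset.sum_add_distrib, Finset.sum_add_distrib, ← Finset.sum_filter,
      ← Finset.sum_filter, ← Finset.sum_filter, Finset.sum_const, Finset.sum_const, Finset.sum_const,
      Finset.filter_filter, Finset.filter_filter, Finset.filter_filter] at hsum
    have h3 : (univ.filter fun g : Equiv.Perm (Fin 5) => (g 0 = 0 ∧ Equiv.Perm.sign g = 1) ∧ g = 1).card = 1 := by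
      (set_option synthInstance.maxSize 9000 in open scoped Cfsg.Agent.Lib.FastPerm in decide +kernel)
    have h4 : (univ.filter fun g : Equiv.Perm (Fin 5) => (g 0 = 0 ∧ Equiv.Perm.sign g = 1) ∧ g ≠ 1 ∧ g * g = 1).card = 3 := by
      (set_option synthInstance.maxSize 9000 in open scoped Cfsg.Agent.Lib.FastPerm in decide +kernel)
    have h5 : (univ.filter fun g : Equiv.Perm (Fin 5) => (g 0 = 0 ∧ Equiv.Perm.sign g = 1) ∧ g ≠ 1 ∧ g * g ≠ 1).card = 8 := by
      (set_option synthInstance.maxSize 9000 in open scoped Cfsg.Agent.Lib.FastPerm in decide +kernel)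
    rw [h3, h4, h5] at hsum
    simp only [nsmul_eq_mul] at hsum
    push_cast at hsum
    linear_combination hsum
  -- the norm
  have e2 : (16 : ℝ) + 15 * b ^ 2 + 20 * c ^ 2 ≤ 120 := by
    have h2 := Cfsg.Agent.H937.CC.sum_normSq_irr hirr
    have h3 : (Nat.card (Equiv.Perm (Fin 5)) : ℝ) = 120 := by
      rw [Nat.card_eq_fintype_card, Fintype.card_perm, Fintype.card_fin]
      norm_num [Nat.factorial]
    rw [h3] at h2
    rw [← h2]
    have h4 : ∀ g : Equiv.Perm (Fin 5), (if g = 1 then (16 : ℝ) else 0) +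
        ((if g ≠ 1 ∧ g * g = 1 ∧ Equiv.Perm.sign g = 1 then (b : ℝ) ^ 2 else 0) +
          if g ≠ 1 ∧ g * g * g = 1 then (c : ℝ) ^ 2 else 0) ≤ Complex.normSq (ρ.character g) := by
      intro g
      by_cases h5 : g = 1
      · rw [h5, h1]
        simp only [Complex.normSq, ↓ _root_.reduceIte, _root_.ne_eq, _root_.not_true_eq_false, _root_.mul_one, _root_.Equiv.Perm.sign_one, _root_.and_self, _root_.and_true, _root_.add_zero, _root_.MonoidWithZeroHom.coe_mk, _root_.ZeroHom.coe_mk, _root_.Complex.re_ofNat, _root_.Complex.im_ofNat, _root_.MulZeroClass.mul_zero]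
        norm_num
      · rw [if_neg h5, zero_add]
        by_cases h6 : g * g = 1 ∧ Equiv.Perm.sign g = 1
        · rw [if_pos ⟨h5, h6⟩, if_neg, hz g h5 h6.1 h6.2, add_zero]
          · rw [show ((b : ℤ) : ℂ) = ((b : ℝ) : ℂ) by push_cast; rfl, Complex.normSq_ofReal, sq]
          · rintro ⟨-, h7⟩
            rw [h6.1, one_mul] at h7
            exact h5 h7
        · rw [if_neg (fun h => h6 h.2), zero_add]
          by_cases h7 : g * g * g = 1
          · rw [if_pos ⟨h5, h7⟩, hy g h5 h7]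
            rw [show ((c : ℤ) : ℂ) = ((c : ℝ) : ℂ) by push_cast; rfl, Complex.normSq_ofReal, sq]
          · rw [if_neg (fun h => h7 h.2)]
            exact Complex.normSq_nonneg _
    have h5 := Finset.sum_le_sum fun g (_ : g ∈ (Finset.univ : Finset (Equiv.Perm (Fin 5)))) => h4 g
    rw [Finset.sum_add_distrib, Finset.sum_add_distrib, ← Finset.sum_filter,
      ← Finset.sum_filter, ← Finset.sum_filter, Finset.sum_const, Finset.sum_const, Finset.sum_const, cnt_z, cnt_y] at h5
    have h6 : (univ.filter fun g : Equiv.Perm (Fin 5) => g = 1).card = 1 := by (set_option synthInstance.maxSize 9000 in open scoped Cfsg.Agent.Lib.FastPerm in decide +kernel)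
    rw [h6] at h5
    simp only [nsmul_eq_mul] at h5
    push_cast at h5
    linarith
  have e3 : 4 + 3 * b + 8 * c = 0 := by exact_mod_cast e1
  have e4 : 16 + 15 * b ^ 2 + 20 * c ^ 2 ≤ 120 := by exact_mod_cast e2
  have h2 : -3 < c := by nlinarith only [e4, sq_nonneg b]
  have h3 : c < 3 := by nlinarith only [e4]
  have h4 : -3 < b := by nlinarith only [e4, sq_nonneg c]
  have h5 : b < 3 := by nlinarith only [e4]
  interval_cases c <;> (clear * - h4 h5 e3; omega)

end five

/-! ### The key lemma -/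

section

variable {α : Type u} [Fintype α] [DecidableEq α] {p : ℕ}

theorem key_irr (hp : p.Prime) (hp5 : 5 ≤ p) (hα : Fintype.card α = p) {V : Type*} [AddCommGroup V] [Module ℂ V]
    [FiniteDimensional ℂ V] (ρ : Representation ℂ (Equiv.Perm α) V) (hirr : IsIrrCharacter _ ρ.character)
    (h : ∀ c : Equiv.Perm α, orderOf c = p → ∀ v, ρ c v = v → v = 0) (a : α) :
    ∃ v : V, v ≠ 0 ∧ ∀ g : Equiv.Perm α, g a = a → Equiv.Perm.sign g = 1 → ρ g v = v := by
  have hdeg := degree_eq hp hα ρ hirr h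
  by_cases hp7 : 7 ≤ p
  · exact even_seven hp hp7 hα ρ hdeg.1 a
  · have hp' : p = 5 := by
      interval_cases p
      · rfl
      · exact absurd hp (by norm_num)
    subst hp'
    obtain ⟨e0⟩ : Nonempty (α ≃ Fin 5) := ⟨Fintype.equivFinOfCardEq hα⟩
    let e : α ≃ Fin 5 := e0.trans (Equiv.swap (e0 a) 0)
    have he : e a = 0 := by
      change Equiv.swap (e0 a) 0 (e0 a) = 0
      exact Equiv.swap_apply_left _ _
    let E : Equiv.Perm (Fin 5) ≃* Equiv.Perm α := e.symm.permCongrHom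
    have hE : ∀ g x, E g x = e.symm (g (e x)) := fun g x => rfl
    obtain ⟨v, hv, hv1⟩ := even_five (ρ.comp E.toMonoidHom)
      (isIrr_comp E.toMonoidHom E.surjective hirr) (by
        change ρ.character (E 1) = 4
        rw [map_one, hdeg.1]
        norm_num)
    refine ⟨v, hv, fun g hg hs => ?_⟩
    have h1 := hv1 (E.symm g) (by
      have h2 := hE (E.symm g) a
      rw [E.apply_symm_apply, hg, he] at h2
      have h3 := congrArg e h2
      rw [e.apply_symm_apply, he] at h3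
      exact h3.symm) (by
      have h2 : Equiv.Perm.sign (E (E.symm g)) = Equiv.Perm.sign (E.symm g) := Equiv.Perm.sign_permCongr _ _
      rw [← h2, E.apply_symm_apply, hs])
    change ρ (E (E.symm g)) v = v at h1
    rwa [E.apply_symm_apply] at h1

/-- **The key lemma.** -/
theorem key (hp : p.Prime) (hp5 : 5 ≤ p) (hα : Fintype.card α = p) {V : Type*} [AddCommGroup V] [Module ℂ V]
    [FiniteDimensional ℂ V] [Nontrivial V] (ρ : Representation ℂ (Equiv.Perm α) V)
    (h : ∀ c : Equiv.Perm α, orderOf c = p → ∀ v, ρ c v = v → v = 0) (a : α) :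
    ∃ v : V, v ≠ 0 ∧ ((∀ g : Equiv.Perm α, g a = a → ρ g v = v) ∨
      (∀ g : Equiv.Perm α, g a = a → ρ g v = ((Equiv.Perm.sign g : ℤ) : ℂ) • v)) := by
  obtain ⟨U, hU⟩ := exists_irreducible_sub ρ
  obtain ⟨v, hv, hv1⟩ := key_irr hp hp5 hα U.toRepresentation (isIrrCharacter_of_rep _ hU) (by
    intro c hc v hv
    apply Subtype.ext
    exact h c hc v (congrArg Subtype.val hv)) a
  obtain ⟨b, c, hb, hc, hbc⟩ : ∃ b c : α, b ≠ a ∧ c ≠ a ∧ b ≠ c := by
    have h1 : 1 < Fintype.card {x // x ≠ a} := by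
      rw [Fintype.card_subtype_compl, Fintype.card_subtype_eq, hα]
      omega
    obtain ⟨b, c, hbc⟩ := Fintype.one_lt_card_iff.1 h1
    exact ⟨b, c, b.2, c.2, fun h => hbc (Subtype.ext h)⟩
  exact of_even ρ hb hc hbc (v := (v : V)) (fun h0 => hv (Subtype.ext h0)) fun g hg hs =>
    congrArg Subtype.val (hv1 g hg hs)

end

end Cfsg.Agent.H937.AltKey
end

-- part: H937/Conj/AltKeyProp
section
/-!
# The key lemma of S4792 in the form of `Cfsg.Agent.H127.An.KeyLemma`
-/

set_option autoImplicit false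

namespace Cfsg.Agent.H937.AltKey

open Equiv

/-- An element of `S_p` of order `p` is a `p`-cycle moving every point. -/
theorem isCycle_of_orderOf {p : ℕ} (hp : p.Prime) {c : Perm (Fin p)} (hc : orderOf c = p) :
    c.IsCycle ∧ c.support = Finset.univ := by
  have h1 : c.IsCycle := Perm.isCycle_of_prime_order' (by rw [hc]; exact hp) (by
    rw [hc, Fintype.card_fin]; have := hp.pos; omega)
  refine ⟨h1, ?_⟩
  rw [← Finset.card_eq_iff_eq_univ, ← h1.orderOf, hc, Fintype.card_fin]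

/-- **The key lemma** in the form of `H127.An.Key`. -/
theorem keyLemma : Cfsg.Agent.H127.An.KeyLemma := by
  intro p hp hp5 V _ _ _ _ ρ h
  obtain ⟨v, hv, h1⟩ := key hp hp5 (Fintype.card_fin p) ρ (fun c hc =>
    h c (isCycle_of_orderOf hp hc).1 (isCycle_of_orderOf hp hc).2) ⟨0, hp.pos⟩
  exact ⟨_, v, hv, h1⟩

end Cfsg.Agent.H937.AltKey
end

-- part: H430/Conj/AsmAlt
section
/-!
# S4792: the row of the alternating groups (helper430)
-/

set_option autoImplicit false

open Cfsg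

namespace Cfsg.Agent.H430.Conj

universe u

theorem row_alt {S : Type u} [Group S] [Finite S] (h : IsAlternating S) : Row S :=
  H127.An.row_alt_of_key H937.AltKey.keyLemma h

end Cfsg.Agent.H430.Conj
end

-- part: H917/CJ/PsuOddMain
section
/-!
# The rows `PSU_{2m+1}(q)`, `m ≥ 2`, `gcd(2m+1, q+1) > 1`, of S4792: conclusion
-/

set_option autoImplicit false
set_option linter.unusedSectionVars false

open Cfsg Module Matrix

namespace Cfsg.Agent.H917.CJ.SuO

open Cfsg.Agent.H430.Conj Cfsg.Agent.H917.CJ Cfsg.Agent.H917.CJ.Su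

/-- `|π(D)| |N| = |D|`. -/
theorem card_map_mul {G : Type*} [Group G] [Finite G] (N D : Subgroup G) [N.Normal] (h : N ≤ D) :
    Nat.card (D.map (QuotientGroup.mk' N)) * Nat.card N = Nat.card D := by
  let f := (QuotientGroup.mk' N).subgroupMap D
  have hf : Function.Surjective f := (QuotientGroup.mk' N).subgroupMap_surjective D
  have h1 : Nat.card (D.map (QuotientGroup.mk' N)) = Nat.card (D ⧸ f.ker) :=
    (Nat.card_congr (QuotientGroup.quotientKerEquivOfSurjective f hf).toEquiv).symm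
  have h2 : f.ker = N.subgroupOf D := by
    ext d
    rw [MonoidHom.mem_ker, Subgroup.mem_subgroupOf]
    constructor
    · intro hd
      have := congrArg Subtype.val hd
      exact (QuotientGroup.eq_one_iff (d : G)).1 this
    · intro hd
      apply Subtype.ext
      exact (QuotientGroup.eq_one_iff (d : G)).2 hd
  have h3 : Nat.card N = Nat.card f.ker := by
    rw [h2]
    exact (Nat.card_congr (Subgroup.subgroupOfEquivOfLe h).toEquiv).symm
  rw [h1, h3, ← Subgroup.card_eq_card_quotient_mul_card_subgroup]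

section main

variable {F K : Type*} [Field F] [Fintype F] [Field K] [Algebra F K] [Finite K] {q n : ℕ}
  (hF : Fintype.card F = q ^ 2) (ψ : (K × K × F) ≃ₗ[F] (Fin n → F))
  (hψ : ∀ u v, hermForm n F q (ψ u) (ψ v) = BO K hF v u)

include hψ in
/-- Elements of `D` as diagonal elements, with their relations. -/
theorem DD_rel {d : SU n F q} {e s : F} (h : ∀ v, SuG.suEnd ψ d v = (e • v.1, e • v.2.1, s * v.2.2)) :
    algebraMap F K e * (algebraMap F K e) ^ q = 1 ∧ s ^ (q + 1) = 1 ∧ e ^ (q + 1) = 1 ∧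
      e ^ (2 * Module.finrank F K) * s = 1 := by
  have h1 : ∀ v, SuG.suEnd ψ d v = (algebraMap F K e * v.1, algebraMap F K e * v.2.1, s * v.2.2) := by
    intro v
    rw [h, Algebra.smul_def, Algebra.smul_def]
  obtain ⟨h2, h3, h4⟩ := dg_rel hF ψ hψ h1
  refine ⟨h2, h3, ?_, ?_⟩
  · apply (algebraMap F K).injective
    rw [map_pow, pow_succ', h2, map_one]
  · rw [Algebra.norm_algebraMap] at h4
    rw [two_mul, pow_add, mul_assoc]
    exact h4

include hψ in
theorem card_DD_le : Nat.card (DD (q := q) ψ) ≤ q + 1 := by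
  classical
  choose e s he0 hs0 hes using fun d : DD (q := q) ψ => (mem_DD ψ).1 d.2
  have hinj : Function.Injective e := by
    intro d d' hdd
    apply Subtype.ext
    apply SuG.suEnd_injective ψ
    refine LinearMap.ext fun v => ?_
    have h1 := (DD_rel hF ψ hψ (hes d)).2.2.2
    have h2 := (DD_rel hF ψ hψ (hes d')).2.2.2
    have h3 : s d = s d' := by
      rw [← hdd] at h2
      exact mul_left_cancel₀ (pow_ne_zero _ (he0 d)) (h1.trans h2.symm)
    rw [hes d, hes d', hdd, h3]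
  have hroot : ∀ d, e d ∈ (Polynomial.nthRoots (q + 1) (1 : F)).toFinset := by
    intro d
    rw [Multiset.mem_toFinset, Polynomial.mem_nthRoots (by omega)]
    exact (DD_rel hF ψ hψ (hes d)).2.2.1
  have hfin := Fintype.ofFinite (DD (q := q) ψ)
  rw [Nat.card_eq_fintype_card]
  calc Fintype.card (DD (q := q) ψ) = (Finset.univ : Finset (DD (q := q) ψ)).card := rfl
    _ ≤ (Polynomial.nthRoots (q + 1) (1 : F)).toFinset.card :=
        Finset.card_le_card_of_injOn e (fun d _ => hroot d) hinj.injOn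
    _ ≤ Multiset.card (Polynomial.nthRoots (q + 1) (1 : F)) := Multiset.toFinset_card_le _
    _ ≤ q + 1 := Polynomial.card_nthRoots _ _

include hψ in
theorem card_QQ_ge {w : K} (hw : w ≠ 0) : q ^ 2 * Nat.card (ZZ hF ψ) ≤ Nat.card (QQ hF ψ w) := by
  classical
  choose y hy τ hyτ using fun c : F => exists_qel hF ψ hψ w c
  have hZQ : ZZ hF ψ ≤ QQ hF ψ w := by
    rintro g ⟨τ, hτ⟩
    exact ⟨0, τ, by rw [zero_smul]; exact hτ⟩
  let f : F × ZZ hF ψ → QQ hF ψ w := fun p => ⟨(p.2 : SU n F q) * y p.1, (QQ hF ψ w).mul_mem (hZQ p.2.2) (hy p.1)⟩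
  have hf : Function.Injective f := by
    rintro ⟨c, z⟩ ⟨c', z'⟩ h
    have h1 : (z : SU n F q) * y c = (z' : SU n F q) * y c' := congrArg Subtype.val h
    obtain ⟨τz, hτz⟩ := z.2
    obtain ⟨τz', hτz'⟩ := z'.2
    have h2 := congrArg (SuG.suEnd ψ) h1
    rw [map_mul, map_mul, hτz, hτz', hyτ, hyτ, uq_mul, uq_mul, zero_add, zero_add] at h2
    have h3 := (uq_inj hF h2).1
    have h4 : c = c' := smul_left_injective F hw h3
    subst h4
    have h5 : z = z' := Subtype.ext (mul_right_cancel h1)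
    rw [h5]
  have h1 := Nat.card_le_card_of_injective f hf
  rwa [Nat.card_prod, Nat.card_eq_fintype_card (α := F), hF] at h1

end main

theorem row_psu_odd {F : Type*} [Field F] [Fintype F] {q m : ℕ} (hF : Fintype.card F = q ^ 2) (hm : 2 ≤ m)
    (hd : 1 < Nat.gcd (2 * m + 1) (q + 1)) (hs : IsSimpleGroup (PSU (2 * m + 1) F q)) :
    Row (PSU (2 * m + 1) F q) := by
  classical
  obtain ⟨K, _, _, _, hK⟩ := exists_ext F m (by omega)
  have hfd : Module.Finite F K := Module.Finite.of_finite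
  have := Fintype.ofFinite K
  have hq2 := two_le_q hF
  have hq0 := q_pos hF
  have hn3 : 3 ≤ 2 * m + 1 := by omega
  obtain ⟨ω, hω⟩ := IsCyclic.exists_generator (α := Kˣ)
  have hcF : Nat.card F = q ^ 2 := by rw [Nat.card_eq_fintype_card, hF]
  have hord : orderOf ω = q ^ (2 * m) - 1 := by
    rw [orderOf_eq_card_of_forall_mem_zpowers hω, Nat.card_units, Module.natCard_eq_pow_finrank (K := F), hK, hcF,
      ← pow_mul]
  set r : K := (ω : K) with hr
  have hr0 : r ≠ 0 := ω.ne_zero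
  have hrq : r ^ q ≠ 0 := pow_ne_zero _ hr0
  have hωpow : ∀ k : ℕ, r ^ k = 1 → q ^ (2 * m) - 1 ∣ k := by
    intro k hk
    rw [← hord]
    apply orderOf_dvd_of_pow_eq_one
    ext
    simpa only [_root_.Units.val_pow_eq_pow_val, _root_.Units.val_one] using hk
  have hgen : Algebra.adjoin F {r} = ⊤ := adjoin_primitive hω
  have hcard : ∀ i, Nat.card F ^ i = q ^ (2 * i) := fun i => by rw [hcF, ← pow_mul]
  have hrF : ∀ t : F, r ≠ algebraMap F K t := by
    intro t ht
    have h1 : (⊥ : Subalgebra F K) = ⊤ := by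
      rw [← hgen, eq_comm, ← le_bot_iff, Algebra.adjoin_le_iff, ht]
      intro y hy
      rw [Set.mem_singleton_iff] at hy
      rw [hy]
      exact Subalgebra.algebraMap_mem _ _
    have h2 : Module.finrank F K = 1 := Subalgebra.bot_eq_top_iff_finrank_eq_one.1 h1
    omega
  -- the inverse of the `q`-th power is also a generator of the cyclic group
  have hsgen : Algebra.adjoin F {(r ^ q)⁻¹} = ⊤ := by
    apply adjoin_of_pow
    intro i hi him h
    rw [hK] at him
    rw [hcard] at h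
    have h1 : (r ^ q) ^ (q ^ (2 * i)) = r ^ q := by
      rw [inv_pow] at h
      exact inv_injective h
    -- `r^(q (q^(2i) - 1)) = 1`
    have h2 : r ^ (q * (q ^ (2 * i) - 1)) = 1 := by
      apply mul_right_cancel₀ hrq
      have hone : 1 ≤ q ^ (2 * i) := Nat.one_le_pow _ _ (by omega)
      rw [one_mul, ← pow_add, ← h1, ← pow_mul]
      congr 1
      rw [Nat.mul_sub, mul_one, Nat.sub_add_cancel]
      exact Nat.le_mul_of_pos_right _ (by omega)
    have h3 := hωpow _ h2
    have hN : 1 ≤ q ^ (2 * m) := Nat.one_le_pow _ _ (by omega)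
    have hcop : Nat.Coprime (q ^ (2 * m) - 1) q := by
      have h2 : Nat.Coprime (q ^ (2 * m) - 1) (q ^ (2 * m)) := by
        have h3 : q ^ (2 * m) = (q ^ (2 * m) - 1) + 1 := by omega
        rw [h3, Nat.add_sub_cancel]
        exact Nat.coprime_self_add_right.2 (Nat.coprime_one_right _)
      exact Nat.Coprime.coprime_dvd_right (dvd_pow_self q (by omega)) h2
    have h4 := hcop.dvd_of_dvd_mul_left h3
    have h5 := pow_lt_pow_right₀ (show 1 < q by omega) (show 2 * i < 2 * m by omega)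
    have h6 : 2 ^ 1 ≤ q ^ (2 * i) := by
      calc 2 ^ 1 ≤ q ^ 1 := Nat.pow_le_pow_left hq2 1
        _ ≤ q ^ (2 * i) := Nat.pow_le_pow_right (by omega) (by omega)
    have h7 := Nat.le_of_dvd (by omega) h4
    omega
  have hB : ∀ θ : K ≃ₐ[F] K, θ r * r ^ q ≠ 1 := by
    intro θ hθ
    obtain ⟨i, hi, hθi⟩ := aut_eq_pow_lt θ
    rw [hK] at hi
    rw [hθi, hcard, ← pow_add] at hθ
    exact numO hq2 hm hi (hωpow _ hθ)
  -- `u ↦ T_u` is injective
  have hbig : (r ^ q) ^ q ≠ r := by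
    intro h
    rw [← pow_mul] at h
    have h1 : r ^ (q * q - 1) = 1 := by
      apply mul_right_cancel₀ hr0
      rw [← pow_succ, Nat.sub_add_cancel (by nlinarith only [hq2]), h, one_mul]
    have h2 := Nat.le_of_dvd (by nlinarith only [hq2, Nat.sub_add_cancel (show 1 ≤ q * q by nlinarith)]) (hωpow _ h1)
    have h3 : q ^ (2 * 2) ≤ q ^ (2 * m) := Nat.pow_le_pow_right (by omega) (by omega)
    have h4 : q ^ (2 * 2) = (q * q) * (q * q) := by ring
    have h5 : q * q * 2 ≤ (q * q) * (q * q) := Nat.mul_le_mul_left _ (by nlinarith only [hq2])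
    have h6 : 4 ≤ q * q := by nlinarith only [hq2]
    omega
  have htw : ∀ u : K, (∀ b, tw hF u b = 0) → u = 0 := by
    intro u hu
    by_contra hne
    have h1 := hu 1
    rw [tw_apply, one_pow, one_pow, mul_one, mul_one, sub_eq_zero] at h1
    have h2 := hu r
    rw [tw_apply, ← h1, ← mul_sub] at h2
    rcases mul_eq_zero.1 h2 with h3 | h3
    · exact hne h3
    · exact hbig (sub_eq_zero.1 h3).symm
  -- the isometry
  obtain ⟨ψ, hψ⟩ := SuG.exists_std hF (BO K hF) (BO_symm hF) (BO_sep hF)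
    (show Module.finrank F (K × K × F) = 2 * m + 1 by
      rw [Module.finrank_prod, Module.finrank_prod, Module.finrank_self, hK]; omega)
  -- the torus element
  let c₀ : F := (Algebra.norm F r) ^ (q - 1)
  have hN0 : Algebra.norm F r ≠ 0 := by rwa [Ne, Algebra.norm_eq_zero_iff]
  have hc0 : c₀ ≠ 0 := pow_ne_zero _ hN0
  have hc1 : c₀ ^ (q + 1) = 1 := by
    have h1 : (q - 1) * (q + 1) = Fintype.card F - 1 := by
      rw [hF]
      obtain ⟨d, rfl⟩ : ∃ d, q = d + 1 := ⟨q - 1, by omega⟩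
      rw [Nat.add_sub_cancel]
      have : (d + 1) ^ 2 = d * (d + 1 + 1) + 1 := by ring
      rw [this, Nat.add_sub_cancel]
    rw [← pow_mul, h1]
    exact FiniteField.pow_card_sub_one_eq_one _ hN0
  have hdetx : LinearMap.det (dg (r ^ q)⁻¹ r c₀) = 1 := by
    rw [det_dg]
    have h1 : Algebra.norm F r * c₀ = Algebra.norm F (r ^ q) := by
      rw [map_pow, ← pow_succ', Nat.sub_add_cancel (by omega)]
    rw [h1, ← map_mul, inv_mul_cancel₀ hrq, map_one]
  obtain ⟨x, hx⟩ := SuG.exists_su hF ψ hψ (dg (r ^ q)⁻¹ r c₀)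
    (BO_dg hF (inv_mul_cancel₀ hrq) hc1) hdetx
  have hx' : ∀ v, SuG.suEnd ψ x v = ((r ^ q)⁻¹ * v.1, r * v.2.1, c₀ * v.2.2) := fun v => by rw [hx, dg_apply]
  have hkey := fun c z hz hcx => key hF ψ hψ hn3 hr0 hc0 hgen hsgen hrF hB hx' c z hz hcx
  -- scalars of the centre
  have hsc : ∀ g : SU (2 * m + 1) F q, g ∈ Subgroup.center (SU (2 * m + 1) F q) →
      ∃ ζ : F, ζ ^ (q + 1) = 1 ∧ ∀ v, SuG.suEnd ψ g v = ζ • v := fun g hg => SuG.smul_of_mem_center hF ψ hn3 hg
  have hrk : ∀ (w : K), rk hF w 0 = 0 := by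
    intro w
    refine LinearMap.ext fun b => ?_
    rw [rk_apply, smul_zero]; rfl
  have hrk' : ∀ (w : K), rk hF 0 w = 0 := by
    intro w
    refine LinearMap.ext fun b => ?_
    rw [rk_apply, ph_zero, zero_smul]; rfl
  have hZQ : ∀ w : K, ZZ hF ψ ≤ QQ hF ψ w := by
    rintro w g ⟨τ, hτ⟩
    exact ⟨0, τ, by rw [zero_smul]; exact hτ⟩
  have hQN : ∀ w : K, ∀ y ∈ QQ hF ψ w, y ∈ Subgroup.center (SU (2 * m + 1) F q) → y = 1 := by
    rintro w y ⟨c, τ, hy⟩ hyN
    obtain ⟨ζ, -, hζ⟩ := hsc y hyN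
    have h1 := hζ (1, 0, 0)
    rw [hy, uq_apply] at h1
    simp only [map_zero, add_zero, zero_smul] at h1
    have h2 : (1 : K) = ζ • (1 : K) := congrArg (fun v : K × K × F => v.1) h1
    have h3 : ζ = 1 := by
      rw [Algebra.smul_def, mul_one] at h2
      exact ((map_eq_one_iff _ (algebraMap F K).injective).1 h2.symm)
    apply SuG.suEnd_injective ψ
    rw [map_one]
    refine LinearMap.ext fun v => ?_
    rw [hζ, h3, one_smul]
    rfl
  -- conjugation
  have hconj : ∀ (c g : SU (2 * m + 1) F q) (a a' : K) (s : F), (∀ v, SuG.suEnd ψ c v = (a * v.1, a' * v.2.1, s * v.2.2)) →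
      ∀ (w : K) (τ : K →ₗ[F] K), SuG.suEnd ψ g = uq hF w τ → SuG.suEnd ψ (c * g * c⁻¹)
        = uq hF (s⁻¹ • (a * w)) ((LinearMap.mulLeft F a) ∘ₗ τ ∘ₗ (LinearMap.mulLeft F a'⁻¹)) := by
    intro c g a a' s hc w τ hg
    obtain ⟨h1, h2, -⟩ := dg_rel hF ψ hψ hc
    have hc' : SuG.suEnd ψ c = dg a a' s := LinearMap.ext fun v => by rw [hc, dg_apply]
    rw [map_mul, map_mul, hg, hc', dg_uq hF h1 h2, ← hc', mul_assoc, ← map_mul, mul_inv_cancel, map_one, mul_one]
  have htwc : ∀ (a a' u : K), a * a' ^ q = 1 →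
      (LinearMap.mulLeft F a) ∘ₗ tw hF u ∘ₗ (LinearMap.mulLeft F a'⁻¹) = tw hF (a * a'⁻¹ * u) := by
    intro a a' u haa
    have ha' : a' ≠ 0 := by
      rintro rfl
      rw [zero_pow hq0, mul_zero] at haa
      exact zero_ne_one haa
    refine LinearMap.ext fun b => ?_
    change a * tw hF u (a'⁻¹ * b) = tw hF (a * a'⁻¹ * u) b
    rw [tw_apply, tw_apply]
    have haq : a = (a' ^ q)⁻¹ := eq_inv_of_mul_eq_one_left haa
    rw [haq]
    simp only [mul_pow, inv_pow]
    field_simp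
  refine row_heis (Subgroup.center (SU (2 * m + 1) F q)) x (AA hF ψ) (ZZ hF ψ) (DD ψ) ?_ ?_ ?_ ?_ ?_ ?_ ?_
  · rintro g ⟨u, hu⟩
    exact ⟨_, hu⟩
  · -- `A ≠ 1`
    intro h0
    have hsk : Skew hF 0 (tw hF (1 : K)) := by
      obtain ⟨ι, _, w, w', hsum⟩ := tw_eq_sum (K := K) hF (1 : K)
      rw [hsum]
      have : ∀ s : Finset ι, Skew hF 0 (∑ i ∈ s, cm hF (w i) (w' i)) := by
        intro s
        induction s using Finset.induction_on with
        | empty =>
          intro b b'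
          rw [Finset.sum_empty, ph_zero, ph_zero]
          simp [hq0]
        | insert i s hi ih =>
          rw [Finset.sum_insert hi]
          exact skew_add hF (skew_cm hF _ _) ih
      exact this _
    obtain ⟨g, hg⟩ := SuG.exists_su hF ψ hψ (uq hF 0 (tw hF (1 : K))) (BO_uq hF hsk) (det_uq hF 0 _)
    have h1 : g ∈ AA hF ψ := ⟨1, hg⟩
    rw [h0, Subgroup.mem_bot] at h1
    rw [h1, map_one, ← uq_one hF] at hg
    have h2 := (uq_inj hF hg).2
    have h3 := htw 1 fun b => by rw [← h2]; rfl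
    exact one_ne_zero h3
  · rintro a ⟨τ, hτ⟩ b ⟨τ', hτ'⟩
    apply SuG.suEnd_injective ψ
    rw [map_mul, map_mul, hτ, hτ', uq_mul, uq_mul, hrk, add_comm τ τ']
  · intro c z hz hcx
    obtain ⟨a, a', s, hc⟩ := hkey c z hz hcx
    obtain ⟨haa, hss, -⟩ := dg_rel hF ψ hψ hc
    have ha' : a' ≠ 0 := by
      rintro rfl
      rw [zero_pow hq0, mul_zero] at haa
      exact zero_ne_one haa
    have hs0 : s ≠ 0 := by
      rintro rfl
      rw [zero_pow (by omega)] at hss
      exact zero_ne_one hss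
    refine ⟨?_, ?_, ?_⟩
    · rintro g ⟨u, hu⟩
      refine ⟨a * a'⁻¹ * u, ?_⟩
      rw [hconj c g a a' s hc _ _ hu, htwc a a' u haa, mul_zero, smul_zero]
    · rintro g ⟨τ, hτ⟩
      refine ⟨(LinearMap.mulLeft F a) ∘ₗ τ ∘ₗ (LinearMap.mulLeft F a'⁻¹), ?_⟩
      rw [hconj c g a a' s hc _ _ hτ, mul_zero, smul_zero]
    · by_cases haeq : a = a'
      · left
        have e6 : a ^ (q + 1) = 1 := by rw [pow_succ']; nth_rewrite 2 [haeq]; exact haa
        have e8 : a ^ Fintype.card F = a := by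
          rw [hF]
          have e9 : q ^ 2 = (q + 1) * (q - 1) + 1 := by
            obtain ⟨d, rfl⟩ : ∃ d, q = d + 1 := ⟨q - 1, by omega⟩
            rw [Nat.add_sub_cancel]; ring
          rw [e9, pow_succ, pow_mul, e6, one_pow, one_mul]
        have e9 : ∀ i : ℕ, a ^ (Nat.card F ^ i) = a := by
          intro i
          induction i with
          | zero => rw [pow_zero, pow_one]
          | succ i ih => rw [pow_succ, pow_mul, ih, Nat.card_eq_fintype_card, e8]
        have e10 : a ∈ (⊥ : IntermediateField F K) := by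
          rw [IsGalois.mem_bot_iff_fixed]
          intro θ
          obtain ⟨i, hi⟩ := aut_eq_pow θ
          rw [hi, e9]
        obtain ⟨e, he⟩ := IntermediateField.mem_bot.1 e10
        refine ⟨e, s, ?_, hs0, fun v => ?_⟩
        · rintro rfl
          rw [map_zero] at he
          exact ha' (haeq ▸ he.symm)
        · rw [hc, ← haeq, ← he, ← Algebra.smul_def, ← Algebra.smul_def]
      · right
        rintro g ⟨u, hu⟩ hcg
        have h1 := hconj c g a a' s hc _ _ hu
        rw [hcg, mul_inv_cancel_right, hu, htwc a a' u haa, mul_zero, smul_zero] at h1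
        have h2 := (uq_inj hF h1).2
        have h3 : u - a * a'⁻¹ * u = 0 := by
          apply htw
          intro b
          have h4 := congrArg (fun T : K →ₗ[F] K => T b) h2
          simp only [tw_apply] at h4
          rw [tw_apply, sub_q hF]
          linear_combination h4
        have h4 : u = 0 := by
          by_contra hu0
          apply haeq
          have h5 : a * a'⁻¹ = 1 := by
            apply mul_right_cancel₀ hu0
            rw [one_mul]
            exact (sub_eq_zero.1 h3).symm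
          rw [mul_inv_eq_one₀ ha'] at h5
          exact h5
        apply SuG.suEnd_injective ψ
        rw [hu, h4, map_one, ← uq_one hF]
        congr 1
        refine LinearMap.ext fun b => ?_
        rw [tw_zero]; rfl
  · intro y hy hyN
    exact hQN 0 y (hZQ 0 hy) hyN
  · rintro d ⟨e, s, he0, hs0, hd⟩ z ⟨τ, hτ⟩
    apply SuG.suEnd_injective ψ
    rw [map_mul, map_mul, hτ]
    refine LinearMap.ext fun v => ?_
    rw [Module.End.mul_apply, Module.End.mul_apply, hd, hd, uq_apply, uq_apply]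
    simp only [ph_zero, add_zero, smul_zero, map_smul, smul_add]
  · intro l hl
    obtain ⟨w, ν, z₀, hz₀, hlz₀⟩ := exists_line hF ψ hψ l hl
    have hw0 : w ≠ 0 := by
      rintro rfl
      apply hlz₀
      have : z₀ = 1 := by
        apply Subtype.ext
        apply SuG.suEnd_injective ψ
        rw [hz₀, Subgroup.coe_one, map_one, ← uq_one hF]
        congr 1
        rw [cm, smul_zero, hrk, sub_self]
      rw [this, map_one]
    refine ⟨QQ hF ψ w, hZQ w, ?_, ?_, hQN w, ?_, ?_, ?_⟩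
    · rintro z ⟨τ, hτ⟩ y ⟨c, τ', hτ'⟩
      apply SuG.suEnd_injective ψ
      rw [map_mul, map_mul, hτ, hτ', uq_mul, uq_mul, hrk, hrk', add_comm τ τ', add_comm (0 : K)]
    · rintro d ⟨e, s, he0, hs0, hd⟩ y ⟨c, τ, hτ⟩
      have hd' : ∀ v, SuG.suEnd ψ d v = (algebraMap F K e * v.1, algebraMap F K e * v.2.1, s * v.2.2) := by
        intro v
        rw [hd, Algebra.smul_def, Algebra.smul_def]
      refine ⟨s⁻¹ * (e * c),
        (LinearMap.mulLeft F (algebraMap F K e)) ∘ₗ τ ∘ₗ (LinearMap.mulLeft F (algebraMap F K e)⁻¹), ?_⟩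
      rw [hconj d y _ _ s hd' _ _ hτ, ← Algebra.smul_def, smul_smul, smul_smul, mul_assoc]
    · rintro d ⟨e, s, he0, hs0, hd⟩ hdN y ⟨c, τ, hτ⟩ hdy
      have hd' : ∀ v, SuG.suEnd ψ d v = (algebraMap F K e * v.1, algebraMap F K e * v.2.1, s * v.2.2) := by
        intro v
        rw [hd, Algebra.smul_def, Algebra.smul_def]
      obtain ⟨τz, hτz⟩ := hdy
      have h1 := hconj d y _ _ s hd' _ _ hτ
      have h2 : d * y * d⁻¹ = (d * y * d⁻¹ * y⁻¹) * y := by group
      rw [h2, map_mul, hτz, hτ, uq_mul, zero_add] at h1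
      have h3 := (uq_inj hF h1).1
      rw [← Algebra.smul_def, smul_smul, smul_smul] at h3
      have h4 : c = s⁻¹ * (e * c) := by
        have := smul_left_injective F hw0 h3
        simpa [mul_assoc] using this
      by_cases hc : c = 0
      · exact ⟨τ, by rw [hτ, hc, zero_smul]⟩
      · exfalso
        apply hdN
        have h5 : s⁻¹ * e = 1 := by
          apply mul_right_cancel₀ hc
          rw [one_mul, mul_assoc, ← h4]
        have h6 : s = e := inv_mul_eq_one₀ hs0 |>.1 h5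
        apply SuG.mem_center_of_smul ψ (ζ := e)
        intro v
        rw [hd, h6]
        rfl
    · rintro y ⟨c, τ, hτ⟩ hyZ
      have hc : c ≠ 0 := by
        rintro rfl
        exact hyZ ⟨τ, by rw [hτ, zero_smul]⟩
      obtain ⟨y', hy', τ', hτ'⟩ := exists_qel hF ψ hψ w ((c ^ q)⁻¹ * ν)
      refine ⟨y', hy', z₀, ?_, hlz₀⟩
      have h1 : y * y' = z₀ * (y' * y) := by
        apply SuG.suEnd_injective ψ
        rw [map_mul, map_mul, map_mul, hτ, hτ', hz₀, uq_mul, uq_mul, uq_mul, zero_add, hrk, add_zero,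
          add_comm (c • w)]
        congr 1
        have h2 : cm hF w (ν • w) = cm hF (c • w) (((c ^ q)⁻¹ * ν) • w) := by
          rw [cm_smul, smul_smul, ← mul_assoc, mul_inv_cancel₀ (pow_ne_zero _ hc), one_mul]
        rw [h2, cm]
        abel
      rw [mul_assoc, mul_assoc, ← mul_assoc y y', h1]
      group
    · -- cardinalities
      have h1 : Nat.card ((DD (q := q) ψ).map (QuotientGroup.mk' (Subgroup.center (SU (2 * m + 1) F q)))) *
          Nat.card (Subgroup.center (SU (2 * m + 1) F q)) = Nat.card (DD (q := q) ψ) := by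
        apply card_map_mul
        intro g hg
        obtain ⟨ζ, hζ2, hζ⟩ := hsc g hg
        have hζ0 : ζ ≠ 0 := by
          rintro rfl
          rw [zero_pow (by omega)] at hζ2
          exact zero_ne_one hζ2
        exact ⟨ζ, ζ, hζ0, hζ0, fun v => by rw [hζ]; rfl⟩
      have h2 := card_DD_le hF ψ hψ
      have h3 : Nat.card (Subgroup.center (SU (2 * m + 1) F q)) = Nat.gcd (2 * m + 1) (q + 1) :=
        Cfsg.Agent.S0279.result hF _ hn3
      rw [h3] at h1
      have h4 := card_QQ_ge hF ψ hψ hw0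
      set M := Nat.card ((DD (q := q) ψ).map (QuotientGroup.mk' (Subgroup.center (SU (2 * m + 1) F q))))
      have h5 : M * 2 ≤ q + 1 := by
        calc M * 2 ≤ M * Nat.gcd (2 * m + 1) (q + 1) := Nat.mul_le_mul_left _ hd
          _ ≤ q + 1 := by rw [h1]; exact h2
      have h6 : M ≤ q := by omega
      calc M ^ 2 * Nat.card (ZZ hF ψ) ≤ q ^ 2 * Nat.card (ZZ hF ψ) :=
            Nat.mul_le_mul_right _ (Nat.pow_le_pow_left h6 2)
        _ ≤ _ := h4

end Cfsg.Agent.H917.CJ.SuO
end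

-- part: H917/CJ/PsuAll
section
/-!
# The rows `PSU_n(q)`, `n ≥ 4`, of S4792
-/

set_option autoImplicit false

open Cfsg Module Matrix

namespace Cfsg.Agent.H917.CJ

open Cfsg.Agent.H430.Conj

/-- Rows `PSU_n(q)`, `n ≥ 4`, `n` not coprime to `2 (q + 1)`. -/
theorem row_psu {S : Type*} [Group S] [Finite S] (hs : IsSimpleGroup S) {F : Type*} [Field F] [Fintype F] {n q : ℕ}
    (hF : Fintype.card F = q ^ 2) (hn : 4 ≤ n) (hex : ¬ Nat.Coprime n (2 * (q + 1))) (e : S ≃* PSU n F q) :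
    Row S := by
  have hfin : Finite (PSU n F q) := Finite.of_equiv _ e.toEquiv
  have hnt : Nontrivial (PSU n F q) := e.symm.toEquiv.nontrivial
  have hs' : IsSimpleGroup (PSU n F q) := IsSimpleGroup.isSimpleGroup_of_surjective e.toMonoidHom e.surjective
  rcases Nat.even_or_odd n with h | h
  · obtain ⟨m, rfl⟩ := h
    have h1 : m + m = 2 * m := by ring
    rw [h1] at e hs' hfin hn
    exact ((frob_psu_even hF (by omega)).of_equiv e.symm).row
  · obtain ⟨m, rfl⟩ := h
    have hd : 1 < Nat.gcd (2 * m + 1) (q + 1) := by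
      by_contra hle
      apply hex
      apply Nat.Coprime.mul_right
      · exact (Nat.coprime_two_right).2 ⟨m, rfl⟩
      · have hpos : 0 < Nat.gcd (2 * m + 1) (q + 1) := Nat.gcd_pos_of_pos_left _ (by omega)
        rw [Nat.coprime_iff_gcd_eq_one]
        omega
    exact Row.of_equiv e.symm (SuO.row_psu_odd hF (by omega) hd hs')

end Cfsg.Agent.H917.CJ
end

private theorem dce_3b17a9105c38 : _root_.True := by
  try have : _root_.True := by simp only [_root_.Cfsg.Agent.H127.An.Cyc.congr_simp]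
  try have : _root_.True := by simp only [_root_.Cfsg.Agent.H127.An.fixS.eq_1]
  try have : _root_.True := by simp only [_root_.Cfsg.Agent.H917.CJ.SuO.cm.eq_1]
  exact _root_.True.intro
end

-- part: H430/Conj/AsmLie
section
prune_inst 0x4c43042004922000000000000002000004800002000000000000008040008000000800000018000054200000100040020020000204000000000000400000400000080100020000000020000000000010000100000000000000000000000000000200000002
set_option linter.all false
open scoped Cfsg.Agent.FastGrp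

-- part: H93/CJ/OMinus
section
/-!
# The row of the orthogonal groups of minus type (for S4792)
-/

set_option autoImplicit false

namespace Cfsg.Agent.H93.CJ

open Module QuadraticMap Cfsg Cfsg.Agent.H430.Conj
open Cfsg.Agent.LieClassical.OrthCore Cfsg.Agent.LieClassical.OrthTrans Cfsg.Agent.LieClassical.OrthForms
open Cfsg.Agent.LieClassical.OrthFinite
open Cfsg.Agent.H122.OrthWt Cfsg.Agent.H122.OrthIso Cfsg.Agent.H122.OrthRep
open Cfsg.Agent.H182.Sign Cfsg.Agent.H890.SpParity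

universe v

section swap

variable {F L : Type*} [Field F] [Field L] [Algebra F L] [FiniteDimensional F L]

/-- The swap case does not occur in `E`. -/
theorem not_swap {Q : QuadraticForm F L} (hQ : Nondeg Q) (hd : Even (finrank F L)) {c : (L × F × F) ≃ₗ[F] (L × F × F)}
    (hc : c ∈ E (HQ Q)) {b : F} (hb : b ≠ 0) {σ : L}
    (h : ∀ (w : L) (x z : F), c (w, x, z) = (σ * w, b⁻¹ * z, b * x)) : False := by
  have h1 := even_E (nondeg_HQ Q hQ) hc
  have hV : finrank F (L × F × F) = finrank F L + 2 := by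
    rw [finrank_prod, finrank_prod, finrank_self]
  have hmem : ∀ v : L × F × F, v ∈ fix c ↔ σ * v.1 = v.1 ∧ v.2.2 = b * v.2.1 := by
    rintro ⟨w, x, z⟩
    rw [mem_fix, h, Prod.ext_iff, Prod.ext_iff]
    show σ * w = w ∧ b⁻¹ * z = x ∧ b * x = z ↔ σ * w = w ∧ z = b * x
    constructor
    · rintro ⟨h1, -, h2⟩
      exact ⟨h1, h2.symm⟩
    · rintro ⟨h1, rfl⟩
      refine ⟨h1, ?_, rfl⟩
      rw [← mul_assoc, inv_mul_cancel₀ hb, one_mul]
  by_cases hσ : σ = 1
  · let e : fix c ≃ₗ[F] L × F :=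
      { toFun := fun v => (v.1.1, v.1.2.1)
        invFun := fun w => ⟨(w.1, w.2, b * w.2), (hmem _).2 ⟨by rw [hσ, one_mul], rfl⟩⟩
        map_add' := fun _ _ => rfl
        map_smul' := fun _ _ => rfl
        left_inv := fun v => by
          apply Subtype.ext
          have := ((hmem _).1 v.2).2
          exact Prod.ext rfl (Prod.ext rfl this.symm)
        right_inv := fun _ => rfl }
    rw [e.finrank_eq, finrank_prod, finrank_self, hV] at h1
    obtain ⟨r, hr⟩ := hd
    obtain ⟨s, hs⟩ := h1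
    omega
  · let e : fix c ≃ₗ[F] F :=
      { toFun := fun v => v.1.2.1
        invFun := fun w => ⟨(0, w, b * w), (hmem _).2 ⟨by rw [mul_zero], rfl⟩⟩
        map_add' := fun _ _ => rfl
        map_smul' := fun _ _ => rfl
        left_inv := fun v => by
          apply Subtype.ext
          obtain ⟨h2, h3⟩ := (hmem _).1 v.2
          have h4 : (σ - 1) * v.1.1 = 0 := by
            rw [sub_mul, h2, one_mul, sub_self]
          have h5 := (mul_eq_zero.1 h4).resolve_left (sub_ne_zero.2 hσ)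
          exact Prod.ext h5.symm (Prod.ext rfl h3.symm)
        right_inv := fun _ => rfl }
    rw [e.finrank_eq, finrank_self, hV] at h1
    obtain ⟨r, hr⟩ := hd
    obtain ⟨s, hs⟩ := h1
    omega

end swap

/-- **Row `PΩ⁻`**, up to isomorphism -/
theorem row_ominus_equiv {F : Type} [Field F] [Fintype F] {m : ℕ} (hm : 4 ≤ m) (a b : F)
    (hab : ∀ z₁ z₂ : F, z₁ ^ 2 + a * z₁ * z₂ + b * z₂ ^ 2 = 0 → z₁ = 0 ∧ z₂ = 0)
    {S : Type v} [Group S] (i : POmega F (quadFormMinus (m - 1) F a b) ≃* S) : Row S := by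
  obtain ⟨k, rfl⟩ : ∃ k, m = k + 2 := ⟨m - 2, by omega⟩
  rw [show k + 2 - 1 = k + 1 by omega, ← coe_minusForm] at i
  obtain ⟨L, _, _, _, Q, u, hs, hu0, hu, hcomm, hns, hval⟩ := exists_torus F (k := k + 1) (by omega)
  have hfin : FiniteDimensional F L := Module.Finite.of_finite
  have hd : finrank F L = 2 * (k + 1) := hs.dim
  have hQ := hs.nondeg
  have hV : finrank F (L × F × F) = finrank F L + 2 := by
    rw [finrank_prod, finrank_prod, finrank_self]
  have hGH : Good (HQ Q) := good_of_finite (nondeg_HQ Q hQ) (by omega)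
  have hG : Good Q := good_of_finite hQ (by omega)
  have hRn : Nondeg (minusForm (k + 1) F a b) := nondeg_minusForm (k + 1) F a b hab
  have hRd : finrank F ((Fin (k + 1) ⊕ Fin (k + 1)) ⊕ Fin 2 → F) = 2 * (k + 2) := by
    rw [finrank_fintype_fun_eq_card]
    simp only [Fintype.card_sum, Fintype.card_fin]
    omega
  obtain ⟨e, he⟩ := (isoQ_minus k a b).trans
    (show IsoQ (HQ (minusForm k F a b)) (HQ Q) from IsoQ.hq ((sg_minusForm k hab).exists_equiv hs))
  obtain ⟨π, hπ, hker⟩ := exists_pi (R := minusForm (k + 1) F a b) (Q := HQ Q) (c := 1)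
    (good_of_finite hRn (by omega)) (good_of_finite (nondeg_smul hRn one_ne_zero) (by omega)) e one_ne_zero
    (fun v => by rw [he, one_mul]) hGH i
  refine row_orth hQ hGH (transN_of_good Q hG) π hπ ?_
  intro l hl
  set g0 : L ≃ₗ[F] L := mulL F u hu0 with hg0
  have hg0O : g0 ∈ O Q := mem_O.2 fun v => hu v
  have hgE : _root_.Cfsg.Agent.H122.OrthWt.ext g0 * _root_.Cfsg.Agent.H122.OrthWt.ext g0 ∈ E (HQ Q) := ETable.Orth.sq_mem_E hGH (ext_mem_O Q hg0O)
  refine ⟨⟨_, hgE⟩, l, hl, rfl, ?_⟩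
  intro c hcx
  obtain ⟨ζ, hζ⟩ := comm_scalar hker hcx
  set τ : L := u * u with hτ
  have hx : ∀ (w : L) (p q : F), (_root_.Cfsg.Agent.H122.OrthWt.ext g0 * _root_.Cfsg.Agent.H122.OrthWt.ext g0 : (L × F × F) ≃ₗ[F] (L × F × F)) (w, p, q) = (τ * w, p, q) := by
    intro w p q
    show (u * (u * w), p, q) = _
    rw [hτ, mul_assoc]
  have hζ' : ∀ (w : L) (p q : F), (c : (L × F × F) ≃ₗ[F] (L × F × F)) (τ * w, p, q) =
      ζ • (τ * ((c : (L × F × F) ≃ₗ[F] (L × F × F)) (w, p, q)).1,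
        ((c : (L × F × F) ≃ₗ[F] (L × F × F)) (w, p, q)).2) := by
    intro w p q
    have h1 := hζ (w, p, q)
    change (c : (L × F × F) ≃ₗ[F] (L × F × F)) ((_root_.Cfsg.Agent.H122.OrthWt.ext g0 * _root_.Cfsg.Agent.H122.OrthWt.ext g0 : (L × F × F) ≃ₗ[F] (L × F × F)) (w, p, q)) =
      ζ • (_root_.Cfsg.Agent.H122.OrthWt.ext g0 * _root_.Cfsg.Agent.H122.OrthWt.ext g0 : (L × F × F) ≃ₗ[F] (L × F × F)) ((c : (L × F × F) ≃ₗ[F] (L × F × F)) (w, p, q)) at h1
    rw [hx] at h1
    rw [h1]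
    congr 1
    exact hx _ _ _
  set c1 : (L × F × F) ≃ₗ[F] (L × F × F) := (c : (L × F × F) ≃ₗ[F] (L × F × F)) with hc1
  have hc1O : c1 ∈ O (HQ Q) := E_le_O c.2
  have hτ1 : τ ≠ 1 := by
    have := hns 1
    rwa [map_one] at this
  -- the first component of `c (0, p, q)` vanishes
  have hfst : ∀ p q : F, (c1 (0, p, q)).1 = 0 := by
    intro p q
    have h1 := congrArg Prod.fst (hζ' 0 p q)
    rw [mul_zero] at h1
    change (c1 (0, p, q)).1 = ζ • (τ * (c1 (0, p, q)).1) at h1
    by_contra h0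
    rw [Algebra.smul_def, ← mul_assoc] at h1
    have h2 : algebraMap F L ζ * τ = 1 := by
      apply mul_right_cancel₀ h0
      rw [← h1, one_mul]
    have h3 : ζ ≠ 0 := by
      rintro rfl
      rw [map_zero, zero_mul] at h2
      exact zero_ne_one h2
    apply hns ζ⁻¹
    rw [map_inv₀]
    exact eq_inv_of_mul_eq_one_right h2
  have hζ1 : ζ = 1 := by
    have h1 := congrArg Prod.snd (hζ' 0 1 0)
    rw [mul_zero] at h1
    change (c1 (0, 1, 0)).2 = ζ • (c1 (0, 1, 0)).2 at h1
    have h2 : (c1 (0, 1, 0)).2 ≠ 0 := by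
      intro h0
      have h3 : c1 (0, 1, 0) = 0 := Prod.ext (hfst 1 0) h0
      rw [LinearEquiv.map_eq_zero_iff] at h3
      exact one_ne_zero (congrArg (fun v : L × F × F => v.2.1) h3)
    have h3 : (1 - ζ) • (c1 (0, 1, 0)).2 = 0 := by
      rw [sub_smul, one_smul, ← h1, sub_self]
    rcases smul_eq_zero.1 h3 with h4 | h4
    · exact (sub_eq_zero.1 h4).symm
    · exact absurd h4 h2
  subst hζ1
  simp only [one_smul] at hζ'
  -- `c` commutes with the multiplication by `τ` on `L` and maps `L` to `L`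
  have hsnd : ∀ w : L, (c1 (w, 0, 0)).2 = 0 := by
    intro w
    have h1 : ∀ w, (c1 ((τ - 1) * w, 0, 0)).2 = 0 := by
      intro w
      have h2 : (((τ - 1) * w, 0, 0) : L × F × F) = (τ * w, 0, 0) - (w, 0, 0) := by
        ext <;> simp [sub_mul]
      rw [h2, map_sub, hζ']
      exact sub_self _
    have h3 := h1 ((τ - 1)⁻¹ * w)
    rwa [← mul_assoc, mul_inv_cancel₀ (sub_ne_zero.2 hτ1), one_mul] at h3
  obtain ⟨σ, hσ⟩ := hcomm ((LinearMap.fst F L (F × F)).comp (c1.toLinearMap.comp (LinearMap.inl F L (F × F))))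
    (fun v => congrArg Prod.fst (hζ' v 0 0))
  have hL : ∀ w : L, c1 (w, 0, 0) = (σ * w, 0, 0) := fun w => Prod.ext (hσ w) (hsnd w)
  have hdec : ∀ (w : L) (p q : F), c1 (w, p, q) = (σ * w, p • (c1 (0, 1, 0)).2 + q • (c1 (0, 0, 1)).2) := by
    intro w p q
    have h1 : ((w, p, q) : L × F × F) = (w, 0, 0) + p • (0, 1, 0) + q • (0, 0, 1) := by
      ext <;> simp
    rw [h1, map_add, map_add, map_smul, map_smul, hL]
    ext
    · simp [hfst]
    · simp only [_root_.Prod.snd_add, _root_.Prod.smul_snd, _root_.Prod.fst_add, _root_.Prod.smul_fst, _root_.smul_eq_mul, _root_.zero_add]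
    · simp only [_root_.Prod.snd_add, _root_.Prod.smul_snd, _root_.smul_eq_mul, _root_.zero_add]
  obtain ⟨⟨p1, q1⟩, h10⟩ : ∃ z, z = (c1 (0, 1, 0)).2 := ⟨_, rfl⟩
  obtain ⟨⟨p2, q2⟩, h01⟩ : ∃ z, z = (c1 (0, 0, 1)).2 := ⟨_, rfl⟩
  have hc10 : c1 (0, 1, 0) = (0, p1, q1) := Prod.ext (hfst 1 0) h10.symm
  have hc01 : c1 (0, 0, 1) = (0, p2, q2) := Prod.ext (hfst 0 1) h01.symm
  have hpq1 : p1 * q1 = 0 := by
    have := mem_O.1 hc1O (0, 1, 0)
    rw [hc10, HQ_apply, HQ_apply] at this
    simpa using this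
  have hpq2 : p2 * q2 = 0 := by
    have := mem_O.1 hc1O (0, 0, 1)
    rw [hc01, HQ_apply, HQ_apply] at this
    simpa using this
  have hpair : p1 * q2 + p2 * q1 = 1 := by
    have := polar_map hc1O (0, 1, 0) (0, 0, 1)
    rw [hc10, hc01, polar_HQ, polar_HQ] at this
    simpa only [_root_.QuadraticMap.polar_self, _root_.map_zero, _root_.nsmul_zero, _root_.zero_add, _root_.mul_one, _root_.MulZeroClass.mul_zero, _root_.add_zero] using this
  rcases mul_eq_zero.1 hpq1 with hp1 | hq1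
  · -- the swap case
    exfalso
    rw [hp1, zero_mul, zero_add] at hpair
    have hq1 : q1 ≠ 0 := by
      rintro rfl
      rw [mul_zero] at hpair
      exact zero_ne_one hpair
    have hp2 : p2 ≠ 0 := by
      rintro rfl
      rw [zero_mul] at hpair
      exact zero_ne_one hpair
    have hq2 := (mul_eq_zero.1 hpq2).resolve_left hp2
    refine not_swap (c := c1) hQ ⟨k + 1, by omega⟩ c.2 hq1 (σ := σ) ?_
    intro w x z
    rw [hdec, ← h10, ← h01, hp1, hq2]
    ext
    · rfl
    · show x * 0 + z * p2 = q1⁻¹ * z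
      rw [mul_zero, zero_add, eq_inv_of_mul_eq_one_left hpair, mul_comm]
    · show x * q1 + z * 0 = q1 * x
      rw [mul_zero, add_zero, mul_comm]
  · rw [hq1, mul_zero, add_zero] at hpair
    have hp1 : p1 ≠ 0 := by
      rintro rfl
      rw [zero_mul] at hpair
      exact zero_ne_one hpair
    have hq2 : q2 ≠ 0 := by
      rintro rfl
      rw [mul_zero] at hpair
      exact zero_ne_one hpair
    have hp2 := (mul_eq_zero.1 hpq2).resolve_right hq2
    have he0 : c1 (e0 F L) = p1 • e0 F L := by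
      rw [show c1 (e0 F L) = c1 (0, 1, 0) from rfl, hc10, hq1]
      ext <;> simp
    obtain ⟨s, hsO, y, hsy, hconj⟩ := exists_decomp Q hc1O hp1 he0
    have hs' : ∀ w, s w = σ * w := by
      intro w
      have h1 := hsy w 0 0
      rw [hL, sg_apply] at h1
      have h2 := congrArg Prod.fst h1
      simpa using h2.symm
    refine ⟨p1, hp1, s, hsO, fun w => Subtype.ext (hconj w), ?_⟩
    intro hfix
    have hσp : σ = algebraMap F L p1 := by
      rw [hs', inv_smul_eq_iff₀ hp1, Algebra.smul_def] at hfix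
      exact mul_right_cancel₀ hl hfix
    have hp11 : p1 * p1 = 1 := by
      obtain ⟨v, -, hv⟩ := hval 1
      have h1 := mem_O.1 hsO v
      rw [hs', hσp, ← Algebra.smul_def, QuadraticMap.map_smul, hv, smul_eq_mul, mul_one] at h1
      exact h1
    refine ⟨c, ?_, 0, polar_zero_right _ _, ?_⟩
    · rw [hker]
      refine ⟨p1, ?_⟩
      rintro ⟨w, x, z⟩
      show c1 (w, x, z) = _
      rw [hdec, ← h10, ← h01, hq1, hp2, hσp, ← Algebra.smul_def]
      have hq2' : q2 = p1 := by
        rw [eq_inv_of_mul_eq_one_right hpair]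
        exact (eq_inv_of_mul_eq_one_right hp11).symm
      rw [hq2']
      ext
      · rfl
      · show x * p1 + z * 0 = p1 * x
        rw [mul_zero, add_zero, mul_comm]
      · show x * 0 + z * p1 = p1 * z
        rw [mul_zero, zero_add, mul_comm]
    · have : sE Q (0 : L) = 1 := by
        have h1 := sE_add Q 0 0
        rw [add_zero] at h1
        exact (left_eq_mul.1 h1)
      rw [this, mul_one]

/-- **Row `PΩ⁻`** (S4792) -/
theorem row_of_isPOmegaMinus {S : Type v} [Group S] (h : IsPOmegaMinus S) : Row S := by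
  obtain ⟨F, _, _, m, a, b, hm, hab, ⟨e⟩⟩ := h
  exact row_ominus_equiv hm a b hab e.symm

end Cfsg.Agent.H93.CJ
end

-- part: H530/CJ/Plus
section
/-!
# S4792: the row `POmega⁺` (helper530)
-/

set_option autoImplicit false

namespace Cfsg.Agent.H530.CJ

open Cfsg QuadraticMap Module Cfsg.Agent.H430.Conj
open Cfsg.Agent.LieClassical.OrthCore Cfsg.Agent.LieClassical.OrthTrans Cfsg.Agent.H890.SpParity
open Cfsg.Agent.LieClassical.OrthFinite Cfsg.Agent.LieClassical.OrthForms
open Cfsg.Agent.ClassicalGeometry.OrthSemi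
open Cfsg.Agent.H122.OrthWt Cfsg.Agent.H122.OrthRep Cfsg.Agent.H122.OrthIso
open scoped commutatorElement

variable {F K : Type} [Field F] [Field K] [Algebra F K]

/-- the conjugation action on the Siegel group -/
theorem dg_sg (c : Fˣ) (α : Kˣ) (w : K × K) :
    dg (hd c) α * sg (tq F K) w = sg (tq F K) ((c : F) • (dw α : (K × K) ≃ₗ[F] (K × K)) w) * dg (hd c) α := by
  refine LinearEquiv.ext fun p => ?_
  show dg (hd c) α (sg (tq F K) w p) = sg (tq F K) ((c : F) • (dw α : (K × K) ≃ₗ[F] (K × K)) w) (dg (hd c) α p)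
  have h1 : ∀ q : VV F K, dg (hd c) α q = ((dw α : (K × K) ≃ₗ[F] (K × K)) q.1, (c : F) * q.2.1, ((c⁻¹ : Fˣ) : F) * q.2.2) := fun q => rfl
  have hcc : (c : F) * ((c⁻¹ : Fˣ) : F) = 1 := Units.mul_inv c
  rw [sg_apply, sg_apply, h1, h1]
  refine Prod.ext ?_ (Prod.ext ?_ rfl)
  · show dw α (p.1 + p.2.2 • w) = dw α p.1 + (((c⁻¹ : Fˣ) : F) * p.2.2) • (c : F) • dw α w
    rw [map_add, map_smul, smul_smul]
    congr 2
    linear_combination (-p.2.2) * hcc
  · show (c : F) * (p.2.1 - polar (tq F K) w p.1 - tq F K w * p.2.2) =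
      (c : F) * p.2.1 - polar (tq F K) ((c : F) • dw α w) (dw α p.1) -
        tq F K ((c : F) • dw α w) * (((c⁻¹ : Fˣ) : F) * p.2.2)
    rw [polar_smul_left, polar_map (dw_mem_O α), QuadraticMap.map_smul, dw_mem_O α w, smul_eq_mul, smul_eq_mul]
    linear_combination ((c : F) * tq F K w * p.2.2) * hcc

/-- elements swapping the two lines of the hyperbolic plane are not in `E` -/
theorem swap_not_mem [Finite F] [Finite K] {c : Fˣ} {α : Kˣ} (h : dg (hsw c) α ∈ E (HQ (tq F K))) : False := by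
  have hfd : FiniteDimensional F K := inferInstance
  have h1 := even_E (nondeg_HQ _ nondeg_tq) h
  have hcc : (c : F) * ((c⁻¹ : Fˣ) : F) = 1 := Units.mul_inv c
  have hmem : ∀ p : VV F K, p ∈ fix (dg (hsw c) α) ↔
      ((α * p.1.1, ((α⁻¹ : Kˣ) : K) * p.1.2), ((c : F) * p.2.2, ((c⁻¹ : Fˣ) : F) * p.2.1)) = p := fun p => by
    rw [mem_fix, dg_apply, hsw_apply]
  rw [finrank_VV] at h1
  by_cases hα : α = 1
  · let f : ((K × K) × F) →ₗ[F] VV F K :=
      { toFun := fun p => (p.1, ((c : F) * p.2, p.2))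
        map_add' := fun p r => by
          refine Prod.ext rfl (Prod.ext ?_ rfl)
          show (c : F) * (p.2 + r.2) = (c : F) * p.2 + (c : F) * r.2
          ring
        map_smul' := fun a p => by
          refine Prod.ext rfl (Prod.ext ?_ rfl)
          show (c : F) * (a * p.2) = a * ((c : F) * p.2)
          ring }
    have hf : Function.Injective f := fun p r hpr => by
      have e1 := congrArg Prod.fst hpr
      have e2 := congrArg (fun v : VV F K => v.2.2) hpr
      exact Prod.ext e1 e2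
    have h2 : fix (dg (hsw c) α) = LinearMap.range f := by
      ext p
      rw [hmem, LinearMap.mem_range]
      constructor
      · intro hp
        refine ⟨(p.1, p.2.2), Prod.ext rfl (Prod.ext ?_ rfl)⟩
        have e1 := congrArg (fun v : VV F K => v.2.1) hp
        exact e1
      · rintro ⟨r, rfl⟩
        rw [hα, inv_one, Units.val_one]
        refine Prod.ext (Prod.ext (one_mul _) (one_mul _)) (Prod.ext rfl ?_)
        show ((c⁻¹ : Fˣ) : F) * ((c : F) * r.2) = r.2
        linear_combination r.2 * hcc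
    rw [h2, LinearMap.finrank_range_of_inj hf, finrank_prod, finrank_W, finrank_self] at h1
    obtain ⟨k, hk⟩ := h1
    omega
  · have hα1 : (α : K) ≠ 1 := fun h => hα (Units.ext h)
    have hα2 : ((α⁻¹ : Kˣ) : K) ≠ 1 := fun h => hα (inv_eq_one.1 (Units.ext h))
    let f : F →ₗ[F] VV F K :=
      { toFun := fun y => (0, ((c : F) * y, y))
        map_add' := fun p r => by
          refine Prod.ext (add_zero _).symm (Prod.ext ?_ rfl)
          show (c : F) * (p + r) = (c : F) * p + (c : F) * r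
          ring
        map_smul' := fun a p => by
          refine Prod.ext (smul_zero _).symm (Prod.ext ?_ rfl)
          show (c : F) * (a * p) = a * ((c : F) * p)
          ring }
    have hf : Function.Injective f := fun p r hpr => congrArg (fun v : VV F K => v.2.2) hpr
    have h2 : fix (dg (hsw c) α) = LinearMap.range f := by
      ext p
      rw [hmem, LinearMap.mem_range]
      constructor
      · intro hp
        have e1 : (α : K) * p.1.1 = p.1.1 := congrArg (fun v : VV F K => v.1.1) hp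
        have e2 : ((α⁻¹ : Kˣ) : K) * p.1.2 = p.1.2 := congrArg (fun v : VV F K => v.1.2) hp
        have e3 : p.1.1 = 0 := by
          have : ((α : K) - 1) * p.1.1 = 0 := by linear_combination e1
          exact (mul_eq_zero.1 this).resolve_left (sub_ne_zero.2 hα1)
        have e4 : p.1.2 = 0 := by
          have : (((α⁻¹ : Kˣ) : K) - 1) * p.1.2 = 0 := by linear_combination e2
          exact (mul_eq_zero.1 this).resolve_left (sub_ne_zero.2 hα2)
        refine ⟨p.2.2, Prod.ext (Prod.ext e3.symm e4.symm) (Prod.ext ?_ rfl)⟩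
        have e5 := congrArg (fun v : VV F K => v.2.1) hp
        exact e5
      · rintro ⟨r, rfl⟩
        refine Prod.ext (Prod.ext (mul_zero _) (mul_zero _)) (Prod.ext rfl ?_)
        show ((c⁻¹ : Fˣ) : F) * ((c : F) * r) = r
        linear_combination r * hcc
    rw [h2, LinearMap.finrank_range_of_inj hf, finrank_self] at h1
    obtain ⟨k, hk⟩ := h1
    omega

/-- the torus element is in `E` -/
theorem dg_sq_mem (hG : Good (HQ (tq F K))) (u : Kˣ) : dg (1 : (F × F) ≃ₗ[F] (F × F)) (u ^ 2) ∈ E (HQ (tq F K)) := by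
  let σ : VV F K ≃ₗ[F] VV F K := (LinearEquiv.prodComm F K K).prodCongr (LinearEquiv.refl F (F × F))
  have hσ : σ ∈ O (HQ (tq F K)) := by
    intro p
    rw [HQ_apply, HQ_apply, tq_apply, tq_apply]
    show Algebra.trace F K (p.1.2 * p.1.1) + p.2.1 * p.2.2 = _
    rw [mul_comm p.1.2]
  have hu : dg (1 : (F × F) ≃ₗ[F] (F × F)) u ∈ O (HQ (tq F K)) := dg_mem_O (fun h => rfl) u
  have h1 : dg (1 : (F × F) ≃ₗ[F] (F × F)) (u ^ 2) = ⁅dg (1 : (F × F) ≃ₗ[F] (F × F)) u, σ⁆ := by
    rw [commutatorElement_def, eq_mul_inv_iff_mul_eq, eq_mul_inv_iff_mul_eq]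
    refine LinearEquiv.ext fun p => Prod.ext (Prod.ext ?_ ?_) rfl
    · show ((u ^ 2 : Kˣ) : K) * (((u⁻¹ : Kˣ) : K) * p.1.2) = u * p.1.2
      rw [← mul_assoc, ← Units.val_mul]
      congr 2
      group
    · show (((u ^ 2)⁻¹ : Kˣ) : K) * ((u : K) * p.1.1) = ((u⁻¹ : Kˣ) : K) * p.1.1
      rw [← mul_assoc, ← Units.val_mul]
      congr 2
      group
  rw [← hG.commutator_eq_E, h1]
  exact Subgroup.commutator_mem_commutator hu hσ

/-- central elements of `E` are scalars -/
theorem scalar_of_center {F V : Type*} [Field F] [AddCommGroup V] [Module F V] {Q : QuadraticForm F V}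
    (hG : Good Q) {z : ↥(E Q)} (hz : z ∈ Subgroup.center ↥(E Q)) : ∃ a : F, a ≠ 0 ∧ ∀ v, z.1 v = a • v := by
  have hiso : ∀ v, Q (z.1 v) = Q v := fun v => E_le_O z.2 v
  let M : Gam Q := ⟨z.1.toEquiv, RingEquiv.refl F, 1, one_ne_zero, fun u v => map_add z.1 u v,
    fun a v => map_smul z.1 a v, fun v => by rw [one_mul]; exact hiso v⟩
  have hM : conjE Q M = 1 := by
    ext k : 2
    show conjLin M k.1 = k.1
    ext v
    obtain ⟨v, rfl⟩ := M.1.surjective v
    rw [conjLin_apply']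
    have h1 := (Subgroup.mem_center_iff.1 hz k)
    have h2 := LinearEquiv.congr_fun (congrArg Subtype.val h1) v
    exact h2.symm
  exact exists_scalar_of_conjE hG M hM

/-- a nonzero element of given trace -/
theorem exists_trace [Finite F] [Finite K] (hn : 2 ≤ finrank F K) (c : F) : ∃ b : K, b ≠ 0 ∧ Algebra.trace F K b = c := by
  obtain ⟨b, hb⟩ := Algebra.trace_surjective F K c
  by_cases hb0 : b = 0
  · subst hb0
    have h1 := LinearMap.finrank_range_add_finrank_ker (Algebra.trace F K)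
    have h2 : finrank F (LinearMap.range (Algebra.trace F K)) ≤ 1 := by
      have := Submodule.finrank_le (LinearMap.range (Algebra.trace F K))
      rwa [finrank_self] at this
    have h3 : LinearMap.ker (Algebra.trace F K) ≠ ⊥ := by
      intro h
      rw [h, finrank_bot] at h1
      omega
    obtain ⟨x, hx, hx0⟩ := (Submodule.ne_bot_iff _).1 h3
    refine ⟨x, hx0, ?_⟩
    rw [← hb, map_zero]
    exact hx
  · exact ⟨b, hb0, hb⟩

/-- **The row** for `E (HQ tq)` modulo its centre. -/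
theorem row_K [Finite F] [Finite K] (hn : 3 ≤ finrank F K) :
    Row (↥(E (HQ (tq F K))) ⧸ Subgroup.center ↥(E (HQ (tq F K)))) := by
  classical
  have := Fintype.ofFinite F
  have := Fintype.ofFinite K
  have hfd : FiniteDimensional F K := inferInstance
  have hQ : Nondeg (tq F K) := nondeg_tq
  have hG : Good (HQ (tq F K)) := good_of_finite (nondeg_HQ _ hQ) (by rw [finrank_VV]; omega)
  have hG' : Good (tq F K) := good_of_finite hQ (by rw [finrank_W]; omega)
  obtain ⟨u, hu0, hu⟩ := exists_t (F := F) (E := K) hn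
  let u' : Kˣ := Units.mk0 u hu0
  have hu' : Tor F ((u' ^ 2 : Kˣ) : K) := by
    rw [Units.val_pow_eq_pow_val]
    exact hu
  let x : E (HQ (tq F K)) := ⟨dg 1 (u' ^ 2), dg_sq_mem hG u'⟩
  refine Cfsg.Agent.H93.CJ.row_orth hQ hG (transN_of_good _ hG') (QuotientGroup.mk' _)
    (QuotientGroup.mk'_surjective _) ?_
  intro l0 hl0
  obtain ⟨b, hb0, hb⟩ := exists_trace (F := F) (K := K) (by omega) (tq F K l0)
  refine ⟨x, (1, b), fun h => hb0 (congrArg Prod.snd h), ?_, ?_⟩
  · rw [← hb, tq_apply]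
    show Algebra.trace F K (1 * b) = _
    rw [one_mul]
  intro c hc
  -- `c x = λ x c`
  have h1 : (x * c)⁻¹ * (c * x) ∈ Subgroup.center ↥(E (HQ (tq F K))) := by
    rw [← QuotientGroup.eq]
    exact hc.symm
  obtain ⟨a, ha, haz⟩ := scalar_of_center hG h1
  have h2 : ∀ v, c.1 (x.1 v) = a • x.1 (c.1 v) := by
    intro v
    have h3 := haz v
    have h4 : c * x = x * c * ((x * c)⁻¹ * (c * x)) := by group
    have h5 := LinearEquiv.congr_fun (congrArg Subtype.val h4) v
    have h6 : c.1 (x.1 v) = x.1 (c.1 (((x * c)⁻¹ * (c * x) : E (HQ (tq F K))).1 v)) := h5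
    rw [h6, h3, map_smul, map_smul]
  have ha1 : a = 1 := by
    set t : K := ((u' ^ 2 : Kˣ) : K) with ht
    have hti : (((u' ^ 2)⁻¹ : Kˣ) : K) = t⁻¹ := Units.val_inv_eq_inv_val _
    set v : VV F K := c.1 ((0 : K × K), ((1 : F), (0 : F))) with hv
    have hv0 : v ≠ 0 := by
      rw [hv]
      intro h
      rw [LinearEquiv.map_eq_zero_iff] at h
      exact one_ne_zero (congrArg (fun v : VV F K => v.2.1) h)
    have h3 := h2 ((0 : K × K), ((1 : F), (0 : F)))
    have h4 : x.1 ((0 : K × K), ((1 : F), (0 : F))) = ((0 : K × K), ((1 : F), (0 : F))) := by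
      show dg 1 (u' ^ 2) _ = _
      rw [dg_apply]
      exact Prod.ext (Prod.ext (mul_zero _) (mul_zero _)) rfl
    rw [h4, ← hv] at h3
    have h5 : x.1 v = ((t * v.1.1, t⁻¹ * v.1.2), v.2) := by
      show dg 1 (u' ^ 2) _ = _
      rw [dg_apply, hti]
      rfl
    rw [h5] at h3
    have e1 : v.1.1 = a • (t * v.1.1) := congrArg (fun v : VV F K => v.1.1) h3
    have e2 : v.1.2 = a • (t⁻¹ * v.1.2) := congrArg (fun v : VV F K => v.1.2) h3
    have e3 : v.2.1 = a * v.2.1 := congrArg (fun v : VV F K => v.2.1) h3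
    have e4 : v.2.2 = a * v.2.2 := congrArg (fun v : VV F K => v.2.2) h3
    have haK : algebraMap F K a ≠ 0 := (map_ne_zero _).2 ha
    have ht0 : t ≠ 0 := hu'.ne
    have f1 : v.1.1 = 0 := by
      by_contra hne
      apply hu'.not_mem (by omega) a⁻¹
      rw [Algebra.smul_def] at e1
      rw [map_inv₀]
      apply eq_inv_of_mul_eq_one_left
      apply mul_right_cancel₀ hne
      linear_combination -e1
    have f2 : v.1.2 = 0 := by
      by_contra hne
      apply hu'.not_mem (by omega) a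
      rw [Algebra.smul_def] at e2
      have e5 : algebraMap F K a * t⁻¹ = 1 := by
        apply mul_right_cancel₀ hne
        linear_combination -e2
      field_simp at e5
      exact e5.symm
    by_contra ha1
    have ha2 : (a - 1) ≠ 0 := sub_ne_zero.2 ha1
    apply hv0
    refine Prod.ext (Prod.ext f1 f2) (Prod.ext ?_ ?_)
    · apply mul_left_cancel₀ ha2
      show (a - 1) * v.2.1 = (a - 1) * 0
      linear_combination -e3
    · apply mul_left_cancel₀ ha2
      show (a - 1) * v.2.2 = (a - 1) * 0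
      linear_combination -e4
  have hcomm : c.1 * dg 1 (u' ^ 2) = dg 1 (u' ^ 2) * c.1 := by
    refine LinearEquiv.ext fun v => ?_
    have h3 := h2 v
    rw [ha1, one_smul] at h3
    exact h3
  obtain ⟨α, ⟨s, hs⟩ | ⟨s, hs⟩⟩ := cent (by omega) hu' (E_le_O c.2) hcomm
  · refine ⟨s, s.ne_zero, dw α, dw_mem_O α, ?_, ?_⟩
    · intro w
      apply Subtype.ext
      show c.1 * sg (tq F K) w = sg (tq F K) ((s : F) • (dw α : (K × K) ≃ₗ[F] (K × K)) w) * c.1
      rw [hs]
      exact dg_sg s α w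
    · intro hfix
      have hsK : algebraMap F K s ≠ 0 := (map_ne_zero _).2 s.ne_zero
      have e1 : ((s : F)⁻¹ • ((α : K) * 1), (s : F)⁻¹ • (((α⁻¹ : Kˣ) : K) * b)) = ((1 : K), b) := hfix
      have e2 := congrArg Prod.fst e1
      have e3 := congrArg Prod.snd e1
      simp only [Algebra.smul_def, map_inv₀, mul_one] at e2 e3
      have e4 : (α : K) = algebraMap F K s := by
        field_simp at e2
        exact e2
      have e5 : ((α⁻¹ : Kˣ) : K) = algebraMap F K s := by
        have e6 : (algebraMap F K s)⁻¹ * ((α⁻¹ : Kˣ) : K) = 1 := by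
          apply mul_right_cancel₀ hb0
          linear_combination e3
        field_simp at e6
        exact e6
      have e7 : (s : F) * s = 1 := by
        apply (algebraMap F K).injective
        rw [map_mul, map_one]
        nth_rw 1 [← e4]
        rw [← e5, Units.mul_inv]
      have e8 : ((s⁻¹ : Fˣ) : F) = s := by
        rw [Units.val_inv_eq_inv_val]
        exact inv_eq_of_mul_eq_one_right e7
      have hcs : ∀ v, c.1 v = (s : F) • v := by
        intro v
        rw [hs, dg_apply, hd_apply, e4, e5, e8]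
        refine Prod.ext (Prod.ext ?_ ?_) rfl
        · exact (Algebra.smul_def _ _).symm
        · exact (Algebra.smul_def _ _).symm
      refine ⟨c, ?_, 0, ?_, ?_⟩
      · rw [QuotientGroup.ker_mk', Subgroup.mem_center_iff]
        intro g
        apply Subtype.ext
        refine LinearEquiv.ext fun v => ?_
        show g.1 (c.1 v) = c.1 (g.1 v)
        rw [hcs, hcs, map_smul]
      · rw [QuadraticMap.polar, add_zero, QuadraticMap.map_zero, sub_self, sub_zero]
      · have h6 : sE (tq F K) 0 = 1 := by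
          have := sE_add (tq F K) 0 0
          rw [add_zero] at this
          exact mul_left_cancel (this.symm.trans (mul_one _).symm)
        rw [h6, mul_one]
  · exact absurd c.2 (by rw [hs]; exact fun h => swap_not_mem h)

/-- the trace form on `K × K` is hyperbolic -/
theorem isoQ_tq [Finite F] [Finite K] {n : ℕ} (hn : finrank F K = n) : IsoQ (tq F K) (plusForm n F) := by
  classical
  have hfd : FiniteDimensional F K := inferInstance
  let b : Basis (Fin n) F K := finBasisOfFinrankEq F K hn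
  have hB := traceForm_nondegenerate F K
  let b' : Basis (Fin n) F K := (Algebra.traceForm F K).dualBasis hB b
  refine ⟨(LinearEquiv.prodCongr b.equivFun b'.equivFun).trans
    (LinearEquiv.sumArrowLequivProdArrow (Fin n) (Fin n) F F).symm, fun p => ?_⟩
  have h1 : ∀ v : Fin n ⊕ Fin n → F, plusForm n F v = ∑ i : Fin n, v (.inl i) * v (.inr i) := fun v => by
    rw [← quadFormPlus_apply, ← coe_plusForm]
  rw [h1, tq_apply]
  have h2 : ∀ i, b'.repr p.2 i = Algebra.trace F K (p.2 * b i) := fun i => by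
    rw [LinearMap.BilinForm.dualBasis_repr_apply, Algebra.traceForm_apply]
  have h3 : ∑ i : Fin n, b.repr p.1 i * Algebra.trace F K (p.2 * b i) = Algebra.trace F K (p.1 * p.2) := by
    have h4 : ∑ i : Fin n, b.repr p.1 i * Algebra.trace F K (p.2 * b i) =
        Algebra.trace F K (p.2 * ∑ i : Fin n, b.repr p.1 i • b i) := by
      rw [Finset.mul_sum, map_sum]
      refine Finset.sum_congr rfl fun i _ => ?_
      rw [mul_smul_comm, map_smul, smul_eq_mul]
    rw [h4, b.sum_repr, mul_comm]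
  rw [← h3]
  refine Finset.sum_congr rfl fun i _ => ?_
  rw [← h2]
  rfl

/-- **The row `POmega⁺`.** -/
theorem row_oplus {F : Type} [Field F] [Fintype F] {m : ℕ} (hm : 4 ≤ m) :
    Row (POmega F (quadFormPlus m F)) := by
  obtain ⟨n, rfl⟩ : ∃ n, m = n + 1 := ⟨m - 1, by omega⟩
  have hn0 : NeZero n := ⟨by omega⟩
  obtain ⟨p, hpc⟩ := CharP.exists F
  have hp : Fact p.Prime := ⟨CharP.char_is_prime F p⟩
  have hfin : finrank F (FiniteField.Extension F p n) = n := FiniteField.finrank_extension F p n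
  have h1 := row_K (F := F) (K := FiniteField.Extension F p n) (by rw [hfin]; omega)
  have h2 : IsoQ (HQ (tq F (FiniteField.Extension F p n))) (plusForm (n + 1) F) :=
    (isoQ_tq hfin).hq.trans (isoQ_plus n).symm
  obtain ⟨e1⟩ := h2.equiv
  have hG : Good (plusForm (n + 1) F) := good_of_finite (nondeg_plusForm _ _) (by
    rw [finrank_pi, Fintype.card_sum, Fintype.card_fin]
    omega)
  let e2 : E (plusForm (n + 1) F) ≃* Cfsg.Omega F ⇑(plusForm (n + 1) F) :=
    ((omegaEquiv (plusForm (n + 1) F)).trans (MulEquiv.subgroupCongr hG.commutator_eq_E)).symm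
  rw [← coe_plusForm]
  have := Fintype.ofFinite (FiniteField.Extension F p n)
  have h3 := Cfsg.Agent.H93.CJ.finite_E (tq F (FiniteField.Extension F p n))
  exact Row.of_equiv (quotientCenterCongr (e1.trans e2)) h1

/-- **The row `POmega⁺`** (predicate form). -/
theorem row_isPOmegaPlus {S : Type*} [Group S] [Finite S] (h : IsPOmegaPlus S) : Row S := by
  obtain ⟨F, _, _, m, hm, ⟨e⟩⟩ := h
  have : Finite (POmega F (quadFormPlus m F)) := Finite.of_equiv S e.toEquiv
  exact Row.of_equiv e.symm (row_oplus hm)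

end Cfsg.Agent.H530.CJ
end

-- part: H973/Conj/Sz
section
/-!
# S4792, row of the Suzuki groups (tool F)

`x = d k`, `k ≠ 1` a diagonal element, `C(x)` is the torus, `A` the centre of the unipotent group.
-/

set_option autoImplicit false

namespace Cfsg.Agent.H973.Conj

open Cfsg Cfsg.Agent.H430.Conj Cfsg.Agent.LieRecognition.SzMatrix

variable {F : Type*} [Field F] {θ : F →+* F} {e : ℕ}

theorem eq_one_of_theta {k : Fˣ} (h : θ (k : F) = 1) : k = 1 := by
  apply Units.ext
  apply θ.injective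
  rw [h, Units.val_one, map_one]

theorem eq_one_of_sq (H : Good F θ e) {k : Fˣ} (h : (k : F) ^ 2 = 1) : k = 1 := by
  rw [← H.sq] at h
  have h1 : θ (k : F) = 1 := θ.injective (by rw [h, map_one])
  exact eq_one_of_theta h1

theorem eq_one_of_sq_eq (H : Good F θ e) {k : Fˣ} (h : (k : F) ^ 2 = θ k) : k = 1 := by
  have h1 : θ (k : F) = k := θ.injective (by rw [H.sq, h])
  rw [h1] at h
  have h2 : (k : F) * (k - 1) = 0 := by linear_combination h
  rcases mul_eq_zero.1 h2 with h3 | h3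
  · exact absurd h3 k.ne_zero
  · exact Units.ext (by rw [Units.val_one]; linear_combination h3)

/-- The centralizer of a non-trivial diagonal element is the torus. -/
theorem eq_d_of_comm (H : Good F θ e) {k : Fˣ} (hk : k ≠ 1) {g : ↥(Cfsg.Lie.Sz F e)}
    (hg : H.d k * g = g * H.d k) : ∃ l : Fˣ, g = H.d l := by
  have h30 : g.1.1 3 0 = 0 := by
    have h1 : (H.D k * g.1).1 3 0 = (g.1 * H.D k).1 3 0 := by
      have := congrArg (fun y : ↥(Cfsg.Lie.Sz F e) => y.1.1 3 0) hg
      exact this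
    have h2 : (H.D k * g.1).1 3 0 = (k : F)⁻¹ * g.1.1 3 0 := by
      rw [Units.val_mul, H.D_val, Matrix.mul_apply, Fin.sum_univ_four]
      simp only [Dmat_def, _root_.Fin.isValue, _root_.Matrix.of_apply, _root_.Matrix.cons_val', _root_.Matrix.cons_val_zero, _root_.Matrix.cons_val_fin_one, _root_.Matrix.cons_val, _root_.Matrix.cons_val_one, _root_.MulZeroClass.zero_mul, _root_.add_zero, _root_.zero_add]
    have h3 : (g.1 * H.D k).1 3 0 = g.1.1 3 0 * k := by
      rw [Units.val_mul, H.D_val, Matrix.mul_apply, Fin.sum_univ_four]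
      simp [Dmat_def]
    rw [h2, h3] at h1
    by_contra hne
    apply hk
    apply eq_one_of_sq H
    have h4 : g.1.1 3 0 * ((k : F) ^ 2 - 1) = 0 := by
      have h5 : (k : F) * ((k : F)⁻¹ * g.1.1 3 0) = k * (g.1.1 3 0 * k) := by rw [h1]
      rw [mul_inv_cancel_left₀ k.ne_zero] at h5
      linear_combination -h5
    rcases mul_eq_zero.1 h4 with h5 | h5
    · exact absurd h5 hne
    · linear_combination h5
  obtain ⟨a, b, l, rfl⟩ := (H.mem_borel_iff' g).1 ((H.mem_borel g).2 h30)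
  refine ⟨l, ?_⟩
  rw [← mul_assoc, H.d_mul_u, mul_assoc (H.u _ _), H.d_mul, mul_assoc (H.u a b), H.d_mul] at hg
  obtain ⟨ha, hb, -⟩ := H.u_mul_d_inj hg
  have ha0 : a = 0 := by
    by_contra hne
    apply hk
    apply eq_one_of_sq_eq H
    have h2 := theta_ne_zero θ k
    field_simp at ha
    exact ha
  have hb0 : b = 0 := by
    by_contra hne
    apply hk
    apply eq_one_of_theta (θ := θ)
    exact mul_left_cancel₀ hne (by rw [hb, mul_one])
  rw [ha0, hb0, H.u_zero, one_mul]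

/-- The centre of the unipotent group. -/
def zU (H : Good F θ e) : Subgroup ↥(Cfsg.Lie.Sz F e) where
  carrier := {g | ∃ b : F, g = H.u 0 b}
  mul_mem' := by
    rintro _ _ ⟨b, rfl⟩ ⟨c, rfl⟩
    exact ⟨b + c, by rw [H.u_mul]; simp⟩
  one_mem' := ⟨0, H.u_zero.symm⟩
  inv_mem' := by
    rintro _ ⟨b, rfl⟩
    exact ⟨b, by rw [H.u_inv]; simp⟩

theorem row_good [Finite F] (H : Good F θ e) [IsSimpleGroup ↥(Cfsg.Lie.Sz F e)] {k : Fˣ}
    (hk : k ≠ 1) : Row ↥(Cfsg.Lie.Sz F e) := by
  have hcomm : ∀ x ∈ zU H, ∀ y ∈ zU H, x * y = y * x := by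
    rintro _ ⟨b, rfl⟩ _ ⟨c, rfl⟩
    rw [H.u_mul, H.u_mul]
    simp only [zero_mul, add_zero, add_comm b c]
  refine row_of_frob (H.d k) (zU H) ⟨⟨fun x y => Subtype.ext (hcomm x x.2 y y.2)⟩⟩ ?_ ?_ ?_
  · intro h
    have h1 : H.u 0 1 ∈ zU H := ⟨1, rfl⟩
    rw [h, Subgroup.mem_bot, ← H.u_zero] at h1
    exact one_ne_zero (H.u_inj h1).2
  · intro c hc a ha
    obtain ⟨l, rfl⟩ := eq_d_of_comm H hk (Subgroup.mem_centralizer_singleton_iff.1 hc).symm
    obtain ⟨b, rfl⟩ := ha
    refine ⟨b * θ l, ?_⟩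
    rw [H.d_mul_u, mul_inv_cancel_right, zero_mul, zero_mul]
  · intro c hc a ha hca
    obtain ⟨l, rfl⟩ := eq_d_of_comm H hk (Subgroup.mem_centralizer_singleton_iff.1 hc).symm
    obtain ⟨b, rfl⟩ := ha
    rw [H.d_mul_u, zero_mul, zero_mul] at hca
    have h1 := (H.u_inj (mul_right_cancel hca)).2
    by_cases hb : b = 0
    · right
      rw [hb, H.u_zero]
    · left
      have h2 : l = 1 := eq_one_of_theta (θ := θ) (mul_left_cancel₀ hb (by rw [h1, mul_one]))
      rw [h2, H.d_one]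

/-- **The row of the Suzuki groups.** -/
theorem row_sz {S : Type*} [Group S] [Finite S] (h : Cfsg.Lie.IsoSuzuki S) (hs : IsSimpleGroup S) :
    Row S := by
  obtain ⟨F, _, _, m, hm, hF, ⟨e⟩⟩ := h
  have : Finite ↥(Cfsg.Lie.Sz F (2 ^ (m + 1))) := Finite.of_equiv S e.toEquiv
  have : IsSimpleGroup ↥(Cfsg.Lie.Sz F (2 ^ (m + 1))) := by
    have : Nontrivial ↥(Cfsg.Lie.Sz F (2 ^ (m + 1))) := e.symm.toEquiv.nontrivial
    exact IsSimpleGroup.isSimpleGroup_of_surjective e.toMonoidHom e.surjective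
  have hcard : 1 < Nat.card Fˣ := by
    rw [Nat.card_units, Nat.card_eq_fintype_card, hF]
    have h1 : 2 ^ 3 ≤ 2 ^ (2 * m + 1) := Nat.pow_le_pow_right (by norm_num) (by omega)
    omega
  have : Nontrivial Fˣ := Finite.one_lt_card_iff_nontrivial.1 hcard
  obtain ⟨k, hk⟩ := exists_ne (1 : Fˣ)
  exact Row.of_equiv e.symm (row_good (good hF) hk)

end Cfsg.Agent.H973.Conj
end

-- part: H293/Conj/E8CC
section
/-!
# A CC-subgroup of `E₈(q)` of order dividing `Φ₃₀(q)` (helper293)
-/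

set_option autoImplicit false

namespace Cfsg.Agent.H293.Conj.E8CC

open Cfsg Cfsg.Lie Cfsg.Agent.H378.RegFin Cfsg.Agent.H378.ExcAdj Cfsg.Agent.H378.ExcNear
open Cfsg.Agent.BpExc.FamInst Cfsg.Agent.BpExc.RowsUntw

universe u

theorem not_dvd30 (q s : ℤ) (hs : s = 2 ∨ s = 3 ∨ s = 5) : ¬ s ∣ (Polynomial.cyclotomic 30 ℤ).eval q := by
  rw [H416.Arith.eval_30]
  intro h
  rcases hs with rfl | rfl | rfl
  · have h1 : ((q ^ 8 + q ^ 7 - q ^ 5 - q ^ 4 - q ^ 3 + q + 1 : ℤ) : ZMod 2) = 0 :=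
      (ZMod.intCast_zmod_eq_zero_iff_dvd _ 2).2 h
    push_cast at h1
    generalize (q : ZMod 2) = x at h1
    revert h1; revert x; decide
  · have h1 : ((q ^ 8 + q ^ 7 - q ^ 5 - q ^ 4 - q ^ 3 + q + 1 : ℤ) : ZMod 3) = 0 :=
      (ZMod.intCast_zmod_eq_zero_iff_dvd _ 3).2 h
    push_cast at h1
    generalize (q : ZMod 3) = x at h1
    revert h1; revert x; decide
  · have h1 : ((q ^ 8 + q ^ 7 - q ^ 5 - q ^ 4 - q ^ 3 + q + 1 : ℤ) : ZMod 5) = 0 :=
      (ZMod.intCast_zmod_eq_zero_iff_dvd _ 5).2 h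
    push_cast at h1
    generalize (q : ZMod 5) = x at h1
    revert h1; revert x; decide

/-- Every prime divisor of `Φ₃₀(q)` has multiplicative order `30`. -/
theorem od_eq {q s : ℕ} (hs : s.Prime) (h : s ∣ ((Polynomial.cyclotomic 30 ℤ).eval ((q : ℕ) : ℤ)).natAbs) :
    od q s = 30 := by
  have h' : (s : ℤ) ∣ (Polynomial.cyclotomic 30 ℤ).eval ((q : ℕ) : ℤ) := Int.natCast_dvd.2 h
  have : Fact s.Prime := ⟨hs⟩
  have hd : ¬ s ∣ 30 := by
    intro h1
    have h2 : s ∣ 2 * (3 * 5) := h1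
    rcases (Nat.Prime.dvd_mul hs).1 h2 with h3 | h3
    · have h4 := (Nat.prime_dvd_prime_iff_eq hs Nat.prime_two).1 h3
      exact not_dvd30 q s (Or.inl (by exact_mod_cast h4)) h'
    · rcases (Nat.Prime.dvd_mul hs).1 h3 with h4 | h4
      · have h5 := (Nat.prime_dvd_prime_iff_eq hs Nat.prime_three).1 h4
        exact not_dvd30 q s (Or.inr (Or.inl (by exact_mod_cast h5))) h'
      · have h5 := (Nat.prime_dvd_prime_iff_eq hs Nat.prime_five).1 h4
        exact not_dvd30 q s (Or.inr (Or.inr (by exact_mod_cast h5))) h'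
  have : NeZero ((30 : ℕ) : ZMod s) := ⟨fun h0 => hd ((ZMod.natCast_eq_zero_iff 30 s).1 h0)⟩
  have h1 : (Polynomial.cyclotomic 30 (ZMod s)).IsRoot ((q : ℕ) : ZMod s) := by
    rw [Polynomial.IsRoot.def, ← Polynomial.map_cyclotomic_int,
      show (((q : ℕ) : ZMod s)) = Int.castRingHom (ZMod s) ((q : ℕ) : ℤ) by simp, Polynomial.eval_map,
      Polynomial.eval₂_hom]
    exact (ZMod.intCast_zmod_eq_zero_iff_dvd _ s).2 h'
  exact (Polynomial.isRoot_cyclotomic_iff.1 h1).eq_orderOf.symm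

/-- `E₈(q)` has a CC-subgroup of order dividing `Φ₃₀(q)`. -/
theorem exists_cc (F : Type u) [Field F] [Finite F] : ∃ C : Subgroup ↥(chevE8.group F), C ≠ ⊥ ∧
    (∀ c ∈ C, c ≠ 1 → Subgroup.centralizer {c} = C) ∧
    Nat.card C ∣ ((Polynomial.cyclotomic 30 ℤ).eval ((Nat.card F : ℕ) : ℤ)).natAbs := by
  have hq : 2 ≤ Nat.card F := Finite.one_lt_card
  have hne : ((Polynomial.cyclotomic 30 ℤ).eval ((Nat.card F : ℕ) : ℤ)).natAbs ≠ 1 := by
    have := Polynomial.sub_one_lt_natAbs_cyclotomic_eval (n := 30) (q := Nat.card F) (by norm_num) (by omega)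
    omega
  obtain ⟨ℓ, hℓ, hd⟩ := Nat.exists_prime_and_dvd hne
  have hd1 : ℓ ∣ Nat.card F ^ 30 - 1 := by
    have h1 : (ℓ : ℤ) ∣ (Polynomial.cyclotomic 30 ℤ).eval ((Nat.card F : ℕ) : ℤ) := Int.natCast_dvd.2 hd
    have h2 : (ℓ : ℤ) ∣ ((Nat.card F : ℕ) : ℤ) ^ 30 - 1 := by
      refine h1.trans ?_
      have h2 := Polynomial.eval_dvd (x := ((Nat.card F : ℕ) : ℤ)) (Polynomial.cyclotomic.dvd_X_pow_sub_one 30 ℤ)
      simpa only [_root_.Polynomial.eval_sub, _root_.Polynomial.eval_pow, _root_.Polynomial.eval_X, _root_.Polynomial.eval_one] using h2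
    have h3 : 1 ≤ Nat.card F ^ 30 := Nat.one_le_pow _ _ (by omega)
    have h4 : ((Nat.card F ^ 30 - 1 : ℕ) : ℤ) = ((Nat.card F : ℕ) : ℤ) ^ 30 - 1 := by
      rw [Nat.cast_sub h3]; push_cast; ring
    rw [← h4] at h2
    exact_mod_cast h2
  have hdG : ℓ ∣ Nat.card ↥(chevE8.group F) := by
    have : Fintype F := Fintype.ofFinite F
    rw [S1065.result (F := F) (q := Nat.card F) (Nat.card_eq_fintype_card).symm]
    exact hd1.mul_left _
  have : Fact ℓ.Prime := ⟨hℓ⟩
  obtain ⟨x, hx⟩ := exists_prime_orderOf_dvd_card' ℓ hdG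
  obtain ⟨hA, hN⟩ := cent_od e8T inv_E8 one_ne_zero hℓ hx (od_eq hℓ hd) (by decide) (by norm_num)
  refine ⟨Subgroup.centralizer {x}, ?_, ?_, hN⟩
  · intro h0
    have h1 : x ∈ Subgroup.centralizer {x} := Subgroup.mem_centralizer_singleton_iff.2 rfl
    rw [h0, Subgroup.mem_bot] at h1
    rw [h1, orderOf_one] at hx
    exact hℓ.one_lt.ne hx
  · intro c hc hc1
    have hcx : Commute c x := Subgroup.mem_centralizer_singleton_iff.1 hc
    obtain ⟨p, hp, hpc⟩ := Nat.exists_prime_and_dvd (fun h => hc1 (orderOf_eq_one_iff.1 h) : orderOf c ≠ 1)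
    have hy : orderOf (c ^ (orderOf c / p)) = p := by
      rw [orderOf_pow_of_dvd (Nat.div_pos (Nat.le_of_dvd (orderOf_pos c) hpc) hp.pos).ne' (Nat.div_dvd_of_dvd hpc)]
      exact Nat.div_div_self hpc (orderOf_pos c).ne'
    have hpC : p ∣ ((Polynomial.cyclotomic 30 ℤ).eval ((Nat.card F : ℕ) : ℤ)).natAbs :=
      (hpc.trans (Subgroup.orderOf_dvd_natCard _ hc)).trans hN
    have hB := (cent_od e8T inv_E8 one_ne_zero hp hy (od_eq hp hpC) (by decide) (by norm_num)).1
    ext g
    rw [Subgroup.mem_centralizer_singleton_iff, Subgroup.mem_centralizer_singleton_iff]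
    constructor
    · intro hg
      exact hB g x (Commute.pow_right hg _) (Commute.pow_right (hcx.symm : Commute x c) _)
    · intro hg
      exact hA g c hg hcx

end Cfsg.Agent.H293.Conj.E8CC
end

-- part: H293/Conj/RowE8
section
/-!
# The row `E₈(q)` of S4792 (helper293)
-/

set_option autoImplicit false

namespace Cfsg.Agent.H293.Conj.RowE8

open Cfsg Cfsg.Lie Cfsg.Agent.H430.Conj Cfsg.Agent.Characters.Core

theorem phi_le {q : ℕ} (hq : 2 ≤ q) : ((Polynomial.cyclotomic 30 ℤ).eval ((q : ℕ) : ℤ)).natAbs ≤ q ^ 9 := by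
  rw [H416.Arith.eval_30]
  have hq' : (2 : ℤ) ≤ q := by exact_mod_cast hq
  generalize hx : ((q : ℕ) : ℤ) = x at *
  have h1 : (1 : ℤ) ≤ x := by omega
  have hx2 : (4 : ℤ) ≤ x * x := by nlinarith
  have h3 : x + 1 ≤ x ^ 3 := by
    have e : x ^ 3 = x * (x * x) := by ring
    have := mul_le_mul_of_nonneg_left hx2 (by omega : (0 : ℤ) ≤ x)
    omega
  have h5 : x ^ 3 ≤ x ^ 5 := pow_le_pow_right₀ h1 (by norm_num)
  have h4 : (0 : ℤ) ≤ x ^ 4 := by positivity
  have h7 : x ^ 5 ≤ x ^ 7 := pow_le_pow_right₀ h1 (by norm_num)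
  have h8 : x ^ 7 ≤ x ^ 8 := pow_le_pow_right₀ h1 (by norm_num)
  have h9 : 2 * x ^ 8 ≤ x ^ 9 := by
    have : x ^ 9 = x * x ^ 8 := by ring
    rw [this]
    exact mul_le_mul_of_nonneg_right hq' (by positivity)
  have h34 : x ^ 3 ≤ x ^ 7 := h5.trans h7
  have h48 : x ^ 4 ≤ x ^ 8 := pow_le_pow_right₀ h1 (by norm_num)
  have h57 : x ^ 5 ≤ x ^ 7 := h7
  zify
  rw [abs_le, hx]
  constructor <;> linarith only [hx, h3, h5, h7, h8, h9, h48, h4]

theorem deg_ne_one {G : Type*} [Group G] [IsSimpleGroup G] (hG : ¬ IsMulCommutative G) {n : ℕ}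
    {ρ : Representation ℂ G (Fin n → ℂ)} (hρ : ρ.IsIrreducible) (h1 : ρ.character ≠ 1) : 2 ≤ n := by
  have hinj := injective_of_simple hρ h1
  by_contra hn
  apply hG
  refine ⟨⟨fun a b => hinj ?_⟩⟩
  rw [map_mul, map_mul]
  have : n = 0 ∨ n = 1 := by omega
  rcases this with rfl | rfl
  · exact Subsingleton.elim _ _
  · have h2 : ∀ (f : Module.End ℂ (Fin 1 → ℂ)) (v : Fin 1 → ℂ), f v = (f (fun _ => 1)) 0 • v := by
      intro f v
      have h3 : v = v 0 • (fun _ => (1 : ℂ)) := by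
        ext k
        rw [Subsingleton.elim k 0]
        simp
      conv_lhs => rw [h3, map_smul]
      ext k
      rw [Subsingleton.elim k 0]
      simp [mul_comm]
    have h4 : ∀ f g : Module.End ℂ (Fin 1 → ℂ), f * g = g * f := by
      intro f g
      apply LinearMap.ext
      intro v
      rw [Module.End.mul_apply, Module.End.mul_apply, h2 g v, h2 f v, map_smul, map_smul, h2 f v, h2 g v, smul_comm]
    exact h4 _ _

theorem row_chev (F : Type) [Field F] [Fintype F] : Row ↥(chevE8.group F) := by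
  have hs := S1054.result (F := F) chevE8 (by simp)
  have := hs.1
  obtain ⟨C, hC1, hC, hN⟩ := E8CC.exists_cc F
  refine row_of_cc hC1 hC fun χ d hχ hχ1 hd => ?_
  have hq : 2 ≤ Nat.card F := Finite.one_lt_card
  obtain ⟨n, ρ, hρ, rfl⟩ := hχ
  have hdn : n = d := by
    have h1 : ρ.character 1 = n := by
      rw [Representation.char_one]
      simp only [_root_.Module.finrank_fintype_fun_eq_card, _root_.Fintype.card_fin]
    rw [h1] at hd
    exact_mod_cast hd
  subst hdn
  have hn := S2339.result n ρ hρ (deg_ne_one hs.2 hρ hχ1)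
  rw [← Nat.card_eq_fintype_card] at hn
  have hpos : 0 < ((Polynomial.cyclotomic 30 ℤ).eval ((Nat.card F : ℕ) : ℤ)).natAbs := by
    have := Polynomial.sub_one_lt_natAbs_cyclotomic_eval (n := 30) (q := Nat.card F) (by norm_num) (by omega)
    omega
  have hle := (Nat.le_of_dvd hpos hN).trans (phi_le hq)
  generalize Nat.card F = q at *
  have h29 : q ^ 29 ≤ n := le_trans (by
    calc q ^ 29 = q * q ^ 12 * q ^ 10 * q ^ 6 := by ring
      _ ≤ _ := Nat.mul_le_mul (Nat.mul_le_mul (Nat.mul_le_mul le_rfl (Nat.le_succ _)) (Nat.le_succ _)) (Nat.le_succ _)) hn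
  calc Nat.card C ^ 2 * (Nat.card C - 1) ≤ (q ^ 9) ^ 2 * q ^ 9 :=
        Nat.mul_le_mul (Nat.pow_le_pow_left hle 2) ((Nat.sub_le _ _).trans hle)
    _ = q ^ 27 := by ring
    _ ≤ q ^ 58 := Nat.pow_le_pow_right (by omega) (by norm_num)
    _ = (q ^ 29) ^ 2 := by ring
    _ ≤ n ^ 2 := Nat.pow_le_pow_left h29 2

/-- **Row `E₈`.** -/
theorem row_e8 {S : Type*} [Group S] [Finite S] (_hs : IsSimpleGroup S) (h : Lie.IsoE8 S) :
    Cfsg.Agent.H430.Conj.Row S := by
  obtain ⟨F, _, _, ⟨e⟩⟩ := h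
  exact (row_chev F).of_equiv e.symm

end Cfsg.Agent.H293.Conj.RowE8
end

-- part: H24/Conj/Ree
section
/-!
# The conjugation character (S4792): the small Ree groups (helper24, task 3787)

`row_ree` : tool M with the cyclic CC-subgroup of order `q - r + 1`, `r = 3 ^ (m + 1)`, `q = 3 ^ (2 m + 1)`.
-/

set_option autoImplicit false

namespace Cfsg.Agent.H24.Conj

open Cfsg Subgroup
open Cfsg.Agent.H430.Conj

/-- A nontrivial irreducible character of a nonabelian simple group has degree at least the minimal degree. -/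
theorem le_of_minDeg {G : Type*} [Group G] [IsSimpleGroup G] (hna : ¬ ∀ a b : G, a * b = b * a) {D : ℕ}
    (hD : H514.DP.MinDeg G D) {χ : G → ℂ} {d : ℕ} (hχ : IsIrrCharacter G χ) (h1 : χ ≠ 1) (hd : χ 1 = d) : D ≤ d := by
  obtain ⟨n, ρ, hρ, rfl⟩ := hχ
  have hn : ρ.character 1 = n := by
    rw [Representation.char_one, Module.finrank_fin_fun]
  have hnd : n = d := by
    rw [hn] at hd
    exact_mod_cast hd
  subst hnd
  refine hD n ρ hρ ?_
  by_contra hlt
  push Not at hlt
  -- degree at most one: the image is commutative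
  have hcomm : ∀ f g : Module.End ℂ (Fin n → ℂ), f * g = g * f := by
    intro f g
    interval_cases n
    · exact Subsingleton.elim _ _
    · have h : ∀ f : Module.End ℂ (Fin 1 → ℂ), ∃ c : ℂ, f = c • 1 := by
        intro f
        refine ⟨f 1 0, ?_⟩
        apply LinearMap.ext
        intro v
        have hv : v = v 0 • (1 : Fin 1 → ℂ) := by
          funext i
          rw [Subsingleton.elim i 0]
          simp
        rw [hv, map_smul]
        funext i
        rw [Subsingleton.elim i 0]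
        simp only [mul_comm, _root_.Fin.isValue, _root_.Pi.smul_apply, _root_.smul_eq_mul, _root_.map_smul, _root_.LinearMap.smul_apply, _root_.Module.End.one_apply, _root_.Pi.one_apply, _root_.one_mul]
      obtain ⟨a, rfl⟩ := h f
      obtain ⟨b, rfl⟩ := h g
      rw [smul_mul_smul_comm, smul_mul_smul_comm, mul_comm]
  rcases (MonoidHom.normal_ker ρ).eq_bot_or_eq_top with h | h
  · apply hna
    intro a b
    apply (MonoidHom.ker_eq_bot_iff ρ).1 h
    rw [map_mul, map_mul, hcomm]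
  · apply h1
    have htr : ∀ g, ρ g = 1 := fun g => by
      have : g ∈ MonoidHom.ker ρ := by rw [h]; trivial
      exact this
    have hn0 : n = 1 := by
      rcases Nat.eq_zero_or_pos n with h0 | h0
      · exfalso
        subst h0
        obtain ⟨a, b, hab⟩ := hρ.toNontrivial
        apply hab
        apply Subrepresentation.toSubmodule_injective
        exact Subsingleton.elim _ _
      · omega
    subst hn0
    funext g
    rw [Representation.character, htr g, LinearMap.trace_one, Module.finrank_fin_fun]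
    simp

section arith

variable {m : ℕ}

theorem nums (hm : 1 ≤ m) : ∃ r q : ℕ, r = 3 ^ (m + 1) ∧ q = 3 ^ (2 * m + 1) ∧ 9 ≤ r ∧ r ^ 2 = 3 * q ∧ (q % 2 = 1 ∧
    r % 2 = 1) ∧ 3 * r ≤ q := by
  refine ⟨3 ^ (m + 1), 3 ^ (2 * m + 1), rfl, rfl, ?_, ?_, ⟨?_, ?_⟩, ?_⟩
  · calc 9 = 3 ^ 2 := by norm_num
      _ ≤ 3 ^ (m + 1) := Nat.pow_le_pow_right (by norm_num) (by omega)
  · ring
  · rw [Nat.pow_mod]; simp
  · rw [Nat.pow_mod]; simp
  · calc 3 * 3 ^ (m + 1) = 3 ^ (m + 2) := by ring
      _ ≤ 3 ^ (2 * m + 1) := Nat.pow_le_pow_right (by norm_num) (by omega)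

/-- `q - r + 1` divides `q ^ 2 - q + 1` -/
theorem dvd_cyclo (hm : 1 ≤ m) :
    3 ^ (2 * m + 1) - 3 ^ (m + 1) + 1 ∣ (3 ^ (2 * m + 1)) ^ 2 - 3 ^ (2 * m + 1) + 1 := by
  obtain ⟨r, q, hr, hq, h9, hrq, -, h3⟩ := nums hm
  rw [← hr, ← hq]
  refine ⟨q + r + 1, ?_⟩
  have h1 : q ≤ q ^ 2 := by nlinarith only []
  zify [h1, (show r ≤ q by omega)]
  have h2 : (r : ℤ) ^ 2 = 3 * q := by exact_mod_cast hrq
  linear_combination h2

theorem order_eq (hm : 1 ≤ m) {n : ℕ} (h : 3 ^ (2 * m + 1) - 3 ^ (m + 1) + 1 ∣ n)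
    (hn : n ∣ 6 ∨ n ∣ 9 ∨ n ∣ 3 ^ (2 * m + 1) - 1 ∨ n ∣ (3 ^ (2 * m + 1) + 1) / 2 ∨
        n ∣ 3 ^ (2 * m + 1) - 3 ^ (m + 1) + 1 ∨ n ∣ 3 ^ (2 * m + 1) + 3 ^ (m + 1) + 1) :
    n = 3 ^ (2 * m + 1) - 3 ^ (m + 1) + 1 := by
  obtain ⟨r, q, hr, hq, h9, hrq, h2, h3⟩ := nums hm
  rw [← hr, ← hq] at h hn ⊢
  obtain ⟨t, ht⟩ : ∃ t, t = q - r + 1 := ⟨_, rfl⟩
  have ht' : t + r = q + 1 := by (clear * - h3 ht; omega)
  rw [← ht] at h hn ⊢
  rcases hn with hn | hn | hn | hn | hn | hn
  · have := Nat.le_of_dvd (by norm_num) (h.trans hn)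
    (clear * - hr h2 h3 ht' this; omega)
  · have := Nat.le_of_dvd (by norm_num) (h.trans hn)
    (clear * - h9 h3 ht' this; omega)
  · obtain ⟨k, hk⟩ := h.trans hn
    have h1 : k < 2 := by
      by_contra hc
      push Not at hc
      have := Nat.mul_le_mul_left t hc
      (clear * - h3 ht' hk this; omega)
    interval_cases k <;> (clear * - hq h2 hk ht'; omega)
  · have := Nat.le_of_dvd (by (clear * - h2; omega)) (h.trans hn)
    (clear * - h3 ht' this; omega)
  · exact Nat.dvd_antisymm hn h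
  · obtain ⟨k, hk⟩ := h.trans hn
    have h1 : k < 3 := by
      by_contra hc
      push Not at hc
      have := Nat.mul_le_mul_left t hc
      (clear * - h3 ht' hk this; omega)
    interval_cases k <;> (clear * - hk h2 ht'; omega)

end arith

section model

variable {K : Type*} [Field K] [Fintype K] {m : ℕ}

/-- **The Ree groups**: the model. -/
theorem row_model (hm : 1 ≤ m) (hK : Fintype.card K = 3 ^ (2 * m + 1)) :
    Row ↥(Cfsg.Lie.twistedG2 K (3 ^ m)) := by
  have hfin : Finite ↥(Cfsg.Lie.twistedG2 K (3 ^ m)) := by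
    apply Nat.finite_of_card_ne_zero
    rw [Cfsg.Agent.LieRecognition.ReeFinal.card hK]
    have h1 : 0 < 3 ^ (2 * m + 1) := by positivity
    have h2 : 0 < 3 ^ (2 * m + 1) - 1 := by
      have : 3 ^ 1 ≤ 3 ^ (2 * m + 1) := Nat.pow_le_pow_right (by norm_num) (by omega)
      omega
    positivity
  have hs : IsSimpleGroup ↥(Cfsg.Lie.twistedG2 K (3 ^ m)) := (Cfsg.Agent.S1073.result hm hK).1
  obtain ⟨r, q, hr, hq, h9, hrq, h2, h3⟩ := nums hm
  obtain ⟨x, hx⟩ := (Cfsg.Agent.S1159.result hm hK (3 ^ (2 * m + 1) - 3 ^ (m + 1) + 1)).2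
    (Or.inr (Or.inr (Or.inr (Or.inr (Or.inl dvd_rfl)))))
  have hx1 : x ≠ 1 := by
    rintro rfl
    rw [orderOf_one, ← hr, ← hq] at hx
    (clear * - h2 h3 hx; omega)
  have hcyc : ∀ y : ↥(Cfsg.Lie.twistedG2 K (3 ^ m)), y ≠ 1 →
      orderOf y ∣ 3 ^ (2 * m + 1) - 3 ^ (m + 1) + 1 → IsCyclic (centralizer {y}) := fun y hy hd =>
    (Cfsg.Agent.LieRecognition.ReeTorusTw.isCyclic_centralizer hK hy (hd.trans (dvd_cyclo hm))).1
  have hcom : ∀ y : ↥(Cfsg.Lie.twistedG2 K (3 ^ m)), IsCyclic (centralizer {y}) →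
      ∀ a ∈ centralizer {y}, ∀ b ∈ centralizer {y}, a * b = b * a := by
    intro y hy a ha b hb
    have := hy.isMulCommutative.is_comm.comm ⟨a, ha⟩ ⟨b, hb⟩
    exact congrArg Subtype.val this
  set C : Subgroup ↥(Cfsg.Lie.twistedG2 K (3 ^ m)) := centralizer {x} with hC
  have hCc := hcyc x hx1 (hx ▸ dvd_rfl)
  have hxC : x ∈ C := mem_centralizer_singleton_iff.2 rfl
  -- the order of `C`
  have hcard : Nat.card C = 3 ^ (2 * m + 1) - 3 ^ (m + 1) + 1 := by
    obtain ⟨⟨y, hy⟩, hy'⟩ := hCc.exists_ofOrder_eq_natCard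
    rw [← hy']
    apply order_eq hm
    · rw [hy', ← hx, ← Subgroup.orderOf_mk x hxC]
      exact _root_.orderOf_dvd_natCard _
    · exact (Cfsg.Agent.S1159.result hm hK _).1 ⟨y, (Subgroup.orderOf_mk y hy).symm⟩
  refine row_of_cc (C := C) ?_ ?_ ?_
  · intro h
    apply hx1
    rw [h] at hxC
    exact hxC
  · intro c hc hc1
    have hd : orderOf c ∣ 3 ^ (2 * m + 1) - 3 ^ (m + 1) + 1 := by
      rw [← hcard, ← Subgroup.orderOf_mk c hc]
      exact _root_.orderOf_dvd_natCard _
    apply le_antisymm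
    · intro z hz
      rw [hC, mem_centralizer_singleton_iff]
      refine hcom c (hcyc c hc1 hd) z hz x ?_
      rw [mem_centralizer_singleton_iff]
      rw [hC, mem_centralizer_singleton_iff] at hc
      exact hc.symm
    · intro z hz
      rw [mem_centralizer_singleton_iff]
      exact hcom x hCc z hz c hc
  · intro χ d hχ h1 hd
    have hna : ¬ ∀ a b : ↥(Cfsg.Lie.twistedG2 K (3 ^ m)), a * b = b * a := by
      intro h
      obtain ⟨g, hg⟩ := (Cfsg.Agent.S1159.result hm hK 2).2 (Or.inl (by norm_num))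
      have hgC : g ∈ C := mem_centralizer_singleton_iff.2 (h g x)
      have h4 : 2 ∣ q - r + 1 := by
        rw [hr, hq, ← hcard, ← hg, ← Subgroup.orderOf_mk g hgC]
        exact _root_.orderOf_dvd_natCard _
      (clear * - h2 h4; omega)
    have h4 := le_of_minDeg hna (D := (3 ^ (2 * m + 1)) ^ 2 - 3 ^ (2 * m + 1) + 1)
      (fun k ρ hρ hk => Cfsg.Agent.S2343.result m hm hK k ρ hρ hk) hχ h1 hd
    rw [hcard, ← hr, ← hq]
    rw [← hq] at h4
    have h5 : q ≤ q ^ 2 := by nlinarith only []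
    obtain ⟨s, hs⟩ : ∃ s, q = r + s := ⟨q - r, by (clear * - h3; omega)⟩
    have h6 : q - r + 1 - 1 ≤ q := by (clear * -; omega)
    have h7 : q - r + 1 ≤ q := by (clear * - h2; omega)
    calc (q - r + 1) ^ 2 * (q - r + 1 - 1) ≤ q ^ 2 * q := Nat.mul_le_mul (Nat.pow_le_pow_left h7 2) h6
      _ ≤ (q * (q - 1)) ^ 2 := by
        obtain ⟨u, hu⟩ : ∃ u, q = u + 1 := ⟨q - 1, by (clear * - h2; omega)⟩
        rw [hu, Nat.add_sub_cancel, mul_pow]
        exact Nat.mul_le_mul_left _ (by nlinarith only [hrq, h3, hu])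
      _ ≤ d ^ 2 := Nat.pow_le_pow_left (le_trans (by
        zify [h5, (show 1 ≤ q by omega)]
        linarith only []) h4) 2

end model

/-- **S4792, the small Ree groups** -/
theorem row_ree {S : Type*} [Group S] (h : Cfsg.Lie.IsoRee S) : Row S := by
  obtain ⟨K, _, _, m, hm, hK, ⟨e⟩⟩ := h
  have hfin : Finite ↥(Cfsg.Lie.twistedG2 K (3 ^ m)) := by
    apply Nat.finite_of_card_ne_zero
    rw [Cfsg.Agent.LieRecognition.ReeFinal.card hK]
    have h1 : 0 < 3 ^ (2 * m + 1) := by positivity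
    have h2 : 0 < 3 ^ (2 * m + 1) - 1 := by
      have : 3 ^ 1 ≤ 3 ^ (2 * m + 1) := Nat.pow_le_pow_right (by norm_num) (by omega)
      omega
    positivity
  exact Row.of_equiv e.symm (row_model hm hK)

end Cfsg.Agent.H24.Conj
end

-- part: H206/Conj/CCW
section
/-!
# The conjugation character: CC-subgroups with small normalisers (helper206, S4792)

* `row_of_ccw` : a CC-subgroup `C` of order `t`, `|N(C)| ≤ w t` and `w t (t - 1) ≤ d²` for the degrees `d` of the
  nontrivial irreducible characters.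
-/

set_option autoImplicit false

open Cfsg
open scoped ComplexConjugate

namespace Cfsg.Agent.H206.Conj

open Cfsg.Agent.Characters.Core Cfsg.Agent.H430.Conj Cfsg.Agent.Characters

universe u

theorem sum_norm_sq_eq {G : Type u} [Group G] [Fintype G] {χ : G → ℂ} (hχ : IsIrrCharacter G χ) :
    ∑ g : G, ‖χ g‖ ^ 2 = (Nat.card G : ℝ) := by
  have h1 := classInner_irr_self hχ
  rw [classInner_self_eq_ofReal] at h1
  have h2 : (Nat.card G : ℝ)⁻¹ * ∑ g : G, Complex.normSq (χ g) = 1 := by exact_mod_cast h1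
  have h3 : (Nat.card G : ℝ) ≠ 0 := by exact_mod_cast Nat.card_pos.ne'
  have h4 : ∑ g : G, Complex.normSq (χ g) = (Nat.card G : ℝ) := by
    field_simp at h2
    exact h2
  rw [← h4]
  refine Finset.sum_congr rfl fun g _ => ?_
  rw [Complex.normSq_eq_norm_sq]

/-- **Tool M with the index of the normaliser.** `C` is a CC-subgroup of order `t`, `|N(C)| ≤ w t`, the degrees `d` of
the nontrivial irreducible characters satisfy `w t (t - 1) ≤ d²`. -/
theorem row_of_ccw {G : Type u} [Group G] [Finite G] {C : Subgroup G} (hC1 : C ≠ ⊥)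
    (hC : ∀ c ∈ C, c ≠ 1 → Subgroup.centralizer {c} = C) {w : ℕ}
    (hw : Nat.card (Subgroup.normalizer (C : Set G)) ≤ w * Nat.card C)
    (hd : ∀ (χ : G → ℂ) (d : ℕ), IsIrrCharacter G χ → χ ≠ 1 → χ 1 = d →
      w * Nat.card C * (Nat.card C - 1) ≤ d ^ 2) : Row G := by
  classical
  intro χ hχ
  obtain ⟨x, hx, hx1⟩ := C.bot_or_exists_ne_one.resolve_left hC1
  refine ⟨x, ?_⟩
  rw [hC x hx hx1]
  by_cases h1 : χ = 1
  · rw [h1]
    exact hasFix_one C
  intro h0
  obtain ⟨d, hdpos, hd1⟩ := isIrr_apply_one hχ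
  have hdd := hd χ d hχ h1 hd1
  have := Fintype.ofFinite C
  have := Fintype.ofFinite G
  have ht : 2 ≤ Nat.card C := by
    have : Nontrivial C := (Subgroup.nontrivial_iff_ne_bot C).2 hC1
    exact Finite.one_lt_card
  set t := Nat.card C with htd
  have hcc : CCBasic.IsCC C := ⟨hC1, hC⟩
  have hclass : ∀ g h : G, ‖χ (h * g * h⁻¹)‖ ^ 2 = ‖χ g‖ ^ 2 := by
    intro g h
    rw [isIrr_isClassFunction hχ g h]
  have hsum := CCCounting.sum_inConj hcc (fun g => ‖χ g‖ ^ 2) hclass
  -- the norm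
  have hnorm : (∑ y ∈ Finset.univ.filter (fun y : G => CCCounting.InConj C y), ‖χ y‖ ^ 2) + (d : ℝ) ^ 2 ≤
      (Nat.card G : ℝ) := by
    rw [← sum_norm_sq_eq hχ]
    have h2 : (1 : G) ∉ Finset.univ.filter (fun y : G => CCCounting.InConj C y) := by
      rw [Finset.mem_filter]
      exact fun h => CCCounting.one_not_inConj C h.2
    have h3 : ‖χ 1‖ ^ 2 = (d : ℝ) ^ 2 := by rw [hd1, Complex.norm_natCast]
    have h4 := Finset.sum_insert (f := fun g : G => ‖χ g‖ ^ 2) h2
    rw [← h3, add_comm, ← h4]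
    exact Finset.sum_le_sum_of_subset_of_nonneg (Finset.subset_univ _) fun _ _ _ => by (clear * -; positivity)
  -- the sum over `C`
  rw [finsum_eq_sum_of_fintype, ← Finset.add_sum_erase _ _ (Finset.mem_univ (1 : C))] at h0
  have h2 : ‖χ 1‖ ≤ ∑ c ∈ Finset.univ.erase (1 : C), ‖χ c‖ := by
    have h3 : χ 1 = - ∑ c ∈ Finset.univ.erase (1 : C), χ c := by
      rw [OneMemClass.coe_one] at h0
      exact eq_neg_of_add_eq_zero_left h0
    rw [h3, norm_neg]
    exact norm_sum_le _ _
  set SS := ∑ c ∈ Finset.univ.erase (1 : C), ‖χ c‖ ^ 2 with hSS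
  have hcs : (∑ c ∈ Finset.univ.erase (1 : C), ‖χ c‖) ^ 2 ≤ ((t : ℝ) - 1) * SS := by
    have h3 := sq_sum_le_card_mul_sum_sq (s := Finset.univ.erase (1 : C)) (f := fun c : C => ‖χ c‖)
    rw [Finset.card_erase_of_mem (Finset.mem_univ _), Finset.card_univ, ← Nat.card_eq_fintype_card, ← htd,
      Nat.cast_sub (by omega), Nat.cast_one] at h3
    exact h3
  have hGpos : (0 : ℝ) < Nat.card G := by exact_mod_cast Nat.card_pos
  have hSlt : SS < (w : ℝ) * t := by
    have h3 : Finset.univ.filter (fun a : C => a ≠ 1) = Finset.univ.erase (1 : C) := Finset.filter_ne' _ _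
    rw [h3, ← hSS] at hsum
    have h4 : (∑ y ∈ Finset.univ.filter (fun y : G => CCCounting.InConj C y), ‖χ y‖ ^ 2) < (Nat.card G : ℝ) := by
      have : (0 : ℝ) < (d : ℝ) ^ 2 := by positivity
      linarith only [hnorm, this]
    have hNpos : (0 : ℝ) < Nat.card (Subgroup.normalizer (C : Set G)) := by exact_mod_cast Nat.card_pos
    have h5 : (Nat.card G : ℝ) * SS < Nat.card (Subgroup.normalizer (C : Set G)) * (Nat.card G : ℝ) := by
      rw [← hsum]
      exact mul_lt_mul_of_pos_left h4 hNpos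
    have h6 : SS < Nat.card (Subgroup.normalizer (C : Set G)) := by
      rw [mul_comm] at h5
      exact lt_of_mul_lt_mul_right h5 hGpos.le
    have h7 : ((Nat.card (Subgroup.normalizer (C : Set G)) : ℕ) : ℝ) ≤ ((w * t : ℕ) : ℝ) := by exact_mod_cast hw
    push_cast at h7
    linarith only [h6, h7]
  have ht' : (2 : ℝ) ≤ t := by exact_mod_cast ht
  have h7 : (d : ℝ) ^ 2 < ((t : ℝ) - 1) * (w * t) := by
    have h8 : (d : ℝ) ^ 2 ≤ (∑ c ∈ Finset.univ.erase (1 : C), ‖χ c‖) ^ 2 := by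
      rw [hd1, Complex.norm_natCast] at h2
      gcongr
    have h9 : ((t : ℝ) - 1) * SS < ((t : ℝ) - 1) * (w * t) := mul_lt_mul_of_pos_left hSlt (by linarith only [ht'])
    linarith only [hcs, h8, h9]
  have h8 : (w : ℝ) * t * (t - 1) ≤ (d : ℝ) ^ 2 := by
    have : (((w * t * (t - 1) : ℕ)) : ℝ) ≤ ((d ^ 2 : ℕ) : ℝ) := by exact_mod_cast hdd
    rw [Nat.cast_mul, Nat.cast_sub (by omega)] at this
    push_cast at this
    exact this
  linarith only [h7, h8]

end Cfsg.Agent.H206.Conj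
end

-- part: H206/Conj/TD4
section
/-!
# The conjugation character of `³D₄(q)` (helper206, S4792)

The torus of order `t = q⁴ - q² + 1` is a CC-subgroup, its normaliser has order dividing `4 t`, the nontrivial irreducible
characters have degree at least `q t`.
-/

set_option autoImplicit false

open Cfsg Cfsg.Lie

namespace Cfsg.Agent.H206.Conj

open Cfsg.Agent.H430.Conj Cfsg.Agent.H56.Exc Cfsg.Agent.H129

universe u

theorem row_twD4 {K : Type u} [Field K] [Fintype K] {q : ℕ} (hq : IsPrimePow q) (hK : Fintype.card K = q ^ 3) :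
    Row ↥(twistedD4 K q) := by
  obtain ⟨hs, hna⟩ := S1071.result hq hK
  have := hs
  have h2 : 2 ≤ q := hq.two_le
  obtain ⟨T, hT, hTc, hcc⟩ := CycT.exact_tD4_12 hq hK (cast_m_TD4_12 h2)
  obtain ⟨r, hr⟩ := H436.exists_prim (e := 12) h2 (by norm_num) (by omega)
  have hbig := big_TD4_12 hq hK (cast_m_TD4_12 h2) hr
  have hrf : Fact r.Prime := ⟨hr.prime⟩
  have hrt : r ∣ m_TD4_12 q := by
    rw [← Int.natCast_dvd_natCast, cast_m_TD4_12 h2]
    exact prim_dvd_12 hr
  -- the numbers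
  have ht : m_TD4_12 q = q ^ 4 - q ^ 2 + 1 := by
    have h1 : q ^ 2 ≤ q ^ 4 := Nat.pow_le_pow_right (by omega) (by norm_num)
    have h3 := cast_m_TD4_12 h2
    zify [h1]
    rw [h3]
    ring
  set t := m_TD4_12 q with htdef
  have ht13 : 13 ≤ t := by
    have h1 : t = q ^ 2 * (q ^ 2 - 1) + 1 := by
      have h1 : 1 ≤ q ^ 2 := Nat.one_le_pow _ _ (by omega)
      have h3 := cast_m_TD4_12 h2
      zify [h1]
      rw [← htdef] at h3
      rw [h3]
      ring
    have h3 : 4 ≤ q ^ 2 := by nlinarith only [h2]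
    have h5 : 4 * 3 ≤ q ^ 2 * (q ^ 2 - 1) := Nat.mul_le_mul h3 (by omega)
    omega
  -- an element of order `r`
  obtain ⟨⟨x, hxT⟩, hx⟩ := exists_prime_orderOf_dvd_card' (G := T) r (by rw [hTc]; exact hrt)
  rw [Subgroup.orderOf_mk] at hx
  -- the normaliser
  have hN : Subgroup.normalizer (T : Set ↥(twistedD4 K q)) ≤ Subgroup.normalizer (Subgroup.zpowers x : Set ↥(twistedD4 K q)) := by
    have key : ∀ n ∈ Subgroup.normalizer (T : Set ↥(twistedD4 K q)), n * x * n⁻¹ ∈ Subgroup.zpowers x := by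
      intro n hn
      have h1 : n * x * n⁻¹ ∈ T := (Subgroup.mem_normalizer_iff.1 hn x).1 hxT
      refine mem_zpowers_of_cyclic hT hxT h1 ?_
      have h3 : orderOf (n * x * n⁻¹) = orderOf x := orderOf_injective (MulAut.conj n).toMonoidHom (MulAut.conj n).injective x
      rw [h3]
    intro n hn
    rw [Subgroup.mem_normalizer_iff]
    have key2 : ∀ n ∈ Subgroup.normalizer (T : Set ↥(twistedD4 K q)), ∀ h ∈ Subgroup.zpowers x, n * h * n⁻¹ ∈ Subgroup.zpowers x := by
      rintro n hn _ ⟨k, rfl⟩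
      have h1 : n * x ^ k * n⁻¹ = (n * x * n⁻¹) ^ k := by rw [conj_zpow]
      simp only [h1]
      exact Subgroup.zpow_mem _ (key n hn) k
    intro h
    constructor
    · exact key2 n hn h
    · intro h1
      have h3 := key2 n⁻¹ (inv_mem hn) _ h1
      have e : n⁻¹ * (n * h * n⁻¹) * n⁻¹⁻¹ = h := by group
      rwa [e] at h3
  have hNc := (Subgroup.card_dvd_of_le hN).trans (hbig.card_normalizer_dvd hx)
  obtain ⟨w, hw⟩ := Subgroup.card_dvd_of_le (Subgroup.le_normalizer (H := T))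
  rw [hTc, mul_comm] at hw
  have hw4 : w ∣ 4 := by
    rw [hw] at hNc
    exact Nat.dvd_of_mul_dvd_mul_right (by omega) hNc
  have hwle : w ≤ 4 := Nat.le_of_dvd (by norm_num) hw4
  have hcc' : ∀ c ∈ T, c ≠ 1 → Subgroup.centralizer {c} = T := hcc
  refine row_of_ccw (C := T) ?_ hcc' (w := 4) (by rw [hw, hTc]; exact Nat.mul_le_mul_right _ hwle) ?_
  · rintro rfl
    rw [Subgroup.card_bot] at hTc
    omega
  · intro χ d hχ h1 hd
    have hna' : ¬ ∀ a b : ↥(twistedD4 K q), a * b = b * a := fun h => hna ⟨⟨h⟩⟩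
    have hd1 : χ 1 ≠ 1 := fun h => h1 (H681.SimpleChar.eq_one_of_degree_one hna' hχ h)
    have hmd : H514.DP.MinDeg ↥(twistedD4 K q) (q * (q ^ 4 - q ^ 2 + 1)) := S2342.result q hq hK
    obtain ⟨n, hn, -, hn1⟩ := hmd.le hχ hd1
    have hnd : n = d := by
      rw [hd] at hn1
      exact_mod_cast hn1.symm
    subst hnd
    rw [← ht] at hn
    rw [hTc]
    have h2t : 2 * t ≤ n := (Nat.mul_le_mul_right t h2).trans hn
    calc 4 * t * (t - 1) ≤ 4 * t * t := Nat.mul_le_mul_left _ (Nat.sub_le _ _)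
      _ = (2 * t) ^ 2 := by ring
      _ ≤ n ^ 2 := Nat.pow_le_pow_left h2t 2

/-- **The row of `³D₄(q)`**. -/
theorem row_td4 {S : Type u} [Group S] (h : Lie.Iso3D4 S) : Row S := by
  obtain ⟨K, _, _, q, hq, hK, ⟨e⟩⟩ := h
  exact Row.of_equiv e.symm (row_twD4 hq hK)

end Cfsg.Agent.H206.Conj
end

-- part: H507/Conj/ESix
section
/-!
# The conjugation character: `E₆(q)` (helper507)
-/

set_option autoImplicit false

open Cfsg

namespace Cfsg.Agent.H507.Conj

open Cfsg.Agent.H430.Conj Cfsg.Agent.H514.DP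

universe u v

theorem e6_num {q N t : ℕ} (hq : 2 ≤ q) (hN : N = 1 + q ^ 3 + q ^ 6) (ht : t ≤ N) (ht1 : 0 < t) :
    (t - 1) ^ 2 * t < (q * (q ^ 6 + q ^ 3 + 1) * (q ^ 4 + 1)) ^ 2 := by
  have h1 : (t - 1) ^ 2 * t ≤ N ^ 2 * N := Nat.mul_le_mul (Nat.pow_le_pow_left (by omega) 2) ht
  refine h1.trans_lt ?_
  have h2 : q ^ 6 + q ^ 3 + 1 = N := by rw [hN]; ring
  rw [h2]
  have h3 : (q * N * (q ^ 4 + 1)) ^ 2 = N ^ 2 * (q ^ 2 * (q ^ 4 + 1) ^ 2) := by ring
  rw [h3]
  have h4 : 0 < N ^ 2 := by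
    rw [hN]; positivity
  refine Nat.mul_lt_mul_of_pos_left ?_ h4
  rw [hN]
  have h5 : q ^ 3 ≤ q ^ 6 := Nat.pow_le_pow_right (by omega) (by norm_num)
  have h6 : q ^ 6 * 4 ≤ q ^ 2 * (q ^ 4 + 1) ^ 2 := by
    have h7 : q ^ 2 * (q ^ 4 + 1) ^ 2 = q ^ 6 * q ^ 4 + 2 * q ^ 6 + q ^ 2 := by ring
    have h8 : 2 ^ 4 ≤ q ^ 4 := Nat.pow_le_pow_left hq 4
    rw [h7]
    linarith only [hN, ht, ht1, h5, Nat.mul_le_mul_left (q ^ 6) h8, _root_.sq_nonneg (↑q : ℤ)]
  have h9 : 1 ≤ q ^ 3 := Nat.one_le_pow _ _ (by omega)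
  omega

/-- `E₆(q)` -/
theorem row_chevE6 {F : Type u} [Field F] [Fintype F] [IsSimpleGroup ↥(Lie.chevE6.group F)]
    (hna : ¬ IsMulCommutative ↥(Lie.chevE6.group F)) : Row ↥(Lie.chevE6.group F) := by
  have hq : 2 ≤ Fintype.card F := Fintype.one_lt_card
  have hE := H129.CycT.exact_E6_9 (F := F) (q := Fintype.card F) rfl (N := 1 + Fintype.card F ^ 3 + Fintype.card F ^ 6)
    (by push_cast; rfl)
  set N := 1 + Fintype.card F ^ 3 + Fintype.card F ^ 6 with hN
  have hg : Nat.gcd 3 (Fintype.card F - 1) ≤ 3 := Nat.gcd_le_left _ (by norm_num)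
  have hg0 : 0 < Nat.gcd 3 (Fintype.card F - 1) := Nat.gcd_pos_of_pos_left _ (by norm_num)
  have h8 : 2 ^ 3 ≤ Fintype.card F ^ 3 := Nat.pow_le_pow_left hq 3
  have ht : 1 < N / Nat.gcd 3 (Fintype.card F - 1) := by
    have : 3 * 2 ≤ N := by omega
    have h9 : 2 * Nat.gcd 3 (Fintype.card F - 1) ≤ N := by omega
    exact (Nat.le_div_iff_mul_le hg0).2 h9
  refine row_of_exact hna hE ht (d := Fintype.card F * (Fintype.card F ^ 6 + Fintype.card F ^ 3 + 1) *
    (Fintype.card F ^ 4 + 1)) (fun k ρ hρ hk => Cfsg.Agent.S2340.result k ρ hρ hk) ?_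
  exact e6_num hq hN (Nat.div_le_self _ _) (by omega)

/-- **Row `E₆(q)`.** -/
theorem row_e6 {S : Type v} [Group S] [Finite S] (_hs : IsSimpleGroup S) (h : Lie.IsoChevE6 S) : Row S := by
  obtain ⟨F, hF, hF', ⟨e⟩⟩ := h
  have h1 : IsSimpleGroup ↥(Lie.chevE6.group F) ∧ ¬ IsMulCommutative ↥(Lie.chevE6.group F) :=
    S1054.result Lie.chevE6 (by simp)
  have := h1.1
  have : Finite ↥(Lie.chevE6.group F) := Finite.of_equiv S e.toEquiv
  exact Row.of_equiv e.symm (row_chevE6 h1.2)

end Cfsg.Agent.H507.Conj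
end

-- part: H476/Conj/TwF4
section
/-!
# The conjugation character: `²F₄(q)` (S4792, helper476)

The torus of order `q² + √(2q³) + q + √(2q) + 1` is a CC-subgroup; the nontrivial characters have degree `≥ 2 q⁴`.
-/

set_option autoImplicit false

open Cfsg

namespace Cfsg.Agent.H476.Conj

open Cfsg.Lie Cfsg.Agent.H430.Conj Cfsg.Agent.Characters.Core Subgroup

/-- a lower bound for the degrees, for characters -/
theorem le_of_minDeg {G : Type*} [Group G] [Finite G] [hs : IsSimpleGroup G] {b : ℕ} (h : H122.MinDeg G b) {χ : G → ℂ}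
    (hχ : IsIrrCharacter G χ) (h1 : χ ≠ 1) {d : ℕ} (hd : χ 1 = d) : b ≤ d := by
  obtain ⟨n, ρ, hρ, rfl⟩ := hχ
  have hn : n = d := by
    rw [Representation.char_one] at hd
    simp only [Module.finrank_fintype_fun_eq_card, Fintype.card_fin] at hd
    exact_mod_cast hd
  subst hn
  obtain ⟨g, hg⟩ := exists_ne (1 : G)
  have h2 := h (Fin n → ℂ) ρ ⟨g, fun h3 => hg (injective_of_simple hρ h1 (by rw [h3, map_one]))⟩
  simpa only [_root_.ge_iff_le, _root_.Module.finrank_fintype_fun_eq_card, _root_.Fintype.card_fin] using h2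

theorem arith_aux {b q : ℕ} (hb : 2 ≤ b) (hq : q = 2 * b ^ 2) :
    1 + 2 * b + 2 * b ^ 2 + 4 * b ^ 3 + 4 * b ^ 4 ≤ 3 * q ^ 2 ∧ 8 ≤ q := by
  have h1 : 4 ≤ b ^ 2 := by nlinarith
  refine ⟨?_, by omega⟩
  have e3 : 2 * b ^ 3 ≤ b ^ 4 := by
    calc 2 * b ^ 3 ≤ b * b ^ 3 := Nat.mul_le_mul_right _ hb
      _ = b ^ 4 := by ring
  have e2 : 4 * b ^ 2 ≤ b ^ 4 := by
    calc 4 * b ^ 2 ≤ b ^ 2 * b ^ 2 := Nat.mul_le_mul_right _ h1
      _ = b ^ 4 := by ring
  have e1 : 2 * b ≤ b ^ 2 := by nlinarith only [h1]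
  have e4 : q ^ 2 = 4 * b ^ 4 := by rw [hq]; ring
  omega

/-- the row of `²F₄(q)` -/
theorem row_tf4 {S : Type*} [Group S] [Finite S] (h : Lie.Iso2F4 S) (hs : IsSimpleGroup S) : Row S := by
  obtain ⟨K, _, _, m, hm, hK, ⟨e⟩⟩ := h
  have hsT : IsSimpleGroup ↥(twistedF4 K (2 ^ m)) := e.symm.isSimpleGroup
  have hfin : Finite ↥(twistedF4 K (2 ^ m)) := Finite.of_equiv S e.toEquiv
  refine Row.of_equiv e.symm ?_
  have hmin := H122.Cyc.TwF4.minDeg_twf4 hm hK hsT
  set N := 1 + 2 * (2 ^ m) + 2 * (2 ^ m) ^ 2 + 4 * (2 ^ m) ^ 3 + 4 * (2 ^ m) ^ 4 with hN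
  obtain ⟨T, -, hT1, hT⟩ := H129.CycCard.exact_tF4_plus hK (N := N) (by rw [hN]; push_cast; ring)
  have hb : 2 ≤ 2 ^ m := by
    calc 2 = 2 ^ 1 := by norm_num
      _ ≤ 2 ^ m := Nat.pow_le_pow_right (by norm_num) hm
  have hq : 2 ^ (2 * m + 1) = 2 * (2 ^ m) ^ 2 := by
    rw [← pow_mul, pow_succ, mul_comm m 2]; ring
  obtain ⟨h3, h8⟩ := arith_aux hb hq
  have hT0 : T ≠ ⊥ := by
    rintro rfl
    rw [Subgroup.card_bot] at hT1
    omega
  refine row_of_cc hT0 hT fun χ d hχ hχ1 hd => ?_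
  have h1 := le_of_minDeg hmin hχ hχ1 hd
  rw [hK] at h1
  rw [hT1]
  rw [← hN] at h3
  generalize 2 ^ (2 * m + 1) = q at *
  calc N ^ 2 * (N - 1) ≤ (3 * q ^ 2) ^ 2 * (3 * q ^ 2) :=
        Nat.mul_le_mul (Nat.pow_le_pow_left h3 2) ((Nat.sub_le _ _).trans h3)
    _ = 27 * q ^ 6 := by ring
    _ ≤ (4 * q ^ 2) * q ^ 6 := Nat.mul_le_mul_right _ (by nlinarith only [h8])
    _ = (2 * q ^ 4) ^ 2 := by ring
    _ ≤ d ^ 2 := Nat.pow_le_pow_left h1 2

end Cfsg.Agent.H476.Conj
end

-- part: H430/Conj/AsmLie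
section
/-!
# S4792: assembly of the rows of the groups of Lie type (helper430)
-/

set_option autoImplicit false

open Cfsg

namespace Cfsg.Agent.H430.Conj

universe u

/-- The unitary row. -/
theorem row_psu {S : Type u} [Group S] [Finite S] (hs : IsSimpleGroup S) (h : IsPSU S)
    (hnot : ¬ ∃ (n q : ℕ) (F : Type) (_ : Field F) (_ : Fintype F), 3 ≤ n ∧ Nat.Coprime n (2 * (q + 1)) ∧
      Fintype.card F = q ^ 2 ∧ Nonempty (S ≃* Cfsg.PSU n F q)) : Row S := by
  obtain ⟨F, _, _, n, q, hF, hn, hn3, ⟨e⟩⟩ := h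
  have hco : ¬ Nat.Coprime n (2 * (q + 1)) := fun hco =>
    hnot ⟨n, q, F, inferInstance, inferInstance, hn, hco, hF, ⟨e⟩⟩
  by_cases h4 : 4 ≤ n
  · exact H917.CJ.row_psu hs hF h4 hco e
  · obtain rfl : n = 3 := by omega
    refine H783.Psu3.row_psu3 hs hF ?_ ⟨e⟩
    by_contra h
    apply hco
    exact Nat.Coprime.mul_right (by norm_num) ((Nat.Prime.coprime_iff_not_dvd Nat.prime_three).2 h)

/-- The exceptional groups of Lie type. -/
theorem row_exceptional {S : Type u} [Group S] [Finite S] (hs : IsSimpleGroup S) (h : IsExceptionalLieType S) :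
    Row S := by
  rcases h with h | h | h | h | h | h | h | h | h | h | h
  · exact H759.Conj.row_g2 h hs
  · exact H267.ConjF4.row_f4 hs h
  · exact H507.Conj.row_e6 hs h
  · exact H724.Conj.E7.row_E7 hs h
  · exact H293.Conj.RowE8.row_e8 hs h
  · exact H352.Conj.row_te6 h
  · exact H206.Conj.row_td4 h
  · exact H973.Conj.row_sz h hs
  · exact H24.Conj.row_ree h
  · exact H476.Conj.row_tf4 h hs
  · exact H476.Conj.row_tits h hs

/-- All known simple groups. -/
theorem row_known {S : Type u} [Group S] [Finite S] (hs : IsSimpleGroup S) (h : IsKnownSimple' S)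
    (hna : ¬ IsMulCommutative S)
    (hnot : ¬ ∃ (n q : ℕ) (F : Type) (_ : Field F) (_ : Fintype F), 3 ≤ n ∧ Nat.Coprime n (2 * (q + 1)) ∧
      Fintype.card F = q ^ 2 ∧ Nonempty (S ≃* Cfsg.PSU n F q))
    (hSpor : ∀ {S : Type u} [Group S] [Finite S], IsSimpleGroup S → IsSporadicGroup S → Row S) : Row S := by
  rcases h with h | h | h | h | h | h | h | h | h | h
  · exfalso
    apply hna
    have : Fact (Nat.card S).Prime := ⟨h⟩
    have h1 : IsCyclic S := isCyclic_of_prime_card rfl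
    exact ⟨⟨fun a b => (IsCyclic.commGroup (α := S)).mul_comm a b⟩⟩
  · exact row_alt h
  · exact H917.CJ.row_isPSL hs h
  · exact H917.CJ.row_isPSp hs h
  · exact row_psu hs h hnot
  · exact H93.CJ.row_of_isPOmegaOdd h
  · exact H530.CJ.row_isPOmegaPlus h
  · exact H93.CJ.row_of_isPOmegaMinus h
  · exact row_exceptional hs h
  · exact hSpor hs h

end Cfsg.Agent.H430.Conj
end
end
end
end
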